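/-
Recognition of the Ree group over the field of two elements: the extension of degree two of the Tits group.
-/
import Cfsg.Agent.RF2.Defs
import Cfsg.Agent.Known.GTitsOI
import Cfsg.Agent.Known.GTitsOO
import Cfsg.Agent.Known.ChevCongr
import Cfsg.Agent.Cls.OutGrp
import Cfsg.Agent.S1074
import Cfsg.Agent.S2185

set_option autoImplicit false
open Cfsg Subgroup CL.Grp CL.Even
open scoped commutatorElement

namespace CL.RF2

universe u v

namespace Aut

open Lie

instance fin : Finite TitsGroup := Nat.finite_of_card_ne_zero (by rw [Cfsg.Agent.S1074.result.2.2.2]; norm_num)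

theorem out_le {X Y : Type*} [Group X] [Group Y] (e : X ≃* Y) (h : Nat.card (Out X) ≤ 2) : Nat.card (Out Y) ≤ 2 :=
  (Nat.card_congr (CL.Cls.outCongr e).toEquiv).ge.trans h

theorem card_out : Nat.card (Out TitsGroup) ≤ 2 := by
  obtain ⟨x, h⟩ := CL.Pc.GTitsO.full CL.Pc.GTitsO.input
  obtain ⟨e⟩ := CL.Std.Tits.iso
  exact out_le e (CL.Pc.GTitsO.O.out_le h).1

theorem equiv {G X : Type*} [Group G] [Finite G] [Group X] [Finite X] (hX : Nat.card (Out X) ≤ 2) {T : Subgroup G}
    [T.Normal] (hT : T.index = 2) (hc : 𝒞(T) = ⊥) (e : T ≃* X) : Nonempty (G ≃* MulAut X) := by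
  let ψ : G →* MulAut X := (MulAut.congr e).toMonoidHom.comp MulAut.conjNormal
  have hψ : Function.Injective ψ := (injective_iff_map_eq_one ψ).2 fun g hg => mem_bot.1 (hc.le fun t ht => by
    have h1 : (MulAut.conjNormal g : MulAut T) = 1 := (map_eq_one_iff _ (MulAut.congr e).injective).1 hg
    exact (mul_inv_eq_iff_eq_mul.1 (congrArg Subtype.val (DFunLike.congr_fun h1 ⟨t, ht⟩))).symm)
  refine ⟨MulEquiv.ofBijective ψ (hψ.bijective_of_nat_card_le ?_)⟩
  rw [← T.index_mul_card, hT, Nat.card_congr e.toEquiv, card_eq_card_quotient_mul_card_subgroup (Inn X)]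
  exact Nat.mul_le_mul hX (Nat.card_le_card_of_surjective _ (MonoidHom.rangeRestrict_surjective _))

theorem cent {M : Type*} [Group M] {T : Subgroup M} (h1 : T.index = 2) (h2 : IsSimpleGroup T)
    (h3 : ¬ IsMulCommutative T) (h4 : ∀ g, orderOf g = 2 → g ∈ T) : 𝒞(T) = ⊥ := by
  have k : ∀ c ∈ 𝒞(T), c ∈ T → c = 1 := fun c hc hT => by
    rcases (inferInstance : (center T).Normal).eq_bot_or_eq_top with e | e
    · exact congrArg Subtype.val (mem_bot.1 (e.le (mem_center_iff.2 fun g => Subtype.ext (hc g g.2) :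
        (⟨c, hT⟩ : T) ∈ _)))
    · exact absurd ⟨⟨fun a b => mem_center_iff.1 (e.ge (mem_top b)) a⟩⟩ h3
  exact eq_bot_iff.2 fun c hc => by_contra fun e =>
    e (k c hc (h4 c (orderOf_eq_prime (k _ (pow_mem hc 2) (sq_mem_of_index_two h1 c)) e)))

theorem wordMat_map (D : ChevalleyDatum) {F K : Type*} [Field F] [Field K] (f : F →+* K) (w : List (ℕ × F)) :
    (D.wordMat F w).map f = D.wordMat K (w.map fun p => (p.1, f p.2)) := by
  induction w with
  | nil => simp [ChevalleyDatum.wordMat]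
  | cons p w ih =>
    simp only [ChevalleyDatum.wordMat, List.map_cons, List.prod_cons, Matrix.map_mul] at ih ⊢
    rw [ih]
    congr 1
    simp only [ChevalleyDatum.x]
    split_ifs
    exacts [CL.Pc.xMat_map D f _ _, by simp]

theorem words_map {F K : Type*} [Field F] [Field K] (f : F →+* K) (e : ℕ) {w : List (ℕ × F)} (hw : w ∈ f4Words F e) :
    (w.map fun p => (p.1, f p.2)) ∈ f4Words K e := by
  rcases hw with ⟨t, rfl | rfl⟩ | ⟨t, s, rfl | rfl⟩
  · exact .inl ⟨f t, .inl (by simp [f4PairWord])⟩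
  · exact .inl ⟨f t, .inr (by simp [f4PairWord])⟩
  · exact .inr ⟨f t, f s, .inl (by simp [b2ClassWord])⟩
  · exact .inr ⟨f t, f s, .inr (by simp [b2ClassWord])⟩

theorem congr {F K : Type*} [Field F] [Field K] (f : F ≃+* K) (e : ℕ) : Nonempty (twistedF4 F e ≃* twistedF4 K e) := by
  let φ : GL chevF4.Idx F ≃* GL chevF4.Idx K := Units.mapEquiv (RingEquiv.mapMatrix f).toMulEquiv
  have h : (twistedF4 F e).map φ.toMonoidHom = twistedF4 K e := by
    rw [twistedF4, ChevalleyDatum.genSubgroup, MonoidHom.map_closure]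
    refine congrArg Subgroup.closure (Set.ext fun g => ⟨?_, ?_⟩)
    · rintro ⟨g, ⟨w, hw, h⟩, rfl⟩
      exact ⟨_, words_map (f : F →+* K) e hw, Eq.trans (by rw [← h]; rfl) (wordMat_map _ (f : F →+* K) w)⟩
    · rintro ⟨w, hw, h⟩
      exact ⟨φ.symm g, ⟨_, words_map (f.symm : K →+* F) e hw,
        Eq.trans (by rw [← h]; rfl) (wordMat_map _ (f.symm : K →+* F) w)⟩, φ.apply_symm_apply g⟩
  exact ⟨(φ.subgroupMap _).trans (MulEquiv.subgroupCongr h)⟩

end Aut

theorem autThm : AutThm.{u} := fun G _ _ T _ hT hc ⟨e⟩ => by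
  obtain ⟨h1, h2, h3, -⟩ := Cfsg.Agent.S1074.result
  have : Finite (Lie.twistedF4 (ZMod 2) 1) := Nat.finite_of_card_ne_zero (by
    rw [← (commutator _).index_mul_card, h1]
    exact mul_ne_zero two_ne_zero Nat.card_pos.ne')
  exact ⟨(Aut.equiv Aut.card_out hT hc e).some.trans
    (Aut.equiv Aut.card_out h1 (Aut.cent h1 h2 h3 Cfsg.Agent.S2185.result) (MulEquiv.refl _)).some.symm⟩

theorem f4_congr {K : Type*} [Field K] [Fintype K] (hK : Fintype.card K = 2 ^ (2 * 0 + 1)) :
    Nonempty (Lie.twistedF4 K (2 ^ 0) ≃* Lie.twistedF4 (ZMod 2) 1) :=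
  Aut.congr (ZMod.ringEquivOfPrime K Nat.prime_two hK).symm 1

end CL.RF2
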