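/-
The point geometry `TG0`: the second class of involutions and the involutions of `C(p)`
(the proofs of `Even/NGrp/Tits3`).
-/
import Cfsg.Agent.RF2.G2

set_option autoImplicit false
set_option linter.unusedSectionVars false
open Cfsg Subgroup CL.Grp CL.Even
open scoped Pointwise commutatorElement

namespace CL.NGrp.Tits

variable {G : Type*} [Group G] [Finite G] {U : G → Subgroup G} {A : G → G → Prop}

namespace TG0

variable (h : TG0 U A) {p q s : G}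
include h

theorem part (a : A p q) {u : G} (hu : u ∈ U p) : ∃ s, A p s ∧ u ∈ U s := by
  by_contra hne
  push Not at hne
  have hX : ({u} : Set G) ⊆ (U p : Set G) \ {1, p} := by
    rintro _ rfl
    refine ⟨hu, ?_⟩
    rintro (rfl | rfl)
    · exact hne q a (one_mem _)
    · exact hne q a (h.memU (h.symm a))
  have h1 := ncard_sub2 (h.selfU a) (h.ne1 a)
  have h2 := Set.ncard_sdiff_add_ncard_of_subset hX
  have h3 := dcount {s | A p s} (((U p : Set G) \ {1, p}) \ {u}) (fun s y => y ∈ U s) (m := 6) (n := 2)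
    (fun s b => by
      have e1 := ncard_sub2 (H := U p ⊓ U s) ⟨h.selfU a, h.memU (h.symm b)⟩ (h.ne1 a)
      rw [h.cI b] at e1
      have e2 : ((U p ⊓ U s : Subgroup G) : Set G) \ {1, p} ⊆
          {y | y ∈ ((U p : Set G) \ {1, p}) \ {u} ∧ y ∈ U s} := fun y hy =>
        ⟨⟨⟨hy.1.1, hy.2⟩, fun e => hne s b (e ▸ hy.1.2)⟩, hy.1.2⟩
      have := Set.ncard_le_ncard e2
      omega)
    (fun y hy => by
      by_cases he : ∃ s0, A p s0 ∧ y ∈ U s0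
      · obtain ⟨s0, b0, hy0⟩ := he
        have e2 : {s | s ∈ {s | A p s} ∧ y ∈ U s} ⊆ {s0, p * s0} := fun s hs => by
          refine h.eq_of_mem_ln b0 hs.1 ?_
          by_contra e
          exact hy.1.2 (h.Iint b0 hs.1 e hy.1.1 hy0 hs.2)
        exact (Set.ncard_le_ncard e2).trans ((Set.ncard_insert_le _ _).trans (by simp))
      · rw [show {s | s ∈ {s | A p s} ∧ y ∈ U s} = ∅ from
          Set.eq_empty_of_forall_notMem fun s hs => he ⟨s, hs⟩]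
        simp)
  rw [h.card_adj a] at h3
  rw [h.cU a] at h1
  rw [Set.ncard_singleton] at h2
  omega

theorem UQ (a : A p q) {g u : G} (hg : g ∈ gQ p) (hu : u ∈ U p) :
    u * g * u⁻¹ = g ∨ u * g * u⁻¹ = g * p := by
  have e : u * g * u⁻¹ = g * (g⁻¹ * u * g⁻¹⁻¹) * u⁻¹ := by group
  rcases h.QU a (inv_mem hg) hu with e1 | e1 <;> rw [e, e1]
  · left; group
  · right; group

theorem card_UZ (a : A p q) {t : G} (ht : t ∈ gQ p) : 16 ≤ Nat.card (U p ⊓ 𝒵(t) : Subgroup G) := by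
  have := card_le_two_mul (H := U p) (x := t) fun u hu => h.UQ a ht hu
  rw [h.cU a] at this
  omega

theorem hyper (a : A p q) {t : G} (ht : t ∈ gQ p) : ∃ s, A p s ∧ U p ⊓ U s ≤ 𝒵(t) := by
  by_contra hne
  push Not at hne
  have hp : p ∈ 𝒵(t) := memZ_symm (core_le _ ht)
  have h1 := ncard_sub2 (H := U p ⊓ 𝒵(t)) ⟨h.selfU a, hp⟩ (h.ne1 a)
  have h2 := h.card_UZ a ht
  have h3 := dcount (((U p ⊓ 𝒵(t) : Subgroup G) : Set G) \ {1, p}) {s | A p s} (fun y s => y ∈ U s)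
    (m := 2) (n := 2)
    (fun y hy => by
      obtain ⟨s0, b0, hy0⟩ := h.part a hy.1.1
      have e2 : {s0, p * s0} ⊆ {s | s ∈ {s | A p s} ∧ y ∈ U s} := by
        rintro _ (rfl | rfl)
        · exact ⟨b0, hy0⟩
        · exact ⟨h.mul b0, h.Ieq b0 (h.mul b0) (mul_mem_ln _ _) ⟨hy.1.1, hy0⟩⟩
      have := Set.ncard_le_ncard e2
      rwa [Set.ncard_pair (h.mul_ne b0).symm] at this)
    (fun s b => by
      have e1 := ncard_sub2 (H := U p ⊓ U s ⊓ 𝒵(t)) ⟨⟨h.selfU a, h.memU (h.symm b)⟩, hp⟩ (h.ne1 a)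
      have e3 : Nat.card (U p ⊓ U s ⊓ 𝒵(t) : Subgroup G) ∣ 8 := h.cI b ▸ card_dvd_of_le inf_le_left
      have e4 : Nat.card (U p ⊓ U s ⊓ 𝒵(t) : Subgroup G) ≠ 8 := fun e =>
        hne s b ((le_of_card_le inf_le_left (by rw [e, h.cI b])).trans inf_le_right)
      have e5 : Nat.card (U p ⊓ U s ⊓ 𝒵(t) : Subgroup G) ≤ 4 := by
        generalize Nat.card (U p ⊓ U s ⊓ 𝒵(t) : Subgroup G) = n at e3 e4
        have := Nat.le_of_dvd (by norm_num) e3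
        interval_cases n <;> simp_all
      have e2 : {y | y ∈ (((U p ⊓ 𝒵(t) : Subgroup G) : Set G) \ {1, p}) ∧ y ∈ U s} ⊆
          ((U p ⊓ U s ⊓ 𝒵(t) : Subgroup G) : Set G) \ {1, p} := fun y hy =>
        ⟨⟨⟨hy.1.1.1, hy.2⟩, hy.1.1.2⟩, hy.1.2⟩
      have := Set.ncard_le_ncard e2
      omega)
  rw [h.card_adj a] at h3
  omega

theorem mulZ (a : A p q) {g g' u : G} (hg : g ∈ gQ p) (hg' : g' ∈ gQ p) (hu : u ∈ U p) (n : g ∉ 𝒵(u))
    (n' : g' ∉ 𝒵(u)) : g * g' ∈ 𝒵(u) := by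
  have e := (h.QU a hg hu).resolve_left fun e => n (memZ'.2 e)
  have e' := (h.QU a hg' hu).resolve_left fun e => n' (memZ'.2 e)
  refine memZ'.2 ?_
  calc g * g' * u * (g * g')⁻¹ = g * (g' * u * g'⁻¹) * g⁻¹ := by group
    _ = (g * p * g⁻¹) * (g * u * g⁻¹) := by rw [e']; group
    _ = u := by rw [e, memZ'.1 (core_le _ hg), ← mul_assoc, h.sq a, one_mul]

theorem DU (a : A p q) {u v : G} (hu : u ∈ U p) (hv : v ∈ U p) (h1 : v ≠ 1) (h2 : v ≠ p)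
    (hc : ∀ g ∈ gQ p, g ∈ 𝒵(u) → g ∈ 𝒵(v)) : u * v = 1 ∨ u * v = p := by
  refine (mem_zp2 (h.sq a)).1 (h.CUQ a ⟨mul_mem hu hv, mem_cent_iff.2 fun g hg => ?_⟩)
  by_cases n : g ∈ 𝒵(u)
  · exact memZ_symm (mul_mem (memZ_symm n) (memZ_symm (hc g hg n)))
  · have n' : g ∉ 𝒵(v) := fun e => by
      obtain ⟨k, hk, ek⟩ := h.swapU a hv h1 h2
      have nk : k ∉ 𝒵(v) := fun e1 => h.ne1 a (by rw [memZ'.1 e1] at ek; simpa using ek)
      exact nk ((mul_mem_cancel_left e).1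
        (hc _ (mul_mem hg hk) (h.mulZ a hg hk hu n fun e1 => nk (hc k hk e1))))
    have e := (h.QU a hg hu).resolve_left fun e => n (memZ'.2 e)
    have e' := (h.QU a hg hv).resolve_left fun e => n' (memZ'.2 e)
    refine memZ'.2 ?_
    calc g * (u * v) * g⁻¹ = (g * u * g⁻¹) * (g * v * g⁻¹) := by group
      _ = p * (u * p) * v := by rw [e, e']; group
      _ = u * v := by rw [h.commU a hu (h.selfU a), ← mul_assoc, h.sq a, one_mul]

theorem N_le_normI (a : A p q) : 𝒩(ln p q) ≤ 𝒩(U p ⊓ U q) := fun g hg => cj_eq_iff_mem.1 (by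
  rw [cj_inf, h.cjU, h.cjU]
  exact h.Ieq' a (h.cjA g a) (conj_mem hg (left_mem_ln _ _)) (conj_mem hg (right_mem_ln _ _)))

theorem ln_le_I (a : A p q) : ln p q ≤ U p ⊓ U q := le_inf (h.ln_le_U a) (h.ln_le_U' a)

theorem mul_mem_ln_of_I (a : A p q) {x y : G} (hx : x ∈ U p ⊓ U q) (hy : y ∈ U p ⊓ U q) (hx' : x ∉ ln p q)
    (hy' : y ∉ ln p q) : x * y ∈ ln p q :=
  mul_mem_half (h.ln_le_I a) (by rw [h.cI a, h.card_ln a]) hx hy hx' hy'

/-- the elements of `I(l) \ l` are not points -/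
theorem NP (a : A p q) {y : G} (hy : y ∈ U p ⊓ U q) (hy' : y ∉ ln p q) : ¬ Pt A y := by
  rintro ⟨s, b⟩
  have h1 : orb 𝒩(ln p q) y = ((U p ⊓ U q : Subgroup G) : Set G) \ (ln p q : Set G) := by
    ext x
    refine ⟨?_, fun ⟨hx, hx'⟩ => ?_⟩
    · rintro ⟨g, hg, rfl⟩
      exact ⟨conj_mem (h.N_le_normI a hg) hy, fun e => hy' (by simpa [mul_assoc] using conj_mem' hg e)⟩
    · have hv := h.mul_mem_ln_of_I a hx hy hx' hy'
      have ex : x = x * y * y := by rw [mul_assoc, h.sq b, mul_one]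
      by_cases h1 : x * y = 1
      · exact ⟨1, one_mem _, by rw [ex, h1]; simp⟩
      · obtain ⟨t, c, e⟩ := h.exists_adj_ln a hv h1
        obtain ⟨g, hg, eg⟩ := h.swapU c (h.IleU a hv h1 hy) (h.ne1 b) (fun e1 => hy' (e1 ▸ hv))
        exact ⟨g, e ▸ (h.Q_le_St c hg).1, eg.trans ex.symm⟩
  have h2 := ncard_sub (H := U p ⊓ U q) (X := (ln p q : Set G)) (h.ln_le_I a)
  have h3 : (ln p q : Set G).ncard = 4 := by rw [← Nat.card_coe_set_eq]; exact h.card_ln a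
  have h4 := card_orb 𝒩(ln p q) y
  have h5 : Nat.card (𝒩(ln p q) ⊓ 𝒵(y) : Subgroup G) ∣ 10240 := h.cC b ▸ card_dvd_of_le inf_le_right
  rw [h.cI a, h3] at h2
  rw [h1, h.cN a, show (((U p ⊓ U q : Subgroup G) : Set G) \ (ln p q : Set G)).ncard = 4 by omega] at h4
  rw [show Nat.card (𝒩(ln p q) ⊓ 𝒵(y) : Subgroup G) = 1536 by omega] at h5
  norm_num at h5

theorem mem_ln_of_pt (a : A p q) (hs : Pt A s) (h1 : s ∈ U p) (h2 : s ∈ U q) : s ∈ ln p q := by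
  by_contra e
  exact h.NP a ⟨h1, h2⟩ e hs

theorem PtU (a : A p q) (hs : Pt A s) (h1 : s ∈ U p) : s = p ∨ A p s := by
  obtain ⟨t, b, ht⟩ := h.part a h1
  by_cases e : s = p
  · exact .inl e
  · exact .inr (h.adj_of_mem b (h.mem_ln_of_pt b hs h1 ht) (h.ne1 hs.choose_spec) e)

theorem C5 (a : A p q) {x t : G} (hx : x ∈ 𝒵(p)) (h5 : orderOf x = 5) (ht : t ∈ 𝒵(p)) (h2 : t * t = 1)
    (hc : t ∈ 𝒵(x)) : t = 1 ∨ t = p := by
  by_cases hQ : t ∈ gQ p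
  · rcases h.irr a hx h5 (W := U p ⊓ 𝒵(t)) ⟨h.selfU a, memZ_symm ht⟩ inf_le_left
      (cj_eq_iff_mem.1 (by rw [cj_inf, h.cjU, cj_Z, memZ'.1 hx, memZ'.1 (memZ_symm hc)])) with e | e
    · have := (h.card_UZ a hQ).trans (card_le_of_le e)
      rw [h.card_zp a] at this
      omega
    · exact (mem_zp2 (h.sq a)).1 (h.CUx a hx h5 ⟨h.cent a ▸ mem_cent_iff.2 (e.trans inf_le_right), hc⟩)
  · exfalso
    obtain ⟨s, b, hs⟩ := h.fixline a (zpowers_le.2 ht) (isPGroup_zpowers (k := 1) (by rw [pow_one, pow_two, h2]))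
    have m1 := hs (mem_zpowers t)
    have m2 := conj_mem_cj x m1
    rw [cj_St, memZ'.1 hx, memZ'.1 (memZ_symm hc)] at m2
    have m3 := (h.mem_St b).2 ⟨hx, h.mem_ln_of_St b (h.adj_conj b hx) m1 m2 hQ⟩
    have := orderOf_dvd_natCard _ m3
    rw [h5, h.cS b] at this
    omega

theorem Dcomm (a : A p q) {d e : G} (hd : d ∈ U p) (hd' : d ∈ gQ q) (he : e ∈ U q) (he' : e ∈ gQ p) :
    d ∈ 𝒵(e) := by
  rcases h.QU (h.symm a) hd' he with e1 | e1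
  · exact memZ'.2 e1
  rcases h.QU a he' hd with e2 | e2
  · exact memZ_symm (memZ'.2 e2)
  exfalso
  apply h.ne a
  have e3 : q * p = 1 := by
    rw [← mul_inv_eq_iff_eq_mul.2 e1, ← mul_inv_eq_iff_eq_mul.2 e2]; group
  rw [← inv_eq2 (h.sq' a)]
  exact (inv_eq_of_mul_eq_one_right e3).symm

theorem Dhalf (a : A p q) {x y : G} (hx : x ∈ U p) (hy : y ∈ U p) (hx' : x ∉ gQ q) (hy' : y ∉ gQ q) :
    x * y ∈ gQ q :=
  (mul_mem_half (K := U p ⊓ gQ q) inf_le_left (by rw [h.cU a, h.cD a]) hx hy (fun e => hx' e.2)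
    (fun e => hy' e.2)).2

theorem Ihalf (a : A p q) {x y : G} (hx : x ∈ U p) (hy : y ∈ U p) (hxq : x ∈ gQ q) (hyq : y ∈ gQ q)
    (hx' : x ∉ U q) (hy' : y ∉ U q) : x * y ∈ U q :=
  (mul_mem_half (K := U p ⊓ U q) (H := U p ⊓ gQ q) (inf_le_inf_left _ (h.U_le_Q (h.symm a)))
    (by rw [h.cI a, h.cD a]) ⟨hx, hxq⟩ ⟨hy, hyq⟩ (fun e => hx' e.2) (fun e => hy' e.2)).2

theorem exD (a : A p q) : ∃ d ∈ U p, d ∈ gQ q ∧ d ∉ U q := by
  obtain ⟨x, hx, hx'⟩ := exists_not_mem (K := U p ⊓ U q) (H := U p ⊓ gQ q) (by rw [h.cD a, h.cI a]; norm_num)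
  exact ⟨x, hx.1, hx.2, fun e => hx' ⟨hx.1, e⟩⟩

theorem genU (a : A p q) {d u g : G} (hd : d ∈ U p) (hdq : d ∈ gQ q) (hd' : d ∉ U q) (hu : u ∈ U p)
    (hu' : u ∉ gQ q) (h1 : U p ⊓ U q ≤ 𝒵(g)) (h2 : d ∈ 𝒵(g)) (h3 : u ∈ 𝒵(g)) : g ∈ U p := by
  have hD : ∀ x ∈ U p, x ∈ gQ q → x ∈ 𝒵(g) := fun x hx hxq => by
    by_cases e : x ∈ U q
    · exact h1 ⟨hx, e⟩
    · exact (mul_mem_cancel_right h2).1 (h1 ⟨mul_mem hx hd, h.Ihalf a hx hd hxq hdq e hd'⟩)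
  refine h.cent a ▸ mem_cent_iff.2 fun x hx => ?_
  by_cases e : x ∈ gQ q
  · exact hD x hx e
  · exact (mul_mem_cancel_right h3).1 (hD _ (mul_mem hx hu) (h.Dhalf a hx hu e hu'))

theorem inU (a : A p q) {d g g' : G} (hd : d ∈ U p) (hdq : d ∈ gQ q) (hd' : d ∉ U q) (hg : g ∈ gQ p)
    (hg' : g' ∈ gQ p) (h1 : U p ⊓ U q ≤ 𝒵(g)) (h1' : U p ⊓ U q ≤ 𝒵(g')) (h2 : d ∈ 𝒵(g)) (h2' : d ∈ 𝒵(g'))
    (n : g ∉ U p) (n' : g' ∉ U p) : g * g' ∈ U p := by
  obtain ⟨u, hu, hu'⟩ := h.exA a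
  refine h.genU a hd hdq hd' hu hu' (fun x hx => ?_) ?_ ?_
  · exact memZ_symm (mul_mem (memZ_symm (h1 hx)) (memZ_symm (h1' hx)))
  · exact memZ_symm (mul_mem (memZ_symm h2) (memZ_symm h2'))
  · exact memZ_symm (h.mulZ a hg hg' hu (fun e => n (h.genU a hd hdq hd' hu hu' h1 h2 (memZ_symm e)))
      (fun e => n' (h.genU a hd hdq hd' hu hu' h1' h2' (memZ_symm e))))

theorem adj3 (a : A p q) : A (p * q) q := by
  have := h.mul (h.symm a)
  rw [← h.comm a] at this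
  exact h.symm this

/-- `U r ⊓ Q p ≤ Q q` for the third point `r = p q` -/
theorem D3 (a : A p q) {d : G} (hd : d ∈ U (p * q)) (hp : d ∈ gQ p) : d ∈ gQ q :=
  h.Deq (h.symm (h.mul a)) (h.adj3 a) (by rw [ln_comm, h.ln_mul a]; exact right_mem_ln _ _) ⟨hd, hp⟩

theorem D2 (a : A p q) {d : G} (hd : d ∈ U q) (hp : d ∈ gQ p) : d ∈ gQ (p * q) :=
  h.Deq (h.symm a) (h.symm (h.adj3 a)) (by rw [ln_comm]; exact mul_mem_ln _ _) ⟨hd, hp⟩

theorem D1 (a : A p q) {d : G} (hd : d ∈ U p) (hp : d ∈ gQ q) : d ∈ gQ (p * q) :=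
  h.Deq a (h.mul a) (mul_mem_ln _ _) ⟨hd, hp⟩

theorem D1' (a : A p q) {d : G} (hd : d ∈ U p) (hp : d ∈ gQ (p * q)) : d ∈ gQ q :=
  h.Deq (h.mul a) a (by rw [h.ln_mul a]; exact right_mem_ln _ _) ⟨hd, hp⟩

theorem I3 (a : A p q) : U p ⊓ U q ≤ U (p * q) := h.Ieq a (h.mul a) (mul_mem_ln _ _)

theorem I1 (a : A p q) : U q ⊓ U (p * q) = U p ⊓ U q :=
  h.Ieq' a (h.symm (h.adj3 a)) (right_mem_ln _ _) (mul_mem_ln _ _)

theorem I_le_Z (a : A p q) (hs : s ∈ ln p q) (h1 : s ≠ 1) {g : G} (hg : g ∈ U s) : U p ⊓ U q ≤ 𝒵(g) := by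
  obtain ⟨t, b, -⟩ := h.exists_adj_ln a hs h1
  exact fun x hx => h.ZU b (h.IleU a hs h1 hx) hg

theorem I_le_Z2 (a : A p q) {g : G} (hg : g ∈ U q) : U p ⊓ U q ≤ 𝒵(g) :=
  h.I_le_Z a (right_mem_ln _ _) (h.ne1' a) hg

theorem I_le_Z3 (a : A p q) {g : G} (hg : g ∈ U (p * q)) : U p ⊓ U q ≤ 𝒵(g) :=
  h.I_le_Z a (mul_mem_ln _ _) (h.ne1' (h.mul a)) hg

theorem Dprod (a : A p q) {d e : G} (hd : d ∈ U (p * q)) (hdp : d ∈ gQ p) (hd' : d ∉ U p) (he : e ∈ U q)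
    (hep : e ∈ gQ p) (he' : e ∉ U p) : e * d ∈ U p ∧ e * d ∈ gQ q ∧ e * d ∉ U q := by
  obtain ⟨d0, h0, h0q, h0'⟩ := h.exD a
  refine ⟨h.inU a h0 h0q h0' hep hdp (h.I_le_Z2 a he) (h.I_le_Z3 a hd) (h.Dcomm a h0 h0q he hep)
    (h.Dcomm (h.mul a) h0 (h.D1 a h0 h0q) hd hdp) he' hd',
    mul_mem (h.U_le_Q (h.symm a) he) (h.D3 a hd hdp), fun e1 => hd' ?_⟩
  exact ((h.I1 a).le ⟨(mul_mem_cancel_left he).1 e1, hd⟩).1

theorem comm_mem (a : A p q) {g u : G} (hg : g ∈ gQ p) (hu : u ∈ U p) {L : Subgroup G} (hL : p ∈ L) :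
    ⁅g, u⁆ ∈ L := by
  rw [commutatorElement_def]
  rcases h.QU a hg hu with e | e <;> simp [e, hL]

theorem sqAB (a : A p q) {x y : G} (hx : x ∈ U q) (hx' : x ∉ gQ p) (hy : y ∈ U (p * q)) (hy' : y ∉ gQ p) :
    x * y * (x * y) ∉ ln p q := by
  intro hL
  have c := h.mul a
  have e0 : ⁅x, y⁆ ∈ ln p q := by
    rwa [commutatorElement_def, inv_eq2 (h.sqU (h.symm a) hx), inv_eq2 (h.sqU (h.symm c) hy), mul_assoc (x * y)]
  have n2 : U q ≤ 𝒩(ln p q) := fun g hg => (h.U_le_St a hg).1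
  have n3 : U (p * q) ≤ 𝒩(ln p q) := fun g hg => h.ln_mul a ▸ (h.U_le_St c hg).1
  have s1 : ∀ w ∈ U (p * q), w ∈ gQ p → ∀ v ∈ U q, ⁅v, w⁆ ∈ ln p q := fun w hw hw' v hv => by
    rw [← commutatorElement_inv]
    exact inv_mem (h.comm_mem (h.symm a) (h.D3 a hw hw') hv (right_mem_ln _ _))
  have s2 : ∀ w ∈ U (p * q), ⁅x, w⁆ ∈ ln p q := fun w hw => by
    by_cases e : w ∈ gQ p
    · exact s1 w hw e x hx
    · have e1 := s1 _ (mul_mem hw hy) (h.Dhalf (h.symm c) hw hy e hy') x hx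
      have e2 : ⁅x, w⁆ = ⁅x, w * y⁆ * (w * y * ⁅x, y⁆ * (w * y)⁻¹) := by
        conv_lhs => rw [show w = w * y * y by rw [mul_assoc, h.sqU (h.symm c) hy, mul_one]]
        simp only [commutatorElement_def]; group
      rw [e2]
      exact mul_mem e1 (conj_mem (n3 (mul_mem hw hy)) e0)
  have s3 : ⁅U q, U (p * q)⁆ ≤ ln p q := commutator_le.2 fun v hv w hw => by
    by_cases e : v ∈ gQ p
    · exact h.comm_mem (h.symm c) (h.D2 a hv e) hw (mul_mem_ln _ _)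
    · have e1 := h.comm_mem (h.symm c) (h.D2 a (mul_mem hv hx) (h.Dhalf (h.symm a) hv hx e hx')) hw
        (mul_mem_ln p q)
      have e2 : ⁅v, w⁆ = (v * x * ⁅x, w⁆ * (v * x)⁻¹) * ⁅v * x, w⁆ := by
        conv_lhs => rw [show v = v * x * x by rw [mul_assoc, h.sqU (h.symm a) hx, mul_one]]
        simp only [commutatorElement_def]; group
      rw [e2]
      exact mul_mem (conj_mem (n2 (mul_mem hv hx)) (s2 w hw)) e1
  rw [h.cm (h.symm (h.adj3 a))] at s3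
  have := card_le_of_le s3
  rw [h.cI (h.symm (h.adj3 a)), h.card_ln a] at this
  omega

theorem U3_le_St (a : A p q) : U (p * q) ≤ St p q := St_congr (h.ln_mul a) ▸ h.U_le_St (h.mul a)

theorem ab_mem (a : A p q) {x y : G} (hx : x ∈ U q) (hx' : x ∉ gQ p) (hy : y ∈ U (p * q)) (hy' : y ∉ gQ p) :
    x * y ∈ gQ p :=
  h.UI a (h.U_le_St a hx) (h.U3_le_St a hy) hx' hy' (by rw [h.sqU (h.symm a) hx]; exact one_mem _)
    (by rw [h.sqU (h.symm (h.mul a)) hy]; exact one_mem _)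

/-- the four cosets of `U p` in `C_Q(I)` -/
theorem Jstr (a : A p q) {x y d g : G} (hx : x ∈ U q) (hx' : x ∉ gQ p) (hy : y ∈ U (p * q)) (hy' : y ∉ gQ p)
    (hd : d ∈ U (p * q)) (hdp : d ∈ gQ p) (hd' : d ∉ U p) (hg : g ∈ gQ p) (hI : U p ⊓ U q ≤ 𝒵(g)) :
    g ∈ U p ∨ g * d ∈ U p ∨ g * (x * y) ∈ U p ∨ g * (x * (y * d)) ∈ U p := by
  obtain ⟨d0, h0, h0q, h0'⟩ := h.exD a
  have key : ∀ g ∈ gQ p, U p ⊓ U q ≤ 𝒵(g) → d0 ∈ 𝒵(g) → g ∈ U p ∨ g * d ∈ U p := fun g hg h1 h2 => by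
    by_cases e : g ∈ U p
    · exact .inl e
    · exact .inr (h.inU a h0 h0q h0' hg hdp h1 (h.I_le_Z3 a hd) h2
        (h.Dcomm (h.mul a) h0 (h.D1 a h0 h0q) hd hdp) e hd')
  have hxy := h.ab_mem a hx hx' hy hy'
  have hI2 : U p ⊓ U q ≤ 𝒵(x * y) := fun z hz =>
    memZ_symm (mul_mem (memZ_symm (h.I_le_Z2 a hx hz)) (memZ_symm (h.I_le_Z3 a hy hz)))
  have n : x * y ∉ 𝒵(d0) := fun e => by
    rcases key _ hxy hI2 (memZ_symm e) with e1 | e1
    · exact h.sqAB a hx hx' hy hy' (by rw [h.sqU a e1]; exact one_mem _)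
    · rw [mul_assoc] at e1
      exact h.sqAB a hx hx' (mul_mem hy hd) (fun e2 => hy' ((mul_mem_cancel_right hdp).1 e2))
        (by rw [h.sqU a e1]; exact one_mem _)
  by_cases e : g ∈ 𝒵(d0)
  · exact (key g hg hI (memZ_symm e)).imp_right .inl
  · refine .inr (.inr ?_)
    have := key _ (mul_mem hg hxy) (fun z hz =>
      memZ_symm (mul_mem (memZ_symm (hI hz)) (memZ_symm (hI2 hz)))) (memZ_symm (h.mulZ a hg hxy h0 e n))
    simpa only [mul_assoc] using this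

theorem sq_tu (a : A p q) {t w : G} (ht : t ∈ gQ p) (h2 : t * t = 1) (hw : t * w ∈ U p) : w * w ∈ ln p q := by
  have e : w * w = (t * (t * w) * t⁻¹) * (t * w) := by
    rw [inv_eq2 h2, ← mul_assoc t t, h2, one_mul, mul_assoc, ← mul_assoc t t, h2, one_mul]
  rcases h.QU a ht hw with e1 | e1 <;> rw [e, e1]
  · rw [h.sqU a hw]; exact one_mem _
  · rw [mul_assoc, h.sqU a hw, mul_one]; exact left_mem_ln _ _

theorem INVQ (a : A p q) {t : G} (ht : t ∈ gQ p) (hI : U p ⊓ U q ≤ 𝒵(t)) (h2 : t * t = 1) :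
    t ∈ U p ∨ t ∈ U q ∨ t ∈ U (p * q) := by
  have c := h.mul a
  obtain ⟨x, hx, hx'⟩ := h.exA (h.symm a)
  obtain ⟨y, hy, hy'⟩ := h.exA (h.symm c)
  obtain ⟨d, hd, hdp, hd'⟩ := h.exD (h.symm c)
  rcases h.Jstr a hx hx' hy hy' hd hdp hd' ht hI with e | e | e | e
  · exact .inl e
  · right
    have hdd := h.sqU (h.symm c) hd
    have et : t = t * d * d := by rw [mul_assoc, hdd, mul_one]
    have hZ : t * d ∈ 𝒵(d) := by
      refine memZ.2 ?_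
      have e1 : d * t * d = t := by
        have := h.sqU a e
        calc d * t * d = t * t * (d * t * d) := by rw [h2, one_mul]
          _ = t * (t * d * (t * d)) := by group
          _ = t := by rw [this, mul_one]
      rw [← et, ← mul_assoc, e1]
    obtain ⟨d0, h0, h0q, h0'⟩ := h.exD a
    have hq : t * d ∈ gQ q := by
      by_contra n
      exact hd' (h.genU a h0 h0q h0' e n (h.I_le_Z3 a hd) (h.Dcomm c h0 (h.D1 a h0 h0q) hd hdp) hZ)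
    by_cases e1 : t * d ∈ U q
    · exact .inr (et ▸ mul_mem (h.I3 a ⟨e, e1⟩) hd)
    · obtain ⟨d', hd1, hd2, hd3⟩ := h.exD (h.symm a)
      obtain ⟨m1, m2, m3⟩ := h.Dprod a hd hdp hd' hd1 hd2 hd3
      have m4 := mul_mem (h.Ihalf a e m1 hq m2 e1 m3) hd1
      have e2 : d * (d' * d) * d' = 1 := by
        have := h.sqU a m1
        calc d * (d' * d) * d' = d'⁻¹ * (d' * d * (d' * d)) * d' := by group
          _ = 1 := by rw [this]; group
      rw [mul_assoc t, mul_assoc t, e2, mul_one] at m4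
      exact .inl m4
  · exact absurd (h.sq_tu a ht h2 e) (h.sqAB a hx hx' hy hy')
  · exact absurd (h.sq_tu a ht h2 e)
      (h.sqAB a hx hx' (mul_mem hy hd) fun e2 => hy' ((mul_mem_cancel_right hdp).1 e2))

theorem cent_I (a : A p q) {t : G} (ht : t ∈ St p q) (h2 : t * t = 1) (hQ : t ∉ gQ p) : U p ⊓ U q ≤ 𝒵(t) := by
  rw [← h.cm a]
  refine commutator_le.2 fun u hu w hw => ?_
  have hp : p ∈ 𝒵(t) := memZ_symm ht.2
  rw [← commutatorElement_inv]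
  refine inv_mem ?_
  by_cases e : w ∈ gQ p
  · exact h.comm_mem a e hu hp
  have hg := h.UI a ht (h.U_le_St a hw) hQ e (by rw [h2]; exact one_mem _)
    (by rw [h.sqU (h.symm a) hw]; exact one_mem _)
  have hu1 : w * u * w⁻¹ ∈ U p := conj_mem (h.Z_le_normU p (h.U_le_St a hw).2) hu
  have hu2 : t * u * t⁻¹ ∈ U p := conj_mem (h.Z_le_normU p ht.2) hu
  have e1 : ⁅t, u⁆ ∈ 𝒵(t) := by
    refine memZ_symm (memZ'.2 ?_)
    calc t * ⁅t, u⁆ * t⁻¹ = (t * t) * u * (t * t)⁻¹ * (t * u * t⁻¹)⁻¹ := by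
          simp only [commutatorElement_def]; group
      _ = u⁻¹ * (t * u * t⁻¹) := by
          rw [h2, one_mul, inv_one, mul_one, inv_eq2 (h.sqU a hu2), inv_eq2 (h.sqU a hu)]
      _ = ⁅t, u⁆ := by rw [h.commU a (inv_mem hu) hu2, commutatorElement_def]
  have e2 : t * w * (w * u * w⁻¹) * (t * w)⁻¹ = t * u * t⁻¹ := by
    calc _ = t * ((w * w) * u * (w * w)⁻¹) * t⁻¹ := by group
      _ = _ := by rw [h.sqU (h.symm a) hw]; group
  rw [commutatorElement_def] at e1 ⊢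
  rcases h.QU a hg hu1 with e3 | e3 <;> rw [e2] at e3 <;> rw [e3] at e1
  · exact e1
  · rw [mul_assoc] at e1
    exact (mul_mem_cancel_left hp).1 e1

/-- every involution of `C(p)` lies in `U s` for a point `s` collinear with `p` -/
theorem INV (a : A p q) {t : G} (ht : t ∈ 𝒵(p)) (h2 : t * t = 1) : ∃ s, A p s ∧ t ∈ U s := by
  have fin : ∀ {s}, A p s → t ∈ U p ∨ t ∈ U s ∨ t ∈ U (p * s) → ∃ s, A p s ∧ t ∈ U s := by
    rintro s b (e | e | e)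
    · exact h.part a e
    · exact ⟨s, b, e⟩
    · exact ⟨_, h.mul b, e⟩
  by_cases hQ : t ∈ gQ p
  · obtain ⟨s, b, hs⟩ := h.hyper a hQ
    exact fin b (h.INVQ b hQ hs h2)
  obtain ⟨s, b, hs⟩ := h.fixline a (zpowers_le.2 ht) (isPGroup_zpowers (k := 1) (by rw [pow_one, pow_two, h2]))
  have m1 := hs (mem_zpowers t)
  have hI := h.cent_I b m1 h2 hQ
  have c := h.mul b
  refine fin b ?_
  by_cases h3 : t ∈ gQ s
  · rcases h.INVQ (h.symm b) h3 (by rwa [inf_comm]) h2 with e | e | e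
    · exact .inr (.inl e)
    · exact .inl e
    · exact .inr (.inr (h.comm b ▸ e))
  by_cases h4 : t ∈ gQ (p * s)
  · rcases h.INVQ (h.symm c) h4 (by
      rwa [h.Ieq' b (h.symm c) (mul_mem_ln _ _) (left_mem_ln _ _)]) h2 with e | e | e
    · exact .inr (.inr e)
    · exact .inl e
    · rw [mul_assoc, ← h.comm b, ← mul_assoc, h.sq b, one_mul] at e
      exact .inr (.inl e)
  exfalso
  obtain ⟨x, hx, hx'⟩ := h.exA (h.symm b)
  obtain ⟨y, hy, hy'⟩ := h.exA (h.symm c)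
  obtain ⟨d, hd, hdp, hd'⟩ := h.exD (h.symm c)
  have hxx := h.sqU (h.symm b) hx
  have hyy := h.sqU (h.symm c) hy
  have one : ∀ r : G, t * t ∈ gQ r := fun r => by rw [h2]; exact one_mem _
  have hZ : ∀ v ∈ ln p s, t ∈ 𝒵(v) := fun v hv => memZ_symm (hI (h.ln_le_I b hv))
  have g1 : t * x ∈ gQ p := h.UI b m1 (h.U_le_St b hx) hQ hx' (one p) (by rw [hxx]; exact one_mem _)
  have g2 : t * x ∈ gQ (p * s) := h.UI (h.adj3 b) (h.mem_St_of_Z (h.adj3 b) (hZ _ (mul_mem_ln _ _))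
    (hZ _ (right_mem_ln _ _))) (h.U_le_St (h.adj3 b) hx) h4
    (fun e => hx' (h.Deq (h.symm (h.adj3 b)) (h.symm b) (by
      rw [h.ln_eq b (h.symm (h.adj3 b)) (right_mem_ln _ _) (mul_mem_ln _ _)]; exact left_mem_ln _ _) ⟨hx, e⟩))
    (one _) (by rw [hxx]; exact one_mem _)
  have g3 : t * y ∈ gQ s := h.UI (h.symm (h.adj3 b)) (h.mem_St_of_Z (h.symm (h.adj3 b))
    (hZ _ (right_mem_ln _ _)) (hZ _ (mul_mem_ln _ _))) (h.U_le_St (h.symm (h.adj3 b)) hy) h3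
    (fun e => hy' (h.Deq (h.adj3 b) (h.symm c) (by
      rw [h.ln_eq b (h.adj3 b) (mul_mem_ln _ _) (right_mem_ln _ _)]; exact left_mem_ln _ _) ⟨hy, e⟩))
    (one _) (by rw [hyy]; exact one_mem _)
  have hxs := h.U_le_Q (h.symm b) hx
  have hyr := h.U_le_Q (h.symm c) hy
  have hdr := h.U_le_Q (h.symm c) hd
  have hds := h.D3 b hd hdp
  rcases h.Jstr b hx hx' hy hy' hd hdp hd' g1 (fun z hz => memZ_symm (mul_mem (memZ_symm (hI hz))
    (memZ_symm (h.I_le_Z2 b hx hz)))) with e | e | e | e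
  · exact h3 ((mul_mem_cancel_right hxs).1 (h.D1' b e g2))
  · exact h3 ((mul_mem_cancel_right hxs).1 ((mul_mem_cancel_right hds).1 (h.D1' b e (mul_mem g2 hdr))))
  · rw [mul_assoc, ← mul_assoc x, hxx, one_mul] at e
    exact h4 ((mul_mem_cancel_right hyr).1 (h.D1 b e g3))
  · rw [mul_assoc, ← mul_assoc x, hxx, one_mul, ← mul_assoc] at e
    exact h4 ((mul_mem_cancel_right hyr).1 ((mul_mem_cancel_right hdr).1 (h.D1 b e (mul_mem g3 hds))))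

end TG0

end CL.NGrp.Tits
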