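/-
The point geometry `TG0`: the number of points (the proofs of `Even/NGrp/Tits4`).
-/
import Cfsg.Agent.RF2.UL

set_option autoImplicit false
set_option linter.unusedSectionVars false
open Cfsg Subgroup CL.Grp CL.Even
open scoped Pointwise commutatorElement

namespace CL.NGrp.Tits

variable {G : Type*} [Group G] [Finite G] {U : G → Subgroup G} {A : G → G → Prop}

namespace TG0

variable (h : TG0 U A) {p q s : G}
include h


theorem nx_symm {u : G} (n : Nx A p q u) : Nx A u q p :=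
  ⟨h.symm n.2.1, h.symm n.1, fun e => n.2.2 (ln_comm q p ▸
    h.mem_ln_symm n.2.1 (h.symm n.1) (ln_comm u q ▸ e))⟩

theorem nx_notQ {u : G} (n : Nx A p q u) : u ∉ gQ p := h.L7 (h.symm n.1) n.2.1 (ln_comm p q ▸ n.2.2)

theorem nx_St {u : G} (n : Nx A p q u) : u ∈ St p q := h.U_le_St n.1 (h.memU n.2.1)

/-- the points `u` with `y ∈ U u` form the line of `y` -/
theorem UL2 (a : A p q) {y u : G} (hy : y ∈ U p ⊓ U q) (hy' : y ∉ ln p q) (hu : Pt A u) (hyu : y ∈ U u) :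
    u ∈ ln p q := by
  have hn := h.NP a hy hy'
  have h1 : y ≠ 1 := fun e => hy' (e ▸ one_mem _)
  obtain ⟨u', c⟩ := hu
  have hZ : ∀ {s t}, A s t → y ∈ U s → u ∈ 𝒵(s) := fun b hs => (h.UL0 b hs h1 hn).2 (h.UL0 c hyu h1 hn).1
  have key : ∀ s ∈ ln p q, A s u → u ∈ ln p q := fun s hs b => by
    obtain ⟨t, b', e⟩ := h.exists_adj_ln a hs (h.ne1 b)
    by_contra e1
    rcases h.Iint b' b (e ▸ e1) (h.IleU a hs (h.ne1 b) hy)
      (h.IleU a (e ▸ right_mem_ln _ _) (h.ne1' b') hy) hyu with e2 | e2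
    · exact h1 e2
    · exact hy' (e2 ▸ hs)
  by_cases hU : u ∈ U p
  · rcases h.PtU a ⟨u', c⟩ hU with e | e
    · exact e ▸ left_mem_ln _ _
    · exact key p (left_mem_ln _ _) e
  · obtain ⟨s, b, hs⟩ := h.INV a (hZ a hy.1) (h.sq c)
    have e := (h.PtU (h.symm b) ⟨u', c⟩ hs).resolve_left fun e => hU (e ▸ h.memU b)
    have n : Nx A p s u := ⟨b, e, fun e1 => hU (h.ln_le_U b e1)⟩
    exact key s (h.mem_ln_of_St a b (h.mem_St_of_Z a (hZ a hy.1) (hZ (h.symm a) hy.2)) (h.nx_St n)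
      (h.nx_notQ n)) e

theorem nc2 {u w : G} (n : Nx A p q u) (m : Nx A q u w) : w ∉ 𝒵(p) := fun e =>
  (h.nx_symm n).2.2 (ln_comm q u ▸ h.mem_ln_of_St m.1 (h.symm n.1) (h.nx_St m)
    (h.mem_St_of_Z (h.symm n.1) (h.nx_St m).2 e) (h.nx_notQ m))

theorem uniq1 {u u' w : G} (n : Nx A s u w) (n' : Nx A s u' w) : u = u' := by
  rcases h.eq_of_mem_ln n.1 n'.1 (h.mem_ln_of_St n.1 n'.1 (h.nx_St n) (h.nx_St n') (h.nx_notQ n)) with e | e
  · exact e.symm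
  · exact absurd (h.U_le_Q n.1 ((h.I1 n.1).le ⟨h.memU n.2.1, e ▸ h.memU n'.2.1⟩).1) (h.nx_notQ n)

theorem L8 {s' : G} (a : A p s) (b : A p s') (hs : s' ∉ ln p s) : ¬ Pt A (s * s') := by
  intro hp
  rcases h.PtU a hp (mul_mem (h.memU a) (h.memU b)) with e | c
  · exact hs ((mul_mem_cancel_left (right_mem_ln _ _)).1 (e ▸ left_mem_ln _ _))
  · obtain ⟨t, d, h1, h2, h3⟩ := h.ex_off a b c
    exact h.L7 d c (fun e => h3 (h.mem_ln_symm d c e)) (h.Dhalf d (h.memU a) (h.memU b)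
      (h.L7 d a fun e => h1 (h.mem_ln_symm d a e)) (h.L7 d b fun e => h2 (h.mem_ln_symm d b e)))

theorem KL {s' w : G} (hw : Pt A w) (a : A p s) (b : A p s') (hne : s ≠ s') (h1 : w ∈ 𝒵(s)) (h2 : w ∈ 𝒵(s')) :
    w ∈ 𝒵(p) := by
  by_cases hs : s' ∈ ln p s
  · have e := (h.eq_of_mem_ln a b hs).resolve_left hne.symm
    have := mul_mem (memZ_symm h2) (memZ_symm h1)
    rw [e, mul_assoc, h.sq' a, mul_one] at this
    exact memZ_symm this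
  · have hn := h.L8 a b hs
    have hU := mul_mem (h.memU a) (h.memU b)
    have hy1 : s * s' ≠ 1 := fun e => hne (by rw [← inv_eq_of_mul_eq_one_right e, inv_eq2 (h.sq' a)])
    obtain ⟨t, c, ht⟩ := h.part a hU
    obtain ⟨w', d⟩ := hw
    obtain ⟨s1, d1, hs1⟩ := h.INV d (mul_mem (memZ_symm h1) (memZ_symm h2)) (h.sqU a hU)
    have m := h.UL2 c ⟨hU, ht⟩ (fun e => hn (h.pt_of_mem_ln c e hy1)) ⟨w, h.symm d1⟩ hs1
    exact h.ZU (h.symm d1) (h.memU (h.symm d1)) (h.IleU c m (h.ne1' d1) (h.ln_le_I c (left_mem_ln _ _)))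

theorem pt2 {w : G} (hw : w ∈ E2 A p q) : Pt A w := by
  obtain ⟨u, -, m⟩ := hw
  exact ⟨u, h.symm m.2.1⟩

theorem pt3 {w : G} (hw : w ∈ E3 A p q) : Pt A w := by
  obtain ⟨u, -, m⟩ := hw
  exact h.pt2 m

theorem E2_Z {w : G} (hw : w ∈ E2 A p q) : w ∈ 𝒵(q) ∧ w ∉ 𝒵(p) := by
  obtain ⟨u, n, m⟩ := hw
  exact ⟨(h.nx_St m).2, h.nc2 n m⟩

theorem E3_Z {w : G} (hw : w ∈ E3 A p q) : w ∉ 𝒵(q) ∧ w ∉ 𝒵(p) := by
  obtain ⟨u, n, m⟩ := hw
  refine ⟨(h.E2_Z m).2, fun e => (h.E2_Z m).2 ?_⟩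
  exact h.KL (h.pt2 m) n.2.1 (h.symm n.1) (fun e1 => n.2.2 (e1 ▸ left_mem_ln _ _)) (h.E2_Z m).1 e

theorem E1_Z {w : G} (hw : w ∈ E1 A p q) : w ∈ 𝒵(q) ∧ w ∈ 𝒵(p) :=
  ⟨h.U_le_Z hw.2.1 (h.memU hw.2.1), (h.nx_St hw).2⟩

theorem uniq2 {u u' w : G} (m : w ∈ E2 A s u) (m' : w ∈ E2 A s u') : u = u' := by
  by_contra e
  exact (h.E2_Z m).2 (h.KL (h.pt2 m) m.choose_spec.1.1 m'.choose_spec.1.1 e (h.E2_Z m).1 (h.E2_Z m').1)

theorem cE1 (a : A p q) : (E1 A p q).ncard = 8 := by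
  rw [← h.card_off (h.symm a), ln_comm q p]
  congr 1
  exact Set.ext fun u => ⟨fun n => n.2, fun n => ⟨a, n⟩⟩

theorem cE2 (a : A p q) : (E2 A p q).ncard = 64 := by
  rw [E2, ncard_fib (k := 8) _ _ (fun u n => h.cE1 n.2.1) (fun u _ u' _ w m m' => h.uniq1 m m'), h.cE1 a]

theorem cE3 (a : A p q) : (E3 A p q).ncard = 512 := by
  rw [E3, ncard_fib (k := 64) _ _ (fun u n => h.cE2 n.2.1) (fun u _ u' _ w m m' => h.uniq2 m m'), h.cE1 a]

theorem cBr (a : A p q) : (Br A p q).ncard = 585 := by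
  have hq : q ∈ 𝒵(p) := memZ.2 (h.comm a).symm
  rw [Br, Set.ncard_insert_of_notMem, Set.ncard_union_eq, Set.ncard_union_eq, h.cE1 a, h.cE2 a, h.cE3 a]
  · exact Set.disjoint_left.2 fun w m m' => (h.E2_Z m').2 (h.E1_Z m).2
  · refine Set.disjoint_left.2 ?_
    rintro w (m | m) m'
    · exact (h.E3_Z m').1 (h.E1_Z m).1
    · exact (h.E3_Z m').1 (h.E2_Z m).1
  · rintro ((m | m) | m)
    · exact h.ne m.2.1 rfl
    · exact (h.E2_Z m).2 hq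
    · exact (h.E3_Z m).2 hq

theorem E1_congr {p' : G} (a : A p q) (a' : A p' q) (e : ln p' q = ln p q) : E1 A p' q = E1 A p q :=
  Set.ext fun _ => ⟨fun n => ⟨a, n.2.1, e ▸ n.2.2⟩, fun n => ⟨a', n.2.1, e ▸ n.2.2⟩⟩

theorem Br_congr {p' : G} (a : A p q) (a' : A p' q) (e : ln p' q = ln p q) : Br A p' q = Br A p q := by
  rw [Br, Br, E2, E3, E2, E3, h.E1_congr a a' e]

theorem exY (a : A p q) : ∃ y ∈ U p ⊓ U q, y ∉ ln p q :=
  exists_not_mem (by rw [h.card_ln a, h.cI a]; norm_num)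

/-- the element of `I(l) \ l` with prescribed behaviour at the two ends -/
theorem exY2 {u u' : G} (n : Nx A p q u) (n' : Nx A q p u') (P P' : Prop) :
    ∃ y ∈ U p ⊓ U q, y ∉ ln p q ∧ (y ∈ gQ u ↔ P) ∧ (y ∈ gQ u' ↔ P') := by
  have a := n.1
  have flip : ∀ {p q u y : G}, Nx A p q u → y ∈ U q → (y * p ∈ gQ u ↔ ¬ y ∈ gQ u) := fun {p q u y} n hy => by
    have hp := h.nx_notQ (h.nx_symm n)
    exact ⟨fun e e1 => hp ((mul_mem_cancel_left e1).1 e), fun e => h.Dhalf n.2.1 hy (h.memU (h.symm n.1)) e hp⟩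
  have keep : ∀ {q u y : G}, A q u → (y * q ∈ gQ u ↔ y ∈ gQ u) := fun b =>
    mul_mem_cancel_right (h.U_le_Q (h.symm b) (h.memU (h.symm b)))
  obtain ⟨y, hy, hy'⟩ := h.exY a
  have step1 : ∃ y ∈ U p ⊓ U q, y ∉ ln p q ∧ (y ∈ gQ u ↔ P) := by
    by_cases e : y ∈ gQ u ↔ P
    · exact ⟨y, hy, hy', e⟩
    · refine ⟨y * p, mul_mem hy (h.ln_le_I a (left_mem_ln _ _)),
        fun e1 => hy' ((mul_mem_cancel_right (left_mem_ln _ _)).1 e1), ?_⟩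
      rw [flip n hy.2]; tauto
  obtain ⟨y, hy, hy', e0⟩ := step1
  by_cases e : y ∈ gQ u' ↔ P'
  · exact ⟨y, hy, hy', e0, e⟩
  · refine ⟨y * q, mul_mem hy (h.ln_le_I a (right_mem_ln _ _)),
      fun e1 => hy' ((mul_mem_cancel_right (right_mem_ln _ _)).1 e1), ?_, ?_⟩
    · rw [keep n.2.1, e0]
    · rw [flip n' hy.1]; tauto

theorem exT {w y : G} (hw : Pt A w) (hy : y * y = 1) (hn : ¬ Pt A y) :
    ∃ n : ℕ, (w * y) ^ n ≠ 1 ∧ (w * y) ^ n * (w * y) ^ n = 1 ∧ w ∈ 𝒵((w * y) ^ n) ∧ y ∈ 𝒵((w * y) ^ n) := by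
  have hw2 := h.sq hw.choose_spec
  have he : Even (orderOf (w * y)) := by
    by_contra e
    obtain ⟨n, hn'⟩ := Chev.Rank1.exists_conj_of_odd_mul hw2 hy (Nat.not_even_iff_odd.1 e)
    have := h.pt_conj hw ((w * y) ^ n)⁻¹
    rw [inv_inv, hn'] at this
    exact hn this
  obtain ⟨n, h1, h2, h3, h4⟩ := Chev.Rank1.exists_central_invol hw2 hy he
  exact ⟨n, h1, h2, memZ.2 h3, memZ.2 h4⟩

/-- no circuits of length fourteen -/
theorem circ {w : G} (m : w ∈ E3 A p q) (m' : w ∈ E3 A q p) : False := by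
  obtain ⟨u, n, v, n1, n2⟩ := m
  obtain ⟨u', n', v', n1', n2'⟩ := m'
  obtain ⟨y, hy, hy', e, e'⟩ := h.exY2 n n' False False
  obtain ⟨k, h1, h2, h3, h4⟩ := h.exT ⟨v, h.symm n2.2.1⟩ (h.sqU n.1 hy.1) (h.NP n.1 hy hy')
  have key : ∀ {q u v : G}, Nx A q u v → Nx A u v w → y ∈ U q → y ∉ gQ u → (w * y) ^ k = u := by
    intro q u v n1 n2 hy hyu
    have m1 := h.U_le_St (h.symm n1.1) hy
    obtain ⟨x, hx, h5⟩ := h.N2 (h.symm n1.1) n2.1 (ln_comm q u ▸ n1.2.2) m1 hyu (h.nx_St n2) (h.nx_notQ n2)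
      (K := 𝒵(u) ⊓ 𝒵((w * y) ^ k)) inf_le_left ⟨m1.2, h4⟩ ⟨(h.nx_St n2).2, h3⟩
    exact (h.C5 n2.1 hx.1 h5 (pow_mem (mul_mem (h.nx_St n2).2 m1.2) k) h2 (memZ_symm hx.2)).resolve_left h1
  have e1 := key n1 n2 hy.2 e.1
  have e2 := key n1' n2' hy.1 e'.1
  exact n.2.2 (h.mem_ln_of_pt n.1 ⟨q, h.symm n.2.1⟩ (e1.symm.trans e2 ▸ h.memU n'.2.1) (h.memU n.2.1))

theorem Br_disj (a : A p q) {w : G} (m : w ∈ Br A p q) (m' : w ∈ Br A q p) : False := by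
  have k0 : ∀ {p q : G}, A p q → w = q ∨ w ∈ E1 A p q → w ∈ U q ∧ w ∈ 𝒵(q) ∧ w ∈ 𝒵(p) := by
    rintro p q a (rfl | m)
    · exact ⟨h.selfU (h.symm a), memZ.2 rfl, memZ.2 (h.comm a).symm⟩
    · exact ⟨h.memU m.2.1, h.E1_Z m⟩
  have c : ∀ {p q : G}, w ∈ Br A p q → (w = q ∨ w ∈ E1 A p q) ∨ w ∈ E2 A p q ∨ w ∈ E3 A p q := by
    rintro p q (m | (m | m) | m) <;> simp [m]
  rcases c m with m | m | m <;> rcases c m' with m' | m' | m'
  · have hl : Pt A w → w ∈ ln p q := fun e => h.mem_ln_of_pt a e (k0 (h.symm a) m').1 (k0 a m).1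
    rcases m with rfl | m
    · rcases m' with e | m'
      · exact h.ne a e.symm
      · exact m'.2.2 (left_mem_ln _ _)
    · exact m.2.2 (hl ⟨q, h.symm m.2.1⟩)
  · exact (h.E2_Z m').2 (k0 a m).2.1
  · exact (h.E3_Z m').2 (k0 a m).2.1
  · exact (h.E2_Z m).2 (k0 (h.symm a) m').2.1
  · exact (h.E2_Z m).2 (h.E2_Z m').1
  · exact (h.E3_Z m').2 (h.E2_Z m).1
  · exact (h.E3_Z m).2 (k0 (h.symm a) m').2.1
  · exact (h.E3_Z m).2 (h.E2_Z m').1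
  · exact h.circ m m'

theorem step {t u w : G} (n : Nx A t s u) (b : A u w) : Nx A s u w ∨ w = s ∨ Nx A t s w := by
  by_cases e : w ∈ ln s u
  · right
    rcases h.eq_of_mem_ln (h.symm n.2.1) b (ln_comm s u ▸ e) with e1 | e1
    · exact .inl e1
    · rw [← h.comm n.2.1] at e1
      exact .inr ⟨n.1, e1 ▸ h.mul n.2.1, fun e2 => n.2.2
        ((mul_mem_cancel_left (right_mem_ln t s)).1 (e1 ▸ e2))⟩
  · exact .inl ⟨n.2.1, b, e⟩

/-- every point is within distance seven of every line -/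
theorem cover (a : A p q) {w : G} (hw : Pt A w) : ∃ t s, A t s ∧ ln t s = ln p q ∧ w ∈ Br A t s := by
  let P0 : G → Prop := fun w => ∃ t, A t w ∧ ln t w = ln p q
  let P1 : G → Prop := fun w => P0 w ∨ ∃ t s, ln t s = ln p q ∧ w ∈ E1 A t s
  let P2 : G → Prop := fun w => P1 w ∨ ∃ t s, ln t s = ln p q ∧ w ∈ E2 A t s
  let P3 : G → Prop := fun w => P2 w ∨ ∃ t s, ln t s = ln p q ∧ w ∈ E3 A t s
  have s0 : ∀ s ∈ ln p q, s ≠ 1 → P0 s := fun s hs h1 => by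
    obtain ⟨t, b, e⟩ := h.exists_adj_ln a hs h1
    exact ⟨t, h.symm b, ln_comm s t ▸ e⟩
  have s1 : ∀ {u w}, P0 u → A u w → P1 w := by
    rintro u w ⟨t, b, e⟩ c
    by_cases e1 : w ∈ ln p q
    · exact .inl (s0 w e1 (h.ne1' c))
    · exact .inr ⟨t, u, e, b, c, e ▸ e1⟩
  have s2 : ∀ {u w}, P1 u → A u w → P2 w := by
    rintro u w (hu | ⟨t, s, e, n⟩) c
    · exact .inl (s1 hu c)
    · rcases h.step n c with m | rfl | m
      · exact .inr ⟨t, s, e, u, n, m⟩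
      · exact .inl (.inl ⟨t, n.1, e⟩)
      · exact .inl (.inr ⟨t, s, e, m⟩)
  have s3 : ∀ {u w}, P2 u → A u w → P3 w := by
    rintro u w (hu | ⟨t, s, e, v, n, n1⟩) c
    · exact .inl (s2 hu c)
    · rcases h.step n1 c with m | rfl | m
      · exact .inr ⟨t, s, e, v, n, u, n1, m⟩
      · exact .inl (.inl (.inr ⟨t, s, e, n⟩))
      · exact .inl (.inr ⟨t, s, e, v, n, m⟩)
  have main : P3 w := by
    obtain ⟨y, hy, hy'⟩ := h.exY a
    have hyy := h.sqU a hy.1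
    obtain ⟨k, h1, h2, h3, h4⟩ := h.exT hw hyy (h.NP a hy hy')
    generalize (w * y) ^ k = t at h1 h2 h3 h4
    obtain ⟨w', d⟩ := hw
    by_cases ht : Pt A t
    · obtain ⟨t', c⟩ := ht
      obtain ⟨s, b, hs⟩ := h.INV c h3 (h.sq d)
      obtain ⟨s', b', hs'⟩ := h.INV c h4 hyy
      have m := s2 (s1 (s0 s' (h.UL2 a hy hy' ⟨t, h.symm b'⟩ hs') (h.ne1' b')) (h.symm b')) b
      rcases h.PtU (h.symm b) ⟨w', d⟩ hs with e | e
      · exact .inl (e ▸ m)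
      · exact s3 m e
    · have hp : t * p * t⁻¹ ∈ ln p q := h.UL2 a hy hy' (h.pt_conj ⟨q, a⟩ t) (by
        have := h.conjU (g := t) hy.1
        rwa [memZ'.1 (memZ_symm h4)] at this)
      have hback : t * (t * p * t⁻¹) * t⁻¹ = p := by
        calc _ = (t * t) * p * (t * t)⁻¹ := by group
          _ = p := by rw [h2]; group
      obtain ⟨p0, hp0, hp1, hp2⟩ : ∃ p0 ∈ ln p q, p0 ≠ 1 ∧ t ∈ 𝒵(p0) := by
        rcases (h.mem_ln a).1 hp with e | e | e | e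
        · exact absurd (by simpa using e) (h.ne1 a)
        · exact ⟨p, left_mem_ln _ _, h.ne1 a, memZ'.2 e⟩
        · refine ⟨p * q, mul_mem_ln _ _, h.ne1' (h.mul a), memZ'.2 ?_⟩
          rw [e] at hback
          calc _ = (t * p * t⁻¹) * (t * q * t⁻¹) := by group
            _ = _ := by rw [e, hback, h.comm a]
        · refine ⟨q, right_mem_ln _ _, h.ne1' a, memZ'.2 ?_⟩
          rw [e] at hback
          calc _ = (t * p * t⁻¹)⁻¹ * (t * (p * q) * t⁻¹) := by group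
            _ = _ := by rw [e, hback, mul_inv_rev, inv_mul_cancel_right, inv_eq2 (h.sq' a)]
      obtain ⟨p1, c, -⟩ := h.exists_adj_ln a hp0 hp1
      obtain ⟨s, b, hs⟩ := h.INV c hp2 h2
      obtain ⟨s', b', hs'⟩ := h.INV d (memZ_symm h3) h2
      obtain ⟨s2', b2, hs2⟩ := h.part (h.symm b) hs
      have m := h.UL2 b2 ⟨hs, hs2⟩ (fun e => ht (h.pt_of_mem_ln b2 e h1)) ⟨w, h.symm b'⟩ hs'
      have m1 := s1 (s0 p0 hp0 hp1) b
      refine s3 ?_ (h.symm b')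
      by_cases e : s' = s
      · exact .inl (e ▸ m1)
      · exact s2 m1 (h.adj_of_mem b2 m (h.ne1' b') e)
  rcases main with ((⟨t, b, e⟩ | ⟨t, s, e, m⟩) | ⟨t, s, e, m⟩) | ⟨t, s, e, m⟩
  · exact ⟨t, w, b, e, .inl rfl⟩
  · exact ⟨t, s, m.1, e, .inr (.inl (.inl m))⟩
  · exact ⟨t, s, m.choose_spec.1.1, e, .inr (.inl (.inr m))⟩
  · exact ⟨t, s, m.choose_spec.1.1, e, .inr (.inr m)⟩

theorem card_pt (a : A p q) : {w | Pt A w}.ncard = 1755 := by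
  have h1 : {w | Pt A w} = {w | ∃ s ∈ (ln p q : Set G) \ {1},
      w ∈ {w | ∃ t, A t s ∧ ln t s = ln p q ∧ w ∈ Br A t s}} := by
    ext w
    refine ⟨fun hw => ?_, ?_⟩
    · obtain ⟨t, s, b, e, m⟩ := h.cover a hw
      exact ⟨s, ⟨e ▸ right_mem_ln _ _, h.ne1' b⟩, t, b, e, m⟩
    · rintro ⟨s, -, t, b, -, rfl | (m | m) | m⟩
      · exact ⟨t, h.symm b⟩
      · exact ⟨s, h.symm m.2.1⟩
      · exact h.pt2 m
      · exact h.pt3 m
  have h2 := ncard_sub (H := ln p q) (X := {1}) (by simp)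
  rw [Set.ncard_singleton, h.card_ln a] at h2
  rw [h1, ncard_fib (k := 585), show ((ln p q : Set G) \ {1}).ncard = 3 by omega]
  · intro s hs
    obtain ⟨t, b, e⟩ := h.exists_adj_ln a hs.1 hs.2
    rw [← h.cBr (h.symm b)]
    congr 1
    ext w
    exact ⟨fun ⟨t', b', e', m⟩ => h.Br_congr (h.symm b) b' (by rw [e', ln_comm t s, e]) ▸ m,
      fun m => ⟨t, h.symm b, ln_comm s t ▸ e, m⟩⟩
  · rintro s hs s' hs' w ⟨t, b, e, m⟩ ⟨t', b', e', m'⟩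
    by_contra hne
    have c := h.adj_of_mem_ln a hs'.1 hs.1 hs'.2 hs.2 hne
    have e1 := h.ln_eq a c hs'.1 hs.1
    rw [h.Br_congr c b (by rw [e, e1])] at m
    rw [h.Br_congr (h.symm c) b' (by rw [e', ln_comm s s', e1])] at m'
    exact h.Br_disj c m m'

theorem card_eq (a : A p q) : Nat.card G = 17971200 := by
  have h1 : orb ⊤ p = {w | Pt A w} := by
    ext w
    refine ⟨?_, fun ⟨s, b⟩ => ?_⟩
    · rintro ⟨g, -, rfl⟩; exact h.pt_conj ⟨q, a⟩ g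
    · obtain ⟨g, hg, -⟩ := h.trans a b
      exact ⟨g, mem_top g, hg⟩
  have := card_orb ⊤ p
  rw [h1, h.card_pt a, top_inf_eq, h.cC a, card_top] at this
  omega

end TG0

end CL.NGrp.Tits
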