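/-
The point geometry `TG0`: apartments (the proofs of `Even/NGrp/Tits5`).
-/
import Cfsg.Agent.RF2.G4

set_option autoImplicit false
set_option linter.unusedSectionVars false
open Cfsg Subgroup CL.Grp CL.Even
open scoped Pointwise commutatorElement

namespace CL.NGrp.Tits

variable {G : Type*} [Group G] [Finite G] {U : G → Subgroup G} {A : G → G → Prop}

namespace TG0

variable (h : TG0 U A) {a b c d e x : G}
include h

theorem exX (n : Nx A a b c) (n' : Nx A b c d) : ∃ x, IsX U a b c d x := by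
  obtain ⟨y, hy, hy', e1, e2⟩ := h.exY2 n' (h.nx_symm n) True True
  exact ⟨y, hy.1, hy.2, e2.2 trivial, e1.2 trivial, hy'⟩

theorem uniqX (n : Nx A a b c) (n' : Nx A b c d) {x' : G} (m : IsX U a b c d x) (m' : IsX U a b c d x') :
    x = x' := by
  have h1 := h.mul_mem_ln_of_I n'.1 ⟨m.1, m.2.1⟩ ⟨m'.1, m'.2.1⟩ m.2.2.2.2 m'.2.2.2.2
  have h2 := mul_mem m.2.2.1 m'.2.2.1
  have h3 := mul_mem m.2.2.2.1 m'.2.2.2.1
  rcases (h.mem_ln n'.1).1 h1 with e | e | e | e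
  · rw [← inv_eq_of_mul_eq_one_right e, inv_eq2 (h.sqU n'.1 m.1)]
  · exact absurd (e ▸ h3) (h.nx_notQ (h.nx_symm n'))
  · exact absurd (e ▸ h2) (h.nx_notQ n)
  · exact absurd ((mul_mem_cancel_left (h.U_le_Q n.1 (h.memU n.1))).1 (e ▸ h2)) (h.nx_notQ n)

theorem conjX (m : IsX U a b c d x) (g : G) :
    IsX U (g * a * g⁻¹) (g * b * g⁻¹) (g * c * g⁻¹) (g * d * g⁻¹) (g * x * g⁻¹) :=
  ⟨h.conjU m.1, h.conjU m.2.1, cj_gQ g a ▸ conj_mem_cj g m.2.2.1, cj_gQ g d ▸ conj_mem_cj g m.2.2.2.1,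
    fun e => m.2.2.2.2 (by rw [← cj_ln, mem_cj] at e; simpa [mul_assoc] using e)⟩

theorem nx_conj (n : Nx A a b c) (g : G) : Nx A (g * a * g⁻¹) (g * b * g⁻¹) (g * c * g⁻¹) :=
  ⟨h.cjA g n.1, h.cjA g n.2.1, fun e => n.2.2 (by rw [← cj_ln, mem_cj] at e; simpa [mul_assoc] using e)⟩

theorem movX (n : Nx A b c d) (n' : Nx A c d e) (m : IsX U a b c d x) : x * e * x⁻¹ = d * e := by
  refine (h.QU n'.2.1 m.2.2.2.1 (h.memU n'.2.1)).resolve_left fun e1 => ?_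
  obtain ⟨s, b1, hs⟩ := h.INV (h.symm n'.2.1) (memZ'.2 e1) (h.sqU n.1 m.1)
  have h1 := h.UL2 n.1 ⟨m.1, m.2.1⟩ m.2.2.2.2 ⟨e, h.symm b1⟩ hs
  exact h.nc2 n n' (h.ZU (h.symm b1) (h.memU (h.symm b1))
    (h.IleU n.1 h1 (h.ne1' b1) (h.ln_le_I n.1 (left_mem_ln _ _))))

theorem X_notU (n : Nx A b c d) (m : IsX U a b c d x) : x ∉ U d := fun e1 => by
  rcases h.Iint (h.symm n.1) n.2.1 (ln_comm b c ▸ n.2.2) m.2.1 m.1 e1 with e2 | e2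
  · exact m.2.2.2.2 (e2 ▸ one_mem _)
  · exact m.2.2.2.2 (e2 ▸ right_mem_ln _ _)

theorem exApt {p q : G} (a : A p q) : ∃ a0 a1 a2 a3 a4 a5 a6 a7 x0 x1 x2 x3 x4 x5 x6 x7 : G,
    Apt U A a0 a1 a2 a3 a4 a5 a6 a7 x0 x1 x2 x3 x4 x5 x6 x7 := by
  have ex : ∀ {p q : G}, A p q → ∃ u, Nx A p q u := fun {p q} a =>
    (Set.ncard_pos (s := E1 A p q) (Set.toFinite _)).1 (by rw [h.cE1 a]; norm_num)
  obtain ⟨a2, n0⟩ := ex a
  obtain ⟨a3, n1⟩ := ex n0.2.1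
  obtain ⟨a4, n2⟩ := ex n1.2.1
  have m4 : a4 ∈ E3 A p q := ⟨a2, n0, a3, n1, n2⟩
  have hZ := h.E3_Z m4
  obtain ⟨s, k⟩ := ex (h.symm a)
  obtain ⟨t', s', b, e, m⟩ := h.cover k.2.1 ⟨a3, h.symm n2.2.1⟩
  obtain ⟨a7, a6, a5, n7, n6, n5, n4⟩ : ∃ a7 a6 a5, Nx A q p a7 ∧ Nx A p a7 a6 ∧ Nx A a7 a6 a5 ∧
      Nx A a6 a5 a4 := by
    by_cases e1 : s' = p
    · exfalso
      subst e1
      rcases m with m | (m | m) | ⟨u, n, m⟩
      · exact hZ.2 (m ▸ memZ.2 rfl)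
      · exact hZ.2 (h.E1_Z m).1
      · exact hZ.2 (h.E2_Z m).1
      · by_cases e2 : u ∈ ln s' q
        · by_cases e3 : u = q
          · exact hZ.1 (e3 ▸ (h.E2_Z m).1)
          · have c := h.adj_of_mem_ln a (right_mem_ln _ _) e2 (h.ne1' a) (h.ne1' n.2.1) e3
            have e4 := h.ln_eq a c (right_mem_ln _ _) e2
            refine h.Br_disj c ?_ ?_ (w := a4)
            · rw [h.Br_congr n.2.1 c (by rw [e4, h.ln_eq' a n.2.1 e2])]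
              exact .inr (.inl (.inr m))
            · rw [h.Br_congr a (h.symm c) (by rw [ln_comm u q, e4])]
              exact .inr (.inr m4)
        · exact h.circ m4 ⟨u, ⟨h.symm a, n.2.1, ln_comm s' q ▸ e2⟩, m⟩
    · have hs' : s' ∈ ln p s := e ▸ right_mem_ln _ _
      have c := h.adj_of_mem k.2.1 hs' (h.ne1' b) e1
      have e2 := h.ln_eq' k.2.1 c hs'
      have n7 : Nx A q p s' := ⟨h.symm a, c, fun e3 => k.2.2 (by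
        rw [ln_comm] at e3 ⊢
        rw [← h.ln_eq' a c e3, e2]; exact right_mem_ln _ _)⟩
      rw [h.Br_congr c b (by rw [e, e2])] at m
      rcases m with m | (m | m) | ⟨u, n, v, n', m⟩
      · exact absurd (m ▸ memZ.2 (h.comm c).symm) hZ.2
      · exact absurd (h.E1_Z m).2 hZ.2
      · exact (h.circ m4 ⟨s', n7, m⟩).elim
      · exact ⟨s', u, v, n7, n, n', m⟩
  have n3 : Nx A a3 a4 a5 := ⟨n2.2.1, h.symm n4.2.1, fun e1 => by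
    by_cases e2 : a5 = a3
    · subst e2
      exact n7.2.2 (h.uniq2 ⟨a2, n0, n1⟩ ⟨a6, n6, n5⟩ ▸ left_mem_ln _ _)
    · have c := h.adj_of_mem n2.2.1 e1 (h.ne1 n4.2.1) e2
      have e3 := h.ln_eq' n2.2.1 c e1
      refine h.circ (p := a5) (q := a3) (w := p) ?_ ?_
      · rw [E3, h.E1_congr (h.symm n2.2.1) (h.symm c) (by rw [ln_comm a5, e3, ln_comm])]
        exact ⟨a2, h.nx_symm n2, q, h.nx_symm n1, h.nx_symm n0⟩
      · rw [E3, h.E1_congr (h.symm n4.2.1) c (by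
          rw [e3]; exact (h.ln_eq n2.2.1 (h.symm n4.2.1) (right_mem_ln _ _) e1).symm)]
        exact ⟨a6, h.nx_symm n4, a7, h.nx_symm n5, h.nx_symm n6⟩⟩
  have n4 := h.nx_symm n4
  have n5 := h.nx_symm n5
  have n6 := h.nx_symm n6
  have n7 := h.nx_symm n7
  obtain ⟨x0, m0⟩ := h.exX n7 n0
  obtain ⟨x1, m1⟩ := h.exX n0 n1
  obtain ⟨x2, m2⟩ := h.exX n1 n2
  obtain ⟨x3, m3⟩ := h.exX n2 n3
  obtain ⟨x4, m4⟩ := h.exX n3 n4
  obtain ⟨x5, m5⟩ := h.exX n4 n5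
  obtain ⟨x6, m6⟩ := h.exX n5 n6
  obtain ⟨x7, m7⟩ := h.exX n6 n7
  exact ⟨_, _, _, _, _, _, _, _, _, _, _, _, _, _, _, _,
    n0, n1, n2, n3, n4, n5, n6, n7, m0, m1, m2, m3, m4, m5, m6, m7⟩

variable {a0 a1 a2 a3 a4 a5 a6 a7 x0 x1 x2 x3 x4 x5 x6 x7 : G}
  (w : Apt U A a0 a1 a2 a3 a4 a5 a6 a7 x0 x1 x2 x3 x4 x5 x6 x7)
include w

theorem rev : Apt U A a4 a3 a2 a1 a0 a7 a6 a5 x3 x2 x1 x0 x7 x6 x5 x4 :=
  ⟨h.nx_symm w.n2, h.nx_symm w.n1, h.nx_symm w.n0, h.nx_symm w.n7, h.nx_symm w.n6, h.nx_symm w.n5,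
    h.nx_symm w.n4, h.nx_symm w.n3, w.m3.symm, w.m2.symm, w.m1.symm, w.m0.symm, w.m7.symm, w.m6.symm,
    w.m5.symm, w.m4.symm⟩

theorem sq0 : x0 * x0 = 1 := h.sqU w.n0.1 w.m0.1

theorem c01 : x0 * x1 = x1 * x0 := h.commU w.n1.1 w.m0.2.1 w.m1.1

theorem c02 : x0 * x2 = x2 * x0 := memZ.1 (h.Dcomm w.n1.1 w.m0.2.1 w.m0.2.2.2.1 w.m2.1 w.m2.2.2.1)

theorem refl : x0 * x4 * x0 * x0 * (x0 * x4 * x0)⁻¹ = x4 ∧ x0 * x4 * x0 * x1 * (x0 * x4 * x0)⁻¹ = x3 := by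
  have s0 := h.sq0 w
  have s4 := h.sq0 w.rot.rot.rot.rot
  have e1 : x0 * a2 * x0⁻¹ = a2 := memZ'.1 (core_le _ w.m0.2.2.2.1)
  have e2 : x0 * a7 * x0⁻¹ = a7 := memZ'.1 (core_le _ w.m0.2.2.1)
  have e3 := h.movX w.n0 w.n1 w.m0
  have e4 := h.movX (h.nx_symm w.n7) (h.nx_symm w.n6) w.m0.symm
  have e5 := h.movX w.n4 w.n5 w.m4
  have e6 := h.movX (h.nx_symm w.n3) (h.nx_symm w.n2) w.m4.symm
  generalize hm : x0 * x4 * x0 = m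
  have mm : m * m = 1 := by
    calc m * m = x0 * (x4 * (x0 * x0) * x4) * x0 := by rw [← hm]; group
      _ = 1 := by rw [s0, mul_one, s4, mul_one, s0]
  have back : ∀ {u v : G}, m * u * m⁻¹ = v → m * v * m⁻¹ = u := by
    rintro u v rfl
    calc _ = (m * m) * u * (m * m)⁻¹ := by group
      _ = u := by rw [mm]; group
  have f2 : m * a2 * m⁻¹ = a3 := by
    calc _ = x0 * (x4 * (x0 * a2 * x0⁻¹) * x4⁻¹) * x0⁻¹ := by rw [← hm]; group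
      _ = x0 * (a3 * a2) * x0⁻¹ := by rw [e1, e6]
      _ = (x0 * a3 * x0⁻¹) * (x0 * a2 * x0⁻¹) := by group
      _ = a3 := by rw [e1, e3, h.comm w.n2.1, mul_assoc, h.sq w.n2.1, mul_one]
  have f7 : m * a7 * m⁻¹ = a6 := by
    calc _ = x0 * (x4 * (x0 * a7 * x0⁻¹) * x4⁻¹) * x0⁻¹ := by rw [← hm]; group
      _ = x0 * (a6 * a7) * x0⁻¹ := by rw [e2, e5]
      _ = (x0 * a6 * x0⁻¹) * (x0 * a7 * x0⁻¹) := by group
      _ = a6 := by rw [e2, e4, ← h.comm w.n6.1, mul_assoc, h.sq w.n7.1, mul_one]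
  have k1 := h.nx_conj (h.nx_symm w.n0) m
  have k2 := h.nx_conj (h.nx_symm w.n7) m
  rw [f2] at k1
  rw [f7] at k2
  have f1 : m * a1 * m⁻¹ = a4 := h.uniq2 ⟨_, k1, k2⟩ ⟨a5, w.n3, w.n4⟩
  rw [f1] at k2
  have f0 : m * a0 * m⁻¹ = a5 := h.uniq1 k2 w.n4
  have k3 := h.conjX w.m0 m
  have k4 := h.conjX w.m1 m
  rw [f7, f0, f1, f2] at k3
  rw [f0, f1, f2, back f2] at k4
  exact ⟨h.uniqX w.n3 w.n4 k3.symm w.m4, h.uniqX w.n2 w.n3 k4.symm w.m3⟩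

theorem R5 : (x0 * x4) ^ 3 = 1 := by
  have s0 := h.sq0 w
  have s4 := h.sq0 w.rot.rot.rot.rot
  have e := (h.refl w).1
  rw [mul_assoc _ x0 x0, s0, mul_one, mul_inv_rev, mul_inv_rev, inv_eq2 s0, inv_eq2 s4] at e
  calc (x0 * x4) ^ 3 = x0 * x4 * (x0 * (x4 * x0)) * x4 := by simp only [pow_succ, pow_zero, one_mul, mul_assoc]
    _ = 1 := by rw [e, s4]

theorem R4h : x0 * x3 * x0 * x3 = x1 ∨ x0 * x3 * x0 * x3 = x1 * x2 := by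
  have s0 := h.sq0 w
  have s1 := h.sq0 w.rot
  have s2 := h.sq0 w.rot.rot
  have s4 := h.sq0 w.rot.rot.rot.rot
  have a := w.n2.1
  have e1 : x0 * a2 * x0⁻¹ = a2 := memZ'.1 (core_le _ w.m0.2.2.2.1)
  have e3 := h.movX w.n0 w.n1 w.m0
  have e6 := h.movX (h.nx_symm w.n3) (h.nx_symm w.n2) w.m4.symm
  have k := h.conjX w.m3 x0
  rw [e1, e3] at k
  have n3 : x3 ∉ U a2 := h.X_notU (h.nx_symm w.n2) w.m3.symm
  have n3' : x0 * x3 * x0⁻¹ ∉ U a2 := fun e => n3 (by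
    simpa [mul_assoc] using conj_mem' (h.Z_le_normU a2 (memZ'.2 e1)) e)
  have e7 : x4 * x1 * x4⁻¹ = x0 * x3 * x0⁻¹ := by
    rw [← (h.refl w).2, mul_assoc _ x0 x1, h.c01 w]
    calc _ = (x0 * x0) * x4 * x1 * x4⁻¹ * (x0 * x0)⁻¹ := by rw [s0]; group
      _ = _ := by group
  have e8 : x0 * (x0 * x3 * x0⁻¹) * x0⁻¹ = x3 := by
    calc _ = (x0 * x0) * x3 * (x0 * x0)⁻¹ := by group
      _ = _ := by rw [s0]; group
  have e9 : x4 * (x0 * x3 * x0⁻¹) * x4⁻¹ = x1 := by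
    rw [← e7]
    calc _ = (x4 * x4) * x1 * (x4 * x4)⁻¹ := by group
      _ = _ := by rw [s4]; group
  have e10 : x0 * x3 * x0 * x3 = x0 * x3 * x0⁻¹ * x3 := by rw [inv_eq2 s0]
  rw [e10]
  generalize x0 * x3 * x0⁻¹ = y at k n3' e7 e8 e9
  obtain ⟨d1, d2, d3⟩ := h.Dprod a k.1 k.2.2.1 n3' w.m3.1 w.m3.2.2.1 n3
  have hI : x1 * (x3 * y) ∈ U a2 ⊓ U a3 :=
    ⟨mul_mem w.m1.2.1 d1, h.Ihalf a w.m1.2.1 d1 w.m1.2.2.2.1 d2 (h.X_notU w.n1 w.m1) d3⟩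
  have c3y : x3 * y = y * x3 := memZ.1 (h.Dcomm (h.symm (h.adj3 a)) w.m3.1 (h.D2 a w.m3.1 w.m3.2.2.1) k.1
    (h.D3 a k.1 k.2.2.1))
  have c1y : x1 * y = y * x1 := memZ.1 (h.Dcomm (h.mul a) w.m1.2.1 (h.D1 a w.m1.2.1 w.m1.2.2.2.1) k.1 k.2.2.1)
  have c13 := h.c02 w.rot
  have z0 : x0 ∈ 𝒵(x1 * (x3 * y)) := memZ'.2 (by
    have e11 : x0 * x3 * x0⁻¹ = y := by
      rw [← e8]
      calc _ = (x0 * x0) * y * (x0 * x0)⁻¹ := by group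
        _ = _ := by rw [s0]; group
    calc _ = (x0 * x1 * x0⁻¹) * ((x0 * x3 * x0⁻¹) * (x0 * y * x0⁻¹)) := by group
      _ = _ := by rw [e8, e11, h.c01 w, mul_inv_cancel_right, c3y])
  have z4 : x4 ∈ 𝒵(x1 * (x3 * y)) := memZ'.2 (by
    calc _ = (x4 * x1 * x4⁻¹) * ((x4 * x3 * x4⁻¹) * (x4 * y * x4⁻¹)) := by group
      _ = _ := by
        rw [e7, e9, ← h.c01 w.rot.rot.rot, mul_inv_cancel_right, ← c13, ← mul_assoc, ← c1y, mul_assoc, c3y])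
  have fix : ∀ v ∈ ln a2 a3, x0 ∈ 𝒵(v) → x4 ∈ 𝒵(v) → v = 1 := fun v hv h0 h4 => by
    rcases (h.mem_ln a).1 hv with e | e | e | e
    · exact e
    · rw [e, memZ', e6] at h4
      exact absurd h4 (h.mul_ne (h.symm a))
    · rw [e, memZ', e3] at h0
      exact absurd h0 (h.mul_ne a)
    · rw [e] at h0
      have := memZ_symm ((mul_mem_cancel_left (memZ_symm (memZ'.2 e1))).1 (memZ_symm h0))
      rw [memZ', e3] at this
      exact absurd this (h.mul_ne a)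
  by_cases e : x1 * (x3 * y) ∈ ln a2 a3
  · left
    rw [← c3y, ← inv_eq_of_mul_eq_one_right (fix _ e z0 z4), inv_eq2 s1]
  · right
    have := fix _ (h.mul_mem_ln_of_I a hI ⟨w.m2.1, w.m2.2.1⟩ e w.m2.2.2.2.2)
      (memZ_symm (mul_mem (memZ_symm z0) (memZ.2 (h.c02 w).symm)))
      (memZ_symm (mul_mem (memZ_symm z4) (memZ.2 (h.c02 w.rot.rot))))
    rw [← c3y]
    calc x3 * y = x1⁻¹ * (x1 * (x3 * y) * x2) * x2⁻¹ := by group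
      _ = _ := by rw [this, mul_one, inv_eq2 s1, inv_eq2 s2]

theorem R4 : x0 * x3 * x0 * x3 = x1 * x2 := by
  refine (h.R4h w).resolve_left fun e => ?_
  have s0 := h.sq0 w
  have s3 := h.sq0 w.rot.rot.rot
  have e1 : x3 * x0 * x3 * x0 = x1 := by
    rw [← inv_eq2 (h.sq0 w.rot), ← e]
    simp only [mul_inv_rev, inv_eq2 s0, inv_eq2 s3, mul_assoc]
  rcases h.R4h (h.rev w) with e2 | e2 <;> rw [e1] at e2
  · exact h.X_notU w.n1 w.m1 (e2 ▸ w.m2.2.1)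
  · exact w.m2.2.2.2.2 ((by simpa using e2 : x2 = 1) ▸ one_mem _)

end TG0

end CL.NGrp.Tits
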