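/-
The centraliser of a 2-central involution of the Ree group over the field of two elements, on 64 + 5 points: the local facts.
Generated by tools/pg.
-/
import Cfsg.Agent.RF2.MdA
import Cfsg.Agent.Spor.PGCtx

set_option autoImplicit false
set_option maxRecDepth 200000
set_option Elab.async false
set_option linter.unusedVariables false
set_option linter.unnecessarySimpa false

namespace CL.RF2.MT
open CL.PG

def P : Par := ⟨69, 80, 7, 3⟩
theorem hP : P.Ok := by decide
noncomputable def a0 : Net := (.cons 40 (nat_lit 0xa3c102ae4)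
 (.cons 20 (nat_lit 0xa7a2c0000061c74)
 (.cons 10 (nat_lit 0x2b0000e00023b001a4)
 (.cons 5 (nat_lit 0x1007020140141e00814)
 (.cons 1 (nat_lit 0x50000500400)
 (.cons 1 (nat_lit 0x400480014a1014a02800)
 (.cons 1 (nat_lit 0x28084094a52948501404)
 (.cons 1 (nat_lit 0x5010a1094a1094a02908)
 (.cons 1 (nat_lit 0x9081014252000108424)
 (.cons 5 (nat_lit 0x1010000140300e00810)
 (.cons 10 (nat_lit 0xb6001e00022800384)
 (.cons 20 (nat_lit 0xa7aa60000040c34)
 (.cons 40 (nat_lit 0xa36803084)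
 .nil)))))))))))))
noncomputable def a1 : Net := (.cons 40 (nat_lit 0xe8666b67d0)
 (.cons 20 (nat_lit 0x2b2830000046648)
 (.cons 10 (nat_lit 0x3d40023100178001b0)
 (.cons 5 (nat_lit 0x500c0081a0680002004)
 (.cons 1 (nat_lit 0x8000084210800100000)
 (.cons 1 (nat_lit 0x501001284a5080200800)
 (.cons 1 (nat_lit 0x214a4210a52140401000)
 (.cons 1 (nat_lit 0x509424294a5094a02048)
 (.cons 1 (nat_lit 0x424204810148009020)
 (.cons 5 (nat_lit 0x500c0080a0681000000)
 (.cons 10 (nat_lit 0x150000400017800114)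
 (.cons 20 (nat_lit 0xab2b00000046fc8)
 (.cons 40 (nat_lit 0xe8697ab5c4)
 .nil)))))))))))))
noncomputable def a2 : Net := (.cons 40 (nat_lit 0xef6ff75f24)
 (.cons 20 (nat_lit 0xc5c7e00000f3561)
 (.cons 10 (nat_lit 0x12e0016f0032400230)
 (.cons 5 (nat_lit 0x2c000780602c0204805)
 (.cons 1 (nat_lit 0x8000000000000000000)
 (.cons 1 (nat_lit 0x100004080a1000000000)
 (.cons 1 (nat_lit 0x210a1210242800100005)
 (.cons 1 (nat_lit 0x5204a1214a1010200002)
 (.cons 1 (nat_lit 0x10a0090a50940500084)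
 (.cons 5 (nat_lit 0x2814008020280800000)
 (.cons 10 (nat_lit 0x19c0006a0026a00220)
 (.cons 20 (nat_lit 0xe5e1000000f3d68)
 (.cons 40 (nat_lit 0xef6f7fd4d8)
 .nil)))))))))))))
noncomputable def a3 : Net := (.cons 40 (nat_lit 0x97235d2d89)
 (.cons 20 (nat_lit 0x1d22f000005f828)
 (.cons 10 (nat_lit 0x2000003c000fb00053)
 (.cons 5 (nat_lit 0x30100281203c1c04008)
 (.cons 1 (nat_lit 0x20004000002000000)
 (.cons 1 (nat_lit 0x10140009400014052802)
 (.cons 1 (nat_lit 0x2808101484214a029005)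
 (.cons 1 (nat_lit 0x5014a029481094012902)
 (.cons 1 (nat_lit 0x2802028081090a500400)
 (.cons 5 (nat_lit 0x7010048000281a00808)
 (.cons 10 (nat_lit 0x8002680009400052)
 (.cons 20 (nat_lit 0x822c000001f8a4)
 (.cons 40 (nat_lit 0x9723f1efc4)
 .nil)))))))))))))
noncomputable def a4 : Net := (.cons 40 (nat_lit 0xe2bf552aee)
 (.cons 20 (nat_lit 0x228f1000000902b)
 (.cons 10 (nat_lit 0x306001d70025c)
 (.cons 5 (nat_lit 0x7014000110040402c01)
 (.cons 1 (nat_lit 0x20004000000000080)
 (.cons 1 (nat_lit 0x14a528000000802140)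
 (.cons 1 (nat_lit 0x10a52902000025090a0)
 (.cons 1 (nat_lit 0x294252940100421284a)
 (.cons 1 (nat_lit 0x210040028425014a5)
 (.cons 5 (nat_lit 0x700801016000040380e)
 (.cons 10 (nat_lit 0x38800124001b6001ba)
 (.cons 20 (nat_lit 0x9700000001046)
 (.cons 40 (nat_lit 0xe2bf907f70)
 .nil)))))))))))))
noncomputable def a5 : Net := (.cons 40 (nat_lit 0x2283bf278f)
 (.cons 20 (nat_lit 0x1ec2f0000026473)
 (.cons 10 (nat_lit 0xa1001080015200264)
 (.cons 5 (nat_lit 0x10020000f040090341a)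
 (.cons 1 (nat_lit 0x100020004a100000)
 (.cons 1 (nat_lit 0x2001400094a02048)
 (.cons 1 (nat_lit 0xa5000a0210a4094a4)
 (.cons 1 (nat_lit 0x84a0094a4294a1084a)
 (.cons 1 (nat_lit 0x80a0200842902109000)
 (.cons 5 (nat_lit 0x1804020000000803812)
 (.cons 10 (nat_lit 0x50003020022600320)
 (.cons 20 (nat_lit 0x1c510000007f176)
 (.cons 40 (nat_lit 0x229198b9d6)
 .nil)))))))))))))
noncomputable def a6 : Net := (.cons 40 (nat_lit 0x6ffd30fd01)
 (.cons 20 (nat_lit 0x621a800000804a9)
 (.cons 10 (nat_lit 0x1400009a00204002ac)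
 (.cons 5 (nat_lit 0xc14008070080e0681e)
 (.cons 1 (nat_lit 0x20000000000000080)
 (.cons 1 (nat_lit 0x14a028020010052148)
 (.cons 1 (nat_lit 0x108529004000a0290a5)
 (.cons 1 (nat_lit 0x109425280a0084250842)
 (.cons 1 (nat_lit 0x210a4014850048521000)
 (.cons 5 (nat_lit 0x1010020160080c07018)
 (.cons 10 (nat_lit 0x50000a40024400020)
 (.cons 20 (nat_lit 0x44d8000000042a)
 (.cons 40 (nat_lit 0x6ffb00842a)
 .nil)))))))))))))
noncomputable def a7 : Net := (.cons 40 (nat_lit 0x641ca1ef76)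
 (.cons 20 (nat_lit 0x7ceb80000058100)
 (.cons 10 (nat_lit 0x3630031e0021700292)
 (.cons 5 (nat_lit 0x5c030001804c0501c01)
 (.cons 1 (nat_lit 0x400000010100000000)
 (.cons 1 (nat_lit 0x5080000002028004090a)
 (.cons 1 (nat_lit 0x210800008429424210a5)
 (.cons 1 (nat_lit 0x5204a0084a109425294a)
 (.cons 1 (nat_lit 0x1004010852042500004)
 (.cons 5 (nat_lit 0x100c020040200404000)
 (.cons 10 (nat_lit 0x38200392002380021a)
 (.cons 20 (nat_lit 0x18f7a0000058100)
 (.cons 40 (nat_lit 0x641cabcfcc)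
 .nil)))))))))))))
noncomputable def a8 : Net := (.cons 40 (nat_lit 0x50a171bd2a)
 (.cons 20 (nat_lit 0x103dd0000004412)
 (.cons 10 (nat_lit 0x4a001c0002ea00362)
 (.cons 5 (nat_lit 0x2802010100100805005)
 (.cons 1 (nat_lit 0x100000)
 (.cons 1 (nat_lit 0x8000080a00040)
 (.cons 1 (nat_lit 0x200840900401084200a5)
 (.cons 1 (nat_lit 0x10148129480290a42942)
 (.cons 1 (nat_lit 0x20085084a40808101481)
 (.cons 5 (nat_lit 0x2002010180000000008)
 (.cons 10 (nat_lit 0xa003d2002ca002a0)
 (.cons 20 (nat_lit 0x403d60000000430)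
 (.cons 40 (nat_lit 0x50a192d168)
 .nil)))))))))))))
noncomputable def a9 : Net := (.cons 40 (nat_lit 0xacc9c71822)
 (.cons 20 (nat_lit 0x23ce300000598b2)
 (.cons 10 (nat_lit 0x120027000152003f9)
 (.cons 5 (nat_lit 0x2c170101c0200003412)
 (.cons 1 (nat_lit 0x400000810000008004)
 (.cons 1 (nat_lit 0x80202142008001000a)
 (.cons 1 (nat_lit 0x21085014a4210a129405)
 (.cons 1 (nat_lit 0x52102428481294250902)
 (.cons 1 (nat_lit 0x294a5000a1290a509485)
 (.cons 5 (nat_lit 0x281201018028000100c)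
 (.cons 10 (nat_lit 0x200027200074000f0)
 (.cons 20 (nat_lit 0x2f8fc000004b890)
 (.cons 40 (nat_lit 0xacc936b018)
 .nil)))))))))))))
noncomputable def a10 : Net := (.cons 40 (nat_lit 0x3b840ab071)
 (.cons 20 (nat_lit 0x3bd800000040599)
 (.cons 10 (nat_lit 0xcd000da0038000031)
 (.cons 5 (nat_lit 0xe040020100800403)
 (.cons 1 (nat_lit 0x10042008000)
 (.cons 1 (nat_lit 0x101420094a50948)
 (.cons 1 (nat_lit 0x4200a501085294a5)
 (.cons 1 (nat_lit 0x108425094a4214a5284a)
 (.cons 1 (nat_lit 0x800000401421004a1)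
 (.cons 5 (nat_lit 0x6004010000281c)
 (.cons 10 (nat_lit 0xc002920039000388)
 (.cons 20 (nat_lit 0x115880000000516)
 (.cons 40 (nat_lit 0x3b8403eac4)
 .nil)))))))))))))
noncomputable def a11 : Net := (.cons 40 (nat_lit 0x1267eb0c22)
 (.cons 20 (nat_lit 0xc373a00000126b0)
 (.cons 10 (nat_lit 0x24e002d4002bb00220)
 (.cons 5 (nat_lit 0x48030340b05c1c02012)
 (.cons 1 (nat_lit 0x20080000000000001)
 (.cons 1 (nat_lit 0x28401000a128020280a)
 (.cons 1 (nat_lit 0x21484200a4294a501005)
 (.cons 1 (nat_lit 0x109425084a528420284a)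
 (.cons 1 (nat_lit 0x20420000812042101025)
 (.cons 5 (nat_lit 0x4802060080280802018)
 (.cons 10 (nat_lit 0x20a0021c00330002a0)
 (.cons 20 (nat_lit 0xc3162000003a73e)
 (.cons 40 (nat_lit 0x1267ebac62)
 .nil)))))))))))))
noncomputable def a12 : Net := (.cons 40 (nat_lit 0x404040000)
 (.cons 20 (nat_lit 0x5400000020020)
 (.cons 10 (nat_lit 0x42001000002800000)
 (.cons 5 (nat_lit 0x4008018080000401014)
 (.cons 1 (nat_lit 0x800008000)
 (.cons 1 (nat_lit 0x50000000005000050000)
 (.cons 1 (nat_lit 0x20005080042000021484)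
 (.cons 1 (nat_lit 0x50002108025000250908)
 (.cons 1 (nat_lit 0x405080240900009484)
 (.cons 5 (nat_lit 0x4008018080000400000)
 (.cons 10 (nat_lit 0x42001000000800020)
 (.cons 20 (nat_lit 0x54000000a8000)
 (.cons 40 (nat_lit 0x404040000)
 .nil)))))))))))))
noncomputable def a13 : Net := (.cons 40 (nat_lit 0x404870800)
 (.cons 20 (nat_lit 0x804400000040040)
 (.cons 10 (nat_lit 0x242001600013000200)
 (.cons 5 (nat_lit 0x4010010020001a04000)
 (.cons 1 (nat_lit 0x40000020)
 (.cons 1 (nat_lit 0x50000000000280000140)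
 (.cons 1 (nat_lit 0x20004000800100401480)
 (.cons 1 (nat_lit 0x50008008400280850940)
 (.cons 1 (nat_lit 0x404080810040501420)
 (.cons 5 (nat_lit 0x4010010020001204000)
 (.cons 10 (nat_lit 0x242001600011000200)
 (.cons 20 (nat_lit 0x804400000040040)
 (.cons 40 (nat_lit 0x404870800)
 .nil)))))))))))))
noncomputable def a14 : Net := (.cons 40 (nat_lit 0x1684000000)
 (.cons 20 (nat_lit 0xd28400000001040)
 (.cons 10 (nat_lit 0x340000600000000020)
 (.cons 5 (nat_lit 0x4018000180100201014)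
 (.cons 1 (nat_lit 0x8000)
 (.cons 1 (nat_lit 0x50000000000000050800)
 (.cons 1 (nat_lit 0x20004000800000021484)
 (.cons 1 (nat_lit 0x50008020400004050908)
 (.cons 1 (nat_lit 0x4080800000109484)
 (.cons 5 (nat_lit 0x4010000080000201000)
 (.cons 10 (nat_lit 0x340000600000000020)
 (.cons 20 (nat_lit 0xd20400000001040)
 (.cons 40 (nat_lit 0x1684000000)
 .nil)))))))))))))
noncomputable def a15 : Net := (.cons 40 (nat_lit 0x210000000)
 (.cons 20 (nat_lit 0xc24000000068000)
 (.cons 10 (nat_lit 0x30a000000000800200)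
 (.cons 5 (nat_lit 0x2018000140000405000)
 (.cons 1 (nat_lit 0x800000020)
 (.cons 1 (nat_lit 0x5000000140)
 (.cons 1 (nat_lit 0x4000002008001480)
 (.cons 1 (nat_lit 0x8120005010240940)
 (.cons 1 (nat_lit 0x404000000908001420)
 (.cons 5 (nat_lit 0x10000000000404000)
 (.cons 10 (nat_lit 0x202000000000800200)
 (.cons 20 (nat_lit 0xc24000000068000)
 (.cons 40 (nat_lit 0x210000000)
 .nil)))))))))))))
noncomputable def a16 : Net := (.cons 40 (nat_lit 0x1090040000)
 (.cons 20 (nat_lit 0x109000000041040)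
 (.cons 10 (nat_lit 0x1400002000200)
 (.cons 5 (nat_lit 0x80300e0101205000)
 (.cons 1 (nat_lit 0x20)
 (.cons 1 (nat_lit 0x940)
 (.cons 1 (nat_lit 0x5080840000401480)
 (.cons 1 (nat_lit 0x2100420004840940)
 (.cons 1 (nat_lit 0x5080840000501420)
 (.cons 5 (nat_lit 0x8010000001205000)
 (.cons 10 (nat_lit 0x1400000000200)
 (.cons 20 (nat_lit 0x101000000041040)
 (.cons 40 (nat_lit 0x1090040000)
 .nil)))))))))))))
noncomputable def a17 : Net := (.cons 40 (nat_lit 0x210000000)
 (.cons 20 (nat_lit 0xc24000000068000)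
 (.cons 10 (nat_lit 0x30a000000000800200)
 (.cons 5 (nat_lit 0x2018000140000405000)
 (.cons 1 (nat_lit 0x800000020)
 (.cons 1 (nat_lit 0x5000000140)
 (.cons 1 (nat_lit 0x4000002008001480)
 (.cons 1 (nat_lit 0x8120005010240940)
 (.cons 1 (nat_lit 0x404000000908001420)
 (.cons 5 (nat_lit 0x10000000000404000)
 (.cons 10 (nat_lit 0x202000000000800200)
 (.cons 20 (nat_lit 0xc24000000068000)
 (.cons 40 (nat_lit 0x210000000)
 .nil)))))))))))))
noncomputable def a18 : Net := (.cons 40 (nat_lit 0x1494030000)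
 (.cons 20 (nat_lit 0x80d480000030000)
 (.cons 10 (nat_lit 0x242001ec0001000000)
 (.cons 5 (nat_lit 0x40180300e0000401000)
 (.cons 1 (nat_lit 0x40000000)
 (.cons 1 (nat_lit 0x50000000000280000000)
 (.cons 1 (nat_lit 0x20085000200100000000)
 (.cons 1 (nat_lit 0x5004a000401280200000)
 (.cons 1 (nat_lit 0x485080210040000000)
 (.cons 5 (nat_lit 0x4018000060000400000)
 (.cons 10 (nat_lit 0x242000e40001000000)
 (.cons 20 (nat_lit 0x805480000030000)
 (.cons 40 (nat_lit 0x1494030000)
 .nil)))))))))))))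
noncomputable def a19 : Net := (.cons 40 (nat_lit 0x614050000)
 (.cons 20 (nat_lit 0x204000000a0840)
 (.cons 10 (nat_lit 0x140001600003800000)
 (.cons 5 (nat_lit 0x6000000160300201000)
 (.cons 1 (nat_lit 0x40008000)
 (.cons 1 (nat_lit 0x50000000000280050000)
 (.cons 1 (nat_lit 0x20000000800140020000)
 (.cons 1 (nat_lit 0x50000020400284050000)
 (.cons 1 (nat_lit 0x80812040108000)
 (.cons 5 (nat_lit 0x4000000020300200000)
 (.cons 10 (nat_lit 0x140001600001800000)
 (.cons 20 (nat_lit 0x204000000a0840)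
 (.cons 40 (nat_lit 0x614050000)
 .nil)))))))))))))
noncomputable def a20 : Net := (.cons 40 (nat_lit 0x1380840000)
 (.cons 20 (nat_lit 0xb4d0000000c0040)
 (.cons 10 (nat_lit 0x21a001400012000000)
 (.cons 5 (nat_lit 0x180101a0000a01000)
 (.cons 1 (nat_lit 0x8000)
 (.cons 1 (nat_lit 0x50000)
 (.cons 1 (nat_lit 0x5080840000020000)
 (.cons 1 (nat_lit 0x1010a100420000050800)
 (.cons 1 (nat_lit 0x1405080840000108000)
 (.cons 5 (nat_lit 0x18010000000201000)
 (.cons 10 (nat_lit 0x21a001400010000000)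
 (.cons 20 (nat_lit 0xb450000000c0040)
 (.cons 40 (nat_lit 0x1380840000)
 .nil)))))))))))))
noncomputable def a21 : Net := (.cons 40 (nat_lit 0x1494030000)
 (.cons 20 (nat_lit 0x80d480000030000)
 (.cons 10 (nat_lit 0x242001ec0001000000)
 (.cons 5 (nat_lit 0x40180300e0000401000)
 (.cons 1 (nat_lit 0x40000000)
 (.cons 1 (nat_lit 0x50000000000280000000)
 (.cons 1 (nat_lit 0x20085000200100000000)
 (.cons 1 (nat_lit 0x5004a000401280200000)
 (.cons 1 (nat_lit 0x485080210040000000)
 (.cons 5 (nat_lit 0x4018000060000400000)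
 (.cons 10 (nat_lit 0x242000e40001000000)
 (.cons 20 (nat_lit 0x805480000030000)
 (.cons 40 (nat_lit 0x1494030000)
 .nil)))))))))))))
noncomputable def a22 : Net := (.cons 40 (nat_lit 0xef6ff75f24)
 (.cons 20 (nat_lit 0xc5c7e00000f3561)
 (.cons 10 (nat_lit 0x12e0016f0032400230)
 (.cons 5 (nat_lit 0x2c000780602c0204805)
 (.cons 1 (nat_lit 0x8000000000000000000)
 (.cons 1 (nat_lit 0x100004080a1000000000)
 (.cons 1 (nat_lit 0x210a1210242800100005)
 (.cons 1 (nat_lit 0x5204a1214a1010200002)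
 (.cons 1 (nat_lit 0x10a0090a50940500084)
 (.cons 5 (nat_lit 0x2814008020280800000)
 (.cons 10 (nat_lit 0x19c0006a0026a00220)
 (.cons 20 (nat_lit 0xe5e1000000f3d68)
 (.cons 40 (nat_lit 0xef6f7fd4d8)
 .nil)))))))))))))
noncomputable def a23 : Net := (.cons 40 (nat_lit 0xa3c102ae4)
 (.cons 20 (nat_lit 0xa7a2c0000061c74)
 (.cons 10 (nat_lit 0x2b0000e00023b001a4)
 (.cons 5 (nat_lit 0x1007020140141e00814)
 (.cons 1 (nat_lit 0x50000500400)
 (.cons 1 (nat_lit 0x400480014a1014a02800)
 (.cons 1 (nat_lit 0x28084094a52948501404)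
 (.cons 1 (nat_lit 0x5010a1094a1094a02908)
 (.cons 1 (nat_lit 0x9081014252000108424)
 (.cons 5 (nat_lit 0x1010000140300e00810)
 (.cons 10 (nat_lit 0xb6001e00022800384)
 (.cons 20 (nat_lit 0xa7aa60000040c34)
 (.cons 40 (nat_lit 0xa36803084)
 .nil)))))))))))))
noncomputable def a24 : Net := (.cons 40 (nat_lit 0x2200886a00)
 (.cons 20 (nat_lit 0x6181800000648b0)
 (.cons 10 (nat_lit 0x128001e00001200264)
 (.cons 5 (nat_lit 0x1008020000200000800)
 (.cons 1 (nat_lit 0x280000800000400)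
 (.cons 1 (nat_lit 0x500005280002800)
 (.cons 1 (nat_lit 0x29004294842900001000)
 (.cons 1 (nat_lit 0x10848509025280802800)
 (.cons 1 (nat_lit 0x29005294a40902100400)
 (.cons 5 (nat_lit 0x20000200000000)
 (.cons 10 (nat_lit 0x128001e00001200040)
 (.cons 20 (nat_lit 0x618180000064830)
 (.cons 40 (nat_lit 0x2200886a00)
 .nil)))))))))))))
noncomputable def a25 : Net := (.cons 40 (nat_lit 0xab59a967ac)
 (.cons 20 (nat_lit 0xda2960000064b2c)
 (.cons 10 (nat_lit 0x3a0002e40008800274)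
 (.cons 5 (nat_lit 0x1d008130001007808)
 (.cons 1 (nat_lit 0x2000000)
 (.cons 1 (nat_lit 0x148009480214000000)
 (.cons 1 (nat_lit 0x4a501085010a409480)
 (.cons 1 (nat_lit 0x84a0294a0094850908)
 (.cons 1 (nat_lit 0x94810840121025094a0)
 (.cons 5 (nat_lit 0x3018000160000407008)
 (.cons 10 (nat_lit 0x60002e4001ca00168)
 (.cons 20 (nat_lit 0x782000000060858)
 (.cons 40 (nat_lit 0xab5336ebd8)
 .nil)))))))))))))
noncomputable def a26 : Net := (.cons 40 (nat_lit 0x3220ceaa60)
 (.cons 20 (nat_lit 0x3f95100000cd191)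
 (.cons 10 (nat_lit 0x156001e4000b600314)
 (.cons 5 (nat_lit 0x4050160341b0080f)
 (.cons 1 (nat_lit 0x1000040002000000)
 (.cons 1 (nat_lit 0x284a0000a0014000808)
 (.cons 1 (nat_lit 0x290840940508084214a4)
 (.cons 1 (nat_lit 0x1290a12802109424084a)
 (.cons 1 (nat_lit 0x80094010940429405)
 (.cons 5 (nat_lit 0x18140401c0201a02804)
 (.cons 10 (nat_lit 0x104001e40009000314)
 (.cons 20 (nat_lit 0x1fb500000008980)
 (.cons 40 (nat_lit 0x32200e1a60)
 .nil)))))))))))))
noncomputable def a27 : Net := (.cons 40 (nat_lit 0x7bf693436e)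
 (.cons 20 (nat_lit 0xd2f24000007e157)
 (.cons 10 (nat_lit 0x18a003e8001b800023)
 (.cons 5 (nat_lit 0x1d01c080501901004)
 (.cons 1 (nat_lit 0x2008004)
 (.cons 1 (nat_lit 0x80800000500401000a)
 (.cons 1 (nat_lit 0x2140509404200a420005)
 (.cons 1 (nat_lit 0x1084a528485214240002)
 (.cons 1 (nat_lit 0x21020284050100528401)
 (.cons 5 (nat_lit 0x16060000101a01004)
 (.cons 10 (nat_lit 0x38a003c80006000232)
 (.cons 20 (nat_lit 0x98f24000007e1c0)
 (.cons 40 (nat_lit 0x7bf69b414e)
 .nil)))))))))))))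
noncomputable def a28 : Net := (.cons 40 (nat_lit 0xa7d501129a)
 (.cons 20 (nat_lit 0x961a10000080008)
 (.cons 10 (nat_lit 0x219001860024000314)
 (.cons 5 (nat_lit 0x40700c0001601015)
 (.cons 1 (nat_lit 0x20000000800500000)
 (.cons 1 (nat_lit 0x2142028025000a00100)
 (.cons 1 (nat_lit 0x10a40900520025280a4)
 (.cons 1 (nat_lit 0x1094a528425004a50042)
 (.cons 1 (nat_lit 0x425080840802129485)
 (.cons 5 (nat_lit 0x80407006000140501a)
 (.cons 10 (nat_lit 0x2080019e0026000314)
 (.cons 20 (nat_lit 0xb14a800000c0008)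
 (.cons 40 (nat_lit 0xa7d500109a)
 .nil)))))))))))))
noncomputable def a29 : Net := (.cons 40 (nat_lit 0x3cdd214210)
 (.cons 20 (nat_lit 0x3275600000ca4b2)
 (.cons 10 (nat_lit 0x3d80031e0012800082)
 (.cons 5 (nat_lit 0x3800008140000007004)
 (.cons 1 (nat_lit 0x8000000000800000000)
 (.cons 1 (nat_lit 0x5280a020005000000040)
 (.cons 1 (nat_lit 0x214040142421404000a0)
 (.cons 1 (nat_lit 0x5080a008485080850040)
 (.cons 1 (nat_lit 0x8001010050848500005)
 (.cons 5 (nat_lit 0x3002008140001005004)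
 (.cons 10 (nat_lit 0x3820023e0010000082)
 (.cons 20 (nat_lit 0x12f52000004a6b2)
 (.cons 40 (nat_lit 0x3cdd010210)
 .nil)))))))))))))
noncomputable def a30 : Net := (.cons 40 (nat_lit 0x414000000)
 (.cons 20 (nat_lit 0xc01400000008040)
 (.cons 10 (nat_lit 0x248001000000800200)
 (.cons 5 (nat_lit 0x6018030040000201002)
 (.cons 1 (nat_lit 0x8000000a0)
 (.cons 1 (nat_lit 0x50000000005000000940)
 (.cons 1 (nat_lit 0x200050800020000014a5)
 (.cons 1 (nat_lit 0x5000a100005000000942)
 (.cons 1 (nat_lit 0x50802009001014a5)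
 (.cons 5 (nat_lit 0x4018010000000201002)
 (.cons 10 (nat_lit 0x248001000000800200)
 (.cons 20 (nat_lit 0xc01400000008040)
 (.cons 40 (nat_lit 0x414000000)
 .nil)))))))))))))
noncomputable def a31 : Net := (.cons 40 (nat_lit 0x404870800)
 (.cons 20 (nat_lit 0x804400000040040)
 (.cons 10 (nat_lit 0x242001600013000200)
 (.cons 5 (nat_lit 0x4010010020001a04000)
 (.cons 1 (nat_lit 0x40000020)
 (.cons 1 (nat_lit 0x50000000000280000140)
 (.cons 1 (nat_lit 0x20004000800100401480)
 (.cons 1 (nat_lit 0x50008008400280850940)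
 (.cons 1 (nat_lit 0x404080810040501420)
 (.cons 5 (nat_lit 0x4010010020001204000)
 (.cons 10 (nat_lit 0x242001600011000200)
 (.cons 20 (nat_lit 0x804400000040040)
 (.cons 40 (nat_lit 0x404870800)
 .nil)))))))))))))
noncomputable def a32 : Net := (.cons 40 (nat_lit 0x1280070000)
 (.cons 20 (nat_lit 0x4c080000070000)
 (.cons 10 (nat_lit 0x42001400003000000)
 (.cons 5 (nat_lit 0x8000120000405014)
 (.cons 1 (nat_lit 0x40000000)
 (.cons 1 (nat_lit 0x280000000)
 (.cons 1 (nat_lit 0x80000800108000084)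
 (.cons 1 (nat_lit 0x2040000401290240108)
 (.cons 1 (nat_lit 0x480000810048000084)
 (.cons 5 (nat_lit 0x8000020000404000)
 (.cons 10 (nat_lit 0x42001400001000000)
 (.cons 20 (nat_lit 0x44080000070000)
 (.cons 40 (nat_lit 0x1280070000)
 .nil)))))))))))))
noncomputable def a33 : Net := (.cons 40 (nat_lit 0xb73f6965ec)
 (.cons 20 (nat_lit 0x2d50f0000097f63)
 (.cons 10 (nat_lit 0x3ec0019c0034e00100)
 (.cons 5 (nat_lit 0x641a0601a0041201412)
 (.cons 1 (nat_lit 0x10002000020)
 (.cons 1 (nat_lit 0x1400000a1094a00040)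
 (.cons 1 (nat_lit 0x10a020085214a500084)
 (.cons 1 (nat_lit 0x521405004a5294200942)
 (.cons 1 (nat_lit 0x280a12102409080000a0)
 (.cons 5 (nat_lit 0x3008000140081001016)
 (.cons 10 (nat_lit 0x3c4002840021000102)
 (.cons 20 (nat_lit 0x8c686000009f79c)
 (.cons 40 (nat_lit 0xb73fbc4e88)
 .nil)))))))))))))
noncomputable def a34 : Net := (.cons 40 (nat_lit 0xad23f2078b)
 (.cons 20 (nat_lit 0x6666c00000f9482)
 (.cons 10 (nat_lit 0x384001e80031e0010b)
 (.cons 5 (nat_lit 0x540b058020540802000)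
 (.cons 1 (nat_lit 0x1080000800000020)
 (.cons 1 (nat_lit 0x102120005080000040)
 (.cons 1 (nat_lit 0x9485210242148101480)
 (.cons 1 (nat_lit 0x5094a528485090200908)
 (.cons 1 (nat_lit 0x842008005084a101080)
 (.cons 5 (nat_lit 0x601003810068040200a)
 (.cons 10 (nat_lit 0x3b4001a8002320010a)
 (.cons 20 (nat_lit 0x6a4a800000fb406)
 (.cons 40 (nat_lit 0xad268654e8)
 .nil)))))))))))))
noncomputable def a35 : Net := (.cons 40 (nat_lit 0x253649f1d8)
 (.cons 20 (nat_lit 0x924b0000003428)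
 (.cons 10 (nat_lit 0x30003cb0023c003ca)
 (.cons 5 (nat_lit 0x100a020040081101804)
 (.cons 1 (nat_lit 0x10000000000)
 (.cons 1 (nat_lit 0x8001020200800040)
 (.cons 1 (nat_lit 0x8004010a401485014a0)
 (.cons 1 (nat_lit 0x100420294a0084a02948)
 (.cons 1 (nat_lit 0x8004000200102000085)
 (.cons 5 (nat_lit 0x8030000201203802)
 (.cons 10 (nat_lit 0x10000800021c00070)
 (.cons 20 (nat_lit 0xd12800000d1906)
 (.cons 40 (nat_lit 0x253a9005d4)
 .nil)))))))))))))
noncomputable def a36 : Net := (.cons 40 (nat_lit 0x1a2d108ac1)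
 (.cons 20 (nat_lit 0x1443000003cdff)
 (.cons 10 (nat_lit 0x3f9000660002d002fe)
 (.cons 5 (nat_lit 0x4003058050000704410)
 (.cons 1 (nat_lit 0x4)
 (.cons 1 (nat_lit 0x4200040000100080200a)
 (.cons 1 (nat_lit 0x21404280812802401005)
 (.cons 1 (nat_lit 0x508021084a5084a10902)
 (.cons 1 (nat_lit 0x28401210a5294a028081)
 (.cons 5 (nat_lit 0x2000000140780204000)
 (.cons 10 (nat_lit 0x3f8003e60006800174)
 (.cons 20 (nat_lit 0x1153800000d817c)
 (.cons 40 (nat_lit 0x1a339614c4)
 .nil)))))))))))))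
noncomputable def a37 : Net := (.cons 40 (nat_lit 0xcb03d720)
 (.cons 20 (nat_lit 0x4006400000fb5e4)
 (.cons 10 (nat_lit 0x40024a0004400358)
 (.cons 5 (nat_lit 0x200601016024180480e)
 (.cons 1 (nat_lit 0x80010800508005)
 (.cons 1 (nat_lit 0x8005000a5200a1204a)
 (.cons 1 (nat_lit 0x1401210052940529085)
 (.cons 1 (nat_lit 0x80a5214a5280a5290a)
 (.cons 1 (nat_lit 0x140109401084a520085)
 (.cons 5 (nat_lit 0x200401010050180100c)
 (.cons 10 (nat_lit 0x4002420004400012)
 (.cons 20 (nat_lit 0x4004400000535a0)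
 (.cons 40 (nat_lit 0xcb03c720)
 .nil)))))))))))))
noncomputable def a38 : Net := (.cons 40 (nat_lit 0x8651896bda)
 (.cons 20 (nat_lit 0xc286800000a1628)
 (.cons 10 (nat_lit 0x211002c60000100334)
 (.cons 5 (nat_lit 0x280c06806054170300b)
 (.cons 1 (nat_lit 0x40000000)
 (.cons 1 (nat_lit 0x2142400000280240040)
 (.cons 1 (nat_lit 0x214a42800001424280a0)
 (.cons 1 (nat_lit 0x1094a101021284a5084a)
 (.cons 1 (nat_lit 0x21401000010002408005)
 (.cons 5 (nat_lit 0x280c068060481005004)
 (.cons 10 (nat_lit 0x300002d2002e000334)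
 (.cons 20 (nat_lit 0xc2c6000000e1c2c)
 (.cons 40 (nat_lit 0x865188a958)
 .nil)))))))))))))
noncomputable def a39 : Net := (.cons 40 (nat_lit 0x78bafc248)
 (.cons 20 (nat_lit 0xb127e0000063598)
 (.cons 10 (nat_lit 0x26400134001d800193)
 (.cons 5 (nat_lit 0x180006004030100600a)
 (.cons 1 (nat_lit 0x840101000)
 (.cons 1 (nat_lit 0x50808008025080a02940)
 (.cons 1 (nat_lit 0x290040140529084014a5)
 (.cons 1 (nat_lit 0x528424080a5204a0294a)
 (.cons 1 (nat_lit 0x9005014800848409005)
 (.cons 5 (nat_lit 0x1004060040001c0601c)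
 (.cons 10 (nat_lit 0xb0001140005400290)
 (.cons 20 (nat_lit 0xb5a740000043792)
 (.cons 40 (nat_lit 0x78b95da28)
 .nil)))))))))))))
noncomputable def a40 : Net := (.cons 40 (nat_lit 0xc5aff79180)
 (.cons 20 (nat_lit 0xd9117000001251c)
 (.cons 10 (nat_lit 0x132000fa0014800320)
 (.cons 5 (nat_lit 0x7001030180200401408)
 (.cons 1 (nat_lit 0x20080000000401020)
 (.cons 1 (nat_lit 0x501405000a0000a12942)
 (.cons 1 (nat_lit 0x280802840509405294a5)
 (.cons 1 (nat_lit 0x5214a5080a1084a50942)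
 (.cons 1 (nat_lit 0x81084810940420025)
 (.cons 5 (nat_lit 0x7002010180200406808)
 (.cons 10 (nat_lit 0x132000ea0014800320)
 (.cons 20 (nat_lit 0xd9b100000012514)
 (.cons 40 (nat_lit 0xc5aff79180)
 .nil)))))))))))))
noncomputable def a41 : Net := (.cons 40 (nat_lit 0x404870800)
 (.cons 20 (nat_lit 0x804400000040040)
 (.cons 10 (nat_lit 0x242001600013000200)
 (.cons 5 (nat_lit 0x4010010020001a04000)
 (.cons 1 (nat_lit 0x40000020)
 (.cons 1 (nat_lit 0x50000000000280000140)
 (.cons 1 (nat_lit 0x20004000800100401480)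
 (.cons 1 (nat_lit 0x50008008400280850940)
 (.cons 1 (nat_lit 0x404080810040501420)
 (.cons 5 (nat_lit 0x4010010020001204000)
 (.cons 10 (nat_lit 0x242001600011000200)
 (.cons 20 (nat_lit 0x804400000040040)
 (.cons 40 (nat_lit 0x404870800)
 .nil)))))))))))))
noncomputable def a42 : Net := (.cons 40 (nat_lit 0x1684010000)
 (.cons 20 (nat_lit 0x29480000048000)
 (.cons 10 (nat_lit 0x40000640001800200)
 (.cons 5 (nat_lit 0x4008000160001004000)
 (.cons 1 (nat_lit 0x840000020)
 (.cons 1 (nat_lit 0x50000000005280000140)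
 (.cons 1 (nat_lit 0x20085000202100401480)
 (.cons 1 (nat_lit 0x50042020405280840940)
 (.cons 1 (nat_lit 0x85080210940401420)
 (.cons 5 (nat_lit 0x4008000060001004000)
 (.cons 10 (nat_lit 0x40000640001800200)
 (.cons 20 (nat_lit 0x21480000048000)
 (.cons 40 (nat_lit 0x1684010000)
 .nil)))))))))))))
noncomputable def a43 : Net := (.cons 40 (nat_lit 0x210030800)
 (.cons 20 (nat_lit 0x45000000000040)
 (.cons 10 (nat_lit 0x2001400001000020)
 (.cons 5 (nat_lit 0x8030160000200014)
 (.cons 1 (nat_lit 0x40008000)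
 (.cons 1 (nat_lit 0x280050000)
 (.cons 1 (nat_lit 0x5080000100029484)
 (.cons 1 (nat_lit 0x2002108000280050908)
 (.cons 1 (nat_lit 0x405080010040109484)
 (.cons 5 (nat_lit 0x8010020000200000)
 (.cons 10 (nat_lit 0x2001400001000020)
 (.cons 20 (nat_lit 0x45000000000040)
 (.cons 40 (nat_lit 0x210030800)
 .nil)))))))))))))
noncomputable def a44 : Net := (.cons 40 (nat_lit 0x10000)
 (.cons 20 (nat_lit 0xc010000000e0840)
 (.cons 10 (nat_lit 0x208000400001800000)
 (.cons 5 (nat_lit 0x2018010020301203014)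
 (.cons 1 (nat_lit 0x40008000)
 (.cons 1 (nat_lit 0x280050000)
 (.cons 1 (nat_lit 0x5080000140420084)
 (.cons 1 (nat_lit 0xa100000284852108)
 (.cons 1 (nat_lit 0x5080012040508084)
 (.cons 5 (nat_lit 0x18010020301202000)
 (.cons 10 (nat_lit 0x208000400001800000)
 (.cons 20 (nat_lit 0xc010000000e0840)
 (.cons 40 (nat_lit 0x10000)
 .nil)))))))))))))
noncomputable def a45 : Net := (.cons 40 (nat_lit 0x1494030000)
 (.cons 20 (nat_lit 0x80d480000030000)
 (.cons 10 (nat_lit 0x242001ec0001000000)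
 (.cons 5 (nat_lit 0x40180300e0000401000)
 (.cons 1 (nat_lit 0x40000000)
 (.cons 1 (nat_lit 0x50000000000280000000)
 (.cons 1 (nat_lit 0x20085000200100000000)
 (.cons 1 (nat_lit 0x5004a000401280200000)
 (.cons 1 (nat_lit 0x485080210040000000)
 (.cons 5 (nat_lit 0x4018000060000400000)
 (.cons 10 (nat_lit 0x242000e40001000000)
 (.cons 20 (nat_lit 0x805480000030000)
 (.cons 40 (nat_lit 0x1494030000)
 .nil)))))))))))))
noncomputable def a46 : Net := (.cons 40 (nat_lit 0x1090040000)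
 (.cons 20 (nat_lit 0x109000000041040)
 (.cons 10 (nat_lit 0x1400002000200)
 (.cons 5 (nat_lit 0x80300e0101205000)
 (.cons 1 (nat_lit 0x20)
 (.cons 1 (nat_lit 0x940)
 (.cons 1 (nat_lit 0x5080840000401480)
 (.cons 1 (nat_lit 0x2100420004840940)
 (.cons 1 (nat_lit 0x5080840000501420)
 (.cons 5 (nat_lit 0x8010000001205000)
 (.cons 10 (nat_lit 0x1400000000200)
 (.cons 20 (nat_lit 0x101000000041040)
 (.cons 40 (nat_lit 0x1090040000)
 .nil)))))))))))))
noncomputable def a47 : Net := (.cons 40 (nat_lit 0x614050000)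
 (.cons 20 (nat_lit 0x204000000a0840)
 (.cons 10 (nat_lit 0x140001600003800000)
 (.cons 5 (nat_lit 0x6000000160300201000)
 (.cons 1 (nat_lit 0x40008000)
 (.cons 1 (nat_lit 0x50000000000280050000)
 (.cons 1 (nat_lit 0x20000000800140020000)
 (.cons 1 (nat_lit 0x50000020400284050000)
 (.cons 1 (nat_lit 0x80812040108000)
 (.cons 5 (nat_lit 0x4000000020300200000)
 (.cons 10 (nat_lit 0x140001600001800000)
 (.cons 20 (nat_lit 0x204000000a0840)
 (.cons 40 (nat_lit 0x614050000)
 .nil)))))))))))))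
noncomputable def a48 : Net := (.cons 40 (nat_lit 0x41586702cf)
 (.cons 20 (nat_lit 0xe4d2b000003a03d)
 (.cons 10 (nat_lit 0x19f003dd000aa002da)
 (.cons 5 (nat_lit 0x700d070000101c0300a)
 (.cons 1 (nat_lit 0x1404004000800101000)
 (.cons 1 (nat_lit 0x280a508025000202800)
 (.cons 1 (nat_lit 0x21425210052100421401)
 (.cons 1 (nat_lit 0x4284252802521484284a)
 (.cons 1 (nat_lit 0x20001094240900521420)
 (.cons 5 (nat_lit 0xa030000101801810)
 (.cons 10 (nat_lit 0x8c0039c002f800022)
 (.cons 20 (nat_lit 0xa59520000096a4a)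
 (.cons 40 (nat_lit 0x4151c37330)
 .nil)))))))))))))
noncomputable def a49 : Net := (.cons 40 (nat_lit 0xb1841e27df)
 (.cons 20 (nat_lit 0x41d2c00000954b3)
 (.cons 10 (nat_lit 0x202003ae001bb0002f)
 (.cons 5 (nat_lit 0x3812048050000001008)
 (.cons 1 (nat_lit 0x800000001000a0)
 (.cons 1 (nat_lit 0x129020000202948)
 (.cons 1 (nat_lit 0x1420210a401004090a5)
 (.cons 1 (nat_lit 0x109424294a5200a12942)
 (.cons 1 (nat_lit 0x1000000202142108025)
 (.cons 5 (nat_lit 0x2000040140400800000)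
 (.cons 10 (nat_lit 0x28600394003c200126)
 (.cons 20 (nat_lit 0x514b000000d1592)
 (.cons 40 (nat_lit 0xb182df96e0)
 .nil)))))))))))))
noncomputable def a50 : Net := (.cons 40 (nat_lit 0xef59f39cc8)
 (.cons 20 (nat_lit 0xf48200000096190)
 (.cons 10 (nat_lit 0x6c003b400108002c6)
 (.cons 5 (nat_lit 0x7016000070280401002)
 (.cons 1 (nat_lit 0x408000)
 (.cons 1 (nat_lit 0x484080a10000)
 (.cons 1 (nat_lit 0x21000010852108528024)
 (.cons 1 (nat_lit 0x421404210a1290250042)
 (.cons 1 (nat_lit 0x1481210a0200a120025)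
 (.cons 5 (nat_lit 0x201a040140400401002)
 (.cons 10 (nat_lit 0xd4003b400108002c0)
 (.cons 20 (nat_lit 0xb68200000096990)
 (.cons 40 (nat_lit 0xef59f39850)
 .nil)))))))))))))
noncomputable def a51 : Net := (.cons 40 (nat_lit 0xb45d6f9c00)
 (.cons 20 (nat_lit 0x84042000000335e)
 (.cons 10 (nat_lit 0x2490008f0004000109)
 (.cons 5 (nat_lit 0x8120341b0200101c06)
 (.cons 1 (nat_lit 0x142000000000a0)
 (.cons 1 (nat_lit 0x800029400000042940)
 (.cons 1 (nat_lit 0x10840148000000290a1)
 (.cons 1 (nat_lit 0x2848029400090a52942)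
 (.cons 1 (nat_lit 0x405014a108000004a5)
 (.cons 5 (nat_lit 0x812040120000004002)
 (.cons 10 (nat_lit 0x298003700006000184)
 (.cons 20 (nat_lit 0xa04c0000000335e)
 (.cons 40 (nat_lit 0xb45defd800)
 .nil)))))))))))))
noncomputable def a52 : Net := (.cons 40 (nat_lit 0x3be24e3175)
 (.cons 20 (nat_lit 0x4d64100000a8937)
 (.cons 10 (nat_lit 0x36e002f8000ca00190)
 (.cons 5 (nat_lit 0x140303c130380d0500a)
 (.cons 1 (nat_lit 0x8000080000800000000)
 (.cons 1 (nat_lit 0x52000120025000010108)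
 (.cons 1 (nat_lit 0x21004214a42102521485)
 (.cons 1 (nat_lit 0x52802528485204a4284a)
 (.cons 1 (nat_lit 0x1424204250802421480)
 (.cons 5 (nat_lit 0x4008078100100c02010)
 (.cons 10 (nat_lit 0x300000da000ca003d4)
 (.cons 20 (nat_lit 0x5cc4800000ec93e)
 (.cons 40 (nat_lit 0x3be25e1010)
 .nil)))))))))))))
noncomputable def a53 : Net := (.cons 40 (nat_lit 0x8e807abd96)
 (.cons 20 (nat_lit 0xa6ca800000ff4ce)
 (.cons 10 (nat_lit 0x2140007c000bc00027)
 (.cons 5 (nat_lit 0x1011078130000801012)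
 (.cons 1 (nat_lit 0x5000000840400000)
 (.cons 1 (nat_lit 0xa020005294a00000)
 (.cons 1 (nat_lit 0x808521001290a500404)
 (.cons 1 (nat_lit 0x1090a5090a5294a10842)
 (.cons 1 (nat_lit 0x9485010240042408001)
 (.cons 5 (nat_lit 0x1010030080000400000)
 (.cons 10 (nat_lit 0x2140026200258000e0)
 (.cons 20 (nat_lit 0xa6ca800000bf586)
 (.cons 40 (nat_lit 0x8e8072bdb6)
 .nil)))))))))))))
noncomputable def a54 : Net := (.cons 40 (nat_lit 0x1380840000)
 (.cons 20 (nat_lit 0xb4d0000000c0040)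
 (.cons 10 (nat_lit 0x21a001400012000000)
 (.cons 5 (nat_lit 0x180101a0000a01000)
 (.cons 1 (nat_lit 0x8000)
 (.cons 1 (nat_lit 0x50000)
 (.cons 1 (nat_lit 0x5080840000020000)
 (.cons 1 (nat_lit 0x1010a100420000050800)
 (.cons 1 (nat_lit 0x1405080840000108000)
 (.cons 5 (nat_lit 0x18010000000201000)
 (.cons 10 (nat_lit 0x21a001400010000000)
 (.cons 20 (nat_lit 0xb450000000c0040)
 (.cons 40 (nat_lit 0x1380840000)
 .nil)))))))))))))
noncomputable def a55 : Net := (.cons 40 (nat_lit 0x1000030800)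
 (.cons 20 (nat_lit 0x4080000038840)
 (.cons 10 (nat_lit 0x42000400001800200)
 (.cons 5 (nat_lit 0x8010020000201002)
 (.cons 1 (nat_lit 0x8400000a0)
 (.cons 1 (nat_lit 0x5280000140)
 (.cons 1 (nat_lit 0x800000029000014a5)
 (.cons 1 (nat_lit 0x40008005284000942)
 (.cons 1 (nat_lit 0x4800000109401014a5)
 (.cons 5 (nat_lit 0x8010020000200002)
 (.cons 10 (nat_lit 0x42000400001800200)
 (.cons 20 (nat_lit 0x4080000038040)
 (.cons 40 (nat_lit 0x1000030800)
 .nil)))))))))))))
noncomputable def a56 : Net := (.cons 40 (nat_lit 0x1484050000)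
 (.cons 20 (nat_lit 0x9480000000040)
 (.cons 10 (nat_lit 0x40001640003000000)
 (.cons 5 (nat_lit 0x4008000060000201016)
 (.cons 1 (nat_lit 0x40000000)
 (.cons 1 (nat_lit 0x50000000400280000000)
 (.cons 1 (nat_lit 0x20085000a00100000085)
 (.cons 1 (nat_lit 0x5004200040028000094a)
 (.cons 1 (nat_lit 0x85080010040100085)
 (.cons 5 (nat_lit 0x4008000060000201002)
 (.cons 10 (nat_lit 0x40001640001000000)
 (.cons 20 (nat_lit 0x1480000000040)
 (.cons 40 (nat_lit 0x1484050000)
 .nil)))))))))))))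
noncomputable def a57 : Net := (.cons 40 (nat_lit 0x1584840000)
 (.cons 20 (nat_lit 0x9084000000e0000)
 (.cons 10 (nat_lit 0x248001600012000000)
 (.cons 5 (nat_lit 0x40100000a0000c03002)
 (.cons 1 (nat_lit 0x8000)
 (.cons 1 (nat_lit 0x50000000000000050000)
 (.cons 1 (nat_lit 0x20004000840008020085)
 (.cons 1 (nat_lit 0x50008000420010252042)
 (.cons 1 (nat_lit 0x1004080840008008085)
 (.cons 5 (nat_lit 0x4010000000000402002)
 (.cons 10 (nat_lit 0x248001600010000000)
 (.cons 20 (nat_lit 0x9004000000e0000)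
 (.cons 40 (nat_lit 0x1584840000)
 .nil)))))))))))))
noncomputable def a58 : Net := (.cons 40 (nat_lit 0x1714870800)
 (.cons 20 (nat_lit 0x8d5280000070860)
 (.cons 10 (nat_lit 0x21a0014e0013000000)
 (.cons 5 (nat_lit 0x3018050160001a01416)
 (.cons 1 (nat_lit 0x840000400)
 (.cons 1 (nat_lit 0x10000500005280040800)
 (.cons 1 (nat_lit 0x28005200802900429085)
 (.cons 1 (nat_lit 0x1010a50840528481294a)
 (.cons 1 (nat_lit 0x425010010840528485)
 (.cons 5 (nat_lit 0x30180600a0001206002)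
 (.cons 10 (nat_lit 0x21a000c00011000020)
 (.cons 20 (nat_lit 0x8d52800000f8040)
 (.cons 40 (nat_lit 0x1714870800)
 .nil)))))))))))))
noncomputable def a59 : Net := (.cons 40 (nat_lit 0x1380840000)
 (.cons 20 (nat_lit 0xb4d0000000c0040)
 (.cons 10 (nat_lit 0x21a001400012000000)
 (.cons 5 (nat_lit 0x180101a0000a01000)
 (.cons 1 (nat_lit 0x8000)
 (.cons 1 (nat_lit 0x50000)
 (.cons 1 (nat_lit 0x5080840000020000)
 (.cons 1 (nat_lit 0x1010a100420000050800)
 (.cons 1 (nat_lit 0x1405080840000108000)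
 (.cons 5 (nat_lit 0x18010000000201000)
 (.cons 10 (nat_lit 0x21a001400010000000)
 (.cons 20 (nat_lit 0xb450000000c0040)
 (.cons 40 (nat_lit 0x1380840000)
 .nil)))))))))))))
noncomputable def a60 : Net := (.cons 40 (nat_lit 0x210000000)
 (.cons 20 (nat_lit 0xc24000000068000)
 (.cons 10 (nat_lit 0x30a000000000800200)
 (.cons 5 (nat_lit 0x2018000140000405000)
 (.cons 1 (nat_lit 0x800000020)
 (.cons 1 (nat_lit 0x5000000140)
 (.cons 1 (nat_lit 0x4000002008001480)
 (.cons 1 (nat_lit 0x8120005010240940)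
 (.cons 1 (nat_lit 0x404000000908001420)
 (.cons 5 (nat_lit 0x10000000000404000)
 (.cons 10 (nat_lit 0x202000000000800200)
 (.cons 20 (nat_lit 0xc24000000068000)
 (.cons 40 (nat_lit 0x210000000)
 .nil)))))))))))))
noncomputable def a61 : Net := (.cons 40 (nat_lit 0x2200886a00)
 (.cons 20 (nat_lit 0x6181800000648b0)
 (.cons 10 (nat_lit 0x128001e00001200264)
 (.cons 5 (nat_lit 0x1008020000200000800)
 (.cons 1 (nat_lit 0x280000800000400)
 (.cons 1 (nat_lit 0x500005280002800)
 (.cons 1 (nat_lit 0x29004294842900001000)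
 (.cons 1 (nat_lit 0x10848509025280802800)
 (.cons 1 (nat_lit 0x29005294a40902100400)
 (.cons 5 (nat_lit 0x20000200000000)
 (.cons 10 (nat_lit 0x128001e00001200040)
 (.cons 20 (nat_lit 0x618180000064830)
 (.cons 40 (nat_lit 0x2200886a00)
 .nil)))))))))))))
noncomputable def a62 : Net := (.cons 40 (nat_lit 0x10070000)
 (.cons 20 (nat_lit 0x50000000c0000)
 (.cons 10 (nat_lit 0x2001400003800000)
 (.cons 5 (nat_lit 0x8030060001002002)
 (.cons 1 (nat_lit 0x40008000)
 (.cons 1 (nat_lit 0x280050000)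
 (.cons 1 (nat_lit 0x5080800100428085)
 (.cons 1 (nat_lit 0x2100400280852042)
 (.cons 1 (nat_lit 0x405080810140408085)
 (.cons 5 (nat_lit 0x8010020001002002)
 (.cons 10 (nat_lit 0x2001400001800000)
 (.cons 20 (nat_lit 0x50000000c0000)
 (.cons 40 (nat_lit 0x10070000)
 .nil)))))))))))))
noncomputable def a63 : Net := (.cons 40 (nat_lit 0xc77fbe8350)
 (.cons 20 (nat_lit 0xd45370000034848)
 (.cons 10 (nat_lit 0x38200257000f0002ae)
 (.cons 5 (nat_lit 0x101307413008040280e)
 (.cons 1 (nat_lit 0x10000000408000)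
 (.cons 1 (nat_lit 0x50000028400000a10900)
 (.cons 1 (nat_lit 0x21404214800000521485)
 (.cons 1 (nat_lit 0x52908409080000a4094a)
 (.cons 1 (nat_lit 0x21005080a40002421425)
 (.cons 5 (nat_lit 0x301a0100a000000300e)
 (.cons 10 (nat_lit 0x282000e0000f000080)
 (.cons 20 (nat_lit 0x170480000034848)
 (.cons 40 (nat_lit 0xc77fbe8350)
 .nil)))))))))))))
noncomputable def a64 : Net := (.cons 40 (nat_lit 0xab59a967ac)
 (.cons 20 (nat_lit 0xda2960000064b2c)
 (.cons 10 (nat_lit 0x3a0002e40008800274)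
 (.cons 5 (nat_lit 0x1d008130001007808)
 (.cons 1 (nat_lit 0x2000000)
 (.cons 1 (nat_lit 0x148009480214000000)
 (.cons 1 (nat_lit 0x4a501085010a409480)
 (.cons 1 (nat_lit 0x84a0294a0094850908)
 (.cons 1 (nat_lit 0x94810840121025094a0)
 (.cons 5 (nat_lit 0x3018000160000407008)
 (.cons 10 (nat_lit 0x60002e4001ca00168)
 (.cons 20 (nat_lit 0x782000000060858)
 (.cons 40 (nat_lit 0xab5336ebd8)
 .nil)))))))))))))
noncomputable def a65 : Net := (.cons 40 (nat_lit 0xa1fd9fdcd4)
 (.cons 20 (nat_lit 0x8418500000ddcce)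
 (.cons 10 (nat_lit 0x2950023a002120021a)
 (.cons 5 (nat_lit 0x18068060201c03809)
 (.cons 1 (nat_lit 0x800000008000)
 (.cons 1 (nat_lit 0x101420014812000)
 (.cons 1 (nat_lit 0x21081280a5280a521004)
 (.cons 1 (nat_lit 0x4214a529421004a50808)
 (.cons 1 (nat_lit 0x2148120400294a108004)
 (.cons 5 (nat_lit 0x14070020000805000)
 (.cons 10 (nat_lit 0x28200296002380020a)
 (.cons 20 (nat_lit 0x854cc00000c1cc0)
 (.cons 40 (nat_lit 0xa1fdf6d8ce)
 .nil)))))))))))))
noncomputable def a66 : Net := (.cons 40 (nat_lit 0x638c8d3e89)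
 (.cons 20 (nat_lit 0x35b000000bbcaf)
 (.cons 10 (nat_lit 0x1c3003080007500011)
 (.cons 5 (nat_lit 0x38080680201c0000008)
 (.cons 1 (nat_lit 0x1000000000028400)
 (.cons 1 (nat_lit 0xa000025000a5294a)
 (.cons 1 (nat_lit 0x1025000052940429085)
 (.cons 1 (nat_lit 0x1084a508425294a5294a)
 (.cons 1 (nat_lit 0x20421280840040028405)
 (.cons 5 (nat_lit 0x600c0081400008)
 (.cons 10 (nat_lit 0x1c200106000e400030)
 (.cons 20 (nat_lit 0x435b800000b79a4)
 (.cons 40 (nat_lit 0x638c9e7a98)
 .nil)))))))))))))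
noncomputable def a67 : Net := (.cons 40 (nat_lit 0x511486d9a4)
 (.cons 20 (nat_lit 0xe6edb00000ae63c)
 (.cons 10 (nat_lit 0x30a00024002b30012b)
 (.cons 5 (nat_lit 0x28080100d020000780a)
 (.cons 1 (nat_lit 0x800000000)
 (.cons 1 (nat_lit 0x405000000008)
 (.cons 1 (nat_lit 0x404080a42008009085)
 (.cons 1 (nat_lit 0x1284a100425010812902)
 (.cons 1 (nat_lit 0x20405000852848109085)
 (.cons 5 (nat_lit 0x10010060200007004)
 (.cons 10 (nat_lit 0x10000140002a000132)
 (.cons 20 (nat_lit 0xa6fda0000002e20)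
 (.cons 40 (nat_lit 0x511486d8a6)
 .nil)))))))))))))
noncomputable def a68 : Net := (.cons 40 (nat_lit 0x404040000)
 (.cons 20 (nat_lit 0x5400000020020)
 (.cons 10 (nat_lit 0x42001000002800000)
 (.cons 5 (nat_lit 0x4008018080000401014)
 (.cons 1 (nat_lit 0x800008000)
 (.cons 1 (nat_lit 0x50000000005000050000)
 (.cons 1 (nat_lit 0x20005080042000021484)
 (.cons 1 (nat_lit 0x50002108025000250908)
 (.cons 1 (nat_lit 0x405080240900009484)
 (.cons 5 (nat_lit 0x4008018080000400000)
 (.cons 10 (nat_lit 0x42001000000800020)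
 (.cons 20 (nat_lit 0x54000000a8000)
 (.cons 40 (nat_lit 0x404040000)
 .nil)))))))))))))
noncomputable def a69 : Net := (.cons 40 (nat_lit 0x10000)
 (.cons 20 (nat_lit 0xc010000000e0840)
 (.cons 10 (nat_lit 0x208000400001800000)
 (.cons 5 (nat_lit 0x2018010020301203014)
 (.cons 1 (nat_lit 0x40008000)
 (.cons 1 (nat_lit 0x280050000)
 (.cons 1 (nat_lit 0x5080000140420084)
 (.cons 1 (nat_lit 0xa100000284852108)
 (.cons 1 (nat_lit 0x5080012040508084)
 (.cons 5 (nat_lit 0x18010020301202000)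
 (.cons 10 (nat_lit 0x208000400001800000)
 (.cons 20 (nat_lit 0xc010000000e0840)
 (.cons 40 (nat_lit 0x10000)
 .nil)))))))))))))
noncomputable def a70 : Net := (.cons 40 (nat_lit 0x1684010000)
 (.cons 20 (nat_lit 0x29480000048000)
 (.cons 10 (nat_lit 0x40000640001800200)
 (.cons 5 (nat_lit 0x4008000160001004000)
 (.cons 1 (nat_lit 0x840000020)
 (.cons 1 (nat_lit 0x50000000005280000140)
 (.cons 1 (nat_lit 0x20085000202100401480)
 (.cons 1 (nat_lit 0x50042020405280840940)
 (.cons 1 (nat_lit 0x85080210940401420)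
 (.cons 5 (nat_lit 0x4008000060001004000)
 (.cons 10 (nat_lit 0x40000640001800200)
 (.cons 20 (nat_lit 0x21480000048000)
 (.cons 40 (nat_lit 0x1684010000)
 .nil)))))))))))))
noncomputable def a71 : Net := (.cons 40 (nat_lit 0x210030800)
 (.cons 20 (nat_lit 0x45000000000040)
 (.cons 10 (nat_lit 0x2001400001000020)
 (.cons 5 (nat_lit 0x8030160000200014)
 (.cons 1 (nat_lit 0x40008000)
 (.cons 1 (nat_lit 0x280050000)
 (.cons 1 (nat_lit 0x5080000100029484)
 (.cons 1 (nat_lit 0x2002108000280050908)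
 (.cons 1 (nat_lit 0x405080010040109484)
 (.cons 5 (nat_lit 0x8010020000200000)
 (.cons 10 (nat_lit 0x2001400001000020)
 (.cons 20 (nat_lit 0x45000000000040)
 (.cons 40 (nat_lit 0x210030800)
 .nil)))))))))))))
noncomputable def a72 : Net := (.cons 40 (nat_lit 0x1090040000)
 (.cons 20 (nat_lit 0x109000000041040)
 (.cons 10 (nat_lit 0x1400002000200)
 (.cons 5 (nat_lit 0x80300e0101205000)
 (.cons 1 (nat_lit 0x20)
 (.cons 1 (nat_lit 0x940)
 (.cons 1 (nat_lit 0x5080840000401480)
 (.cons 1 (nat_lit 0x2100420004840940)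
 (.cons 1 (nat_lit 0x5080840000501420)
 (.cons 5 (nat_lit 0x8010000001205000)
 (.cons 10 (nat_lit 0x1400000000200)
 (.cons 20 (nat_lit 0x101000000041040)
 (.cons 40 (nat_lit 0x1090040000)
 .nil)))))))))))))
noncomputable def a73 : Net := (.cons 40 (nat_lit 0x614050000)
 (.cons 20 (nat_lit 0x204000000a0840)
 (.cons 10 (nat_lit 0x140001600003800000)
 (.cons 5 (nat_lit 0x6000000160300201000)
 (.cons 1 (nat_lit 0x40008000)
 (.cons 1 (nat_lit 0x50000000000280050000)
 (.cons 1 (nat_lit 0x20000000800140020000)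
 (.cons 1 (nat_lit 0x50000020400284050000)
 (.cons 1 (nat_lit 0x80812040108000)
 (.cons 5 (nat_lit 0x4000000020300200000)
 (.cons 10 (nat_lit 0x140001600001800000)
 (.cons 20 (nat_lit 0x204000000a0840)
 (.cons 40 (nat_lit 0x614050000)
 .nil)))))))))))))
noncomputable def a74 : Net := (.cons 40 (nat_lit 0x1380840000)
 (.cons 20 (nat_lit 0xb4d0000000c0040)
 (.cons 10 (nat_lit 0x21a001400012000000)
 (.cons 5 (nat_lit 0x180101a0000a01000)
 (.cons 1 (nat_lit 0x8000)
 (.cons 1 (nat_lit 0x50000)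
 (.cons 1 (nat_lit 0x5080840000020000)
 (.cons 1 (nat_lit 0x1010a100420000050800)
 (.cons 1 (nat_lit 0x1405080840000108000)
 (.cons 5 (nat_lit 0x18010000000201000)
 (.cons 10 (nat_lit 0x21a001400010000000)
 (.cons 20 (nat_lit 0xb450000000c0040)
 (.cons 40 (nat_lit 0x1380840000)
 .nil)))))))))))))
noncomputable def a75 : Net := (.cons 40 (nat_lit 0x1494030000)
 (.cons 20 (nat_lit 0x80d480000030000)
 (.cons 10 (nat_lit 0x242001ec0001000000)
 (.cons 5 (nat_lit 0x40180300e0000401000)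
 (.cons 1 (nat_lit 0x40000000)
 (.cons 1 (nat_lit 0x50000000000280000000)
 (.cons 1 (nat_lit 0x20085000200100000000)
 (.cons 1 (nat_lit 0x5004a000401280200000)
 (.cons 1 (nat_lit 0x485080210040000000)
 (.cons 5 (nat_lit 0x4018000060000400000)
 (.cons 10 (nat_lit 0x242000e40001000000)
 (.cons 20 (nat_lit 0x805480000030000)
 (.cons 40 (nat_lit 0x1494030000)
 .nil)))))))))))))
noncomputable def a76 : Net := (.cons 40 (nat_lit 0x97235d2d89)
 (.cons 20 (nat_lit 0x1d22f000005f828)
 (.cons 10 (nat_lit 0x2000003c000fb00053)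
 (.cons 5 (nat_lit 0x30100281203c1c04008)
 (.cons 1 (nat_lit 0x20004000002000000)
 (.cons 1 (nat_lit 0x10140009400014052802)
 (.cons 1 (nat_lit 0x2808101484214a029005)
 (.cons 1 (nat_lit 0x5014a029481094012902)
 (.cons 1 (nat_lit 0x2802028081090a500400)
 (.cons 5 (nat_lit 0x7010048000281a00808)
 (.cons 10 (nat_lit 0x8002680009400052)
 (.cons 20 (nat_lit 0x822c000001f8a4)
 (.cons 40 (nat_lit 0x9723f1efc4)
 .nil)))))))))))))
noncomputable def a77 : Net := (.cons 40 (nat_lit 0x210000000)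
 (.cons 20 (nat_lit 0xc24000000068000)
 (.cons 10 (nat_lit 0x30a000000000800200)
 (.cons 5 (nat_lit 0x2018000140000405000)
 (.cons 1 (nat_lit 0x800000020)
 (.cons 1 (nat_lit 0x5000000140)
 (.cons 1 (nat_lit 0x4000002008001480)
 (.cons 1 (nat_lit 0x8120005010240940)
 (.cons 1 (nat_lit 0x404000000908001420)
 (.cons 5 (nat_lit 0x10000000000404000)
 (.cons 10 (nat_lit 0x202000000000800200)
 (.cons 20 (nat_lit 0xc24000000068000)
 (.cons 40 (nat_lit 0x210000000)
 .nil)))))))))))))
noncomputable def a78 : Net := (.cons 40 (nat_lit 0x87bac93814)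
 (.cons 20 (nat_lit 0xd55cc00000cc044)
 (.cons 10 (nat_lit 0x22a0023a002bb00014)
 (.cons 5 (nat_lit 0x3406000090140103c00)
 (.cons 1 (nat_lit 0x10000000020)
 (.cons 1 (nat_lit 0x50840401020000000940)
 (.cons 1 (nat_lit 0x29085280a4214a0090a0)
 (.cons 1 (nat_lit 0x52902508481094012940)
 (.cons 1 (nat_lit 0x20485090052008001420)
 (.cons 5 (nat_lit 0x300c0101c0300002000)
 (.cons 10 (nat_lit 0x320002080038a00090)
 (.cons 20 (nat_lit 0x545a400000a4404)
 (.cons 40 (nat_lit 0x87bc633874)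
 .nil)))))))))))))
noncomputable def a79 : Net := (.cons 40 (nat_lit 0x9dca81a9f3)
 (.cons 20 (nat_lit 0xcbe0500000fab12)
 (.cons 10 (nat_lit 0x145002eb000da00150)
 (.cons 5 (nat_lit 0x60050081e0480d0280c)
 (.cons 1 (nat_lit 0x14042800000000)
 (.cons 1 (nat_lit 0x1000280a5280000008)
 (.cons 1 (nat_lit 0x10a4014052900100005)
 (.cons 1 (nat_lit 0x4094202842528420210a)
 (.cons 1 (nat_lit 0x90a4000240800100401)
 (.cons 5 (nat_lit 0x6806000180480600814)
 (.cons 10 (nat_lit 0x164002aa0017800040)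
 (.cons 20 (nat_lit 0x42b0000000b8a12)
 (.cons 40 (nat_lit 0x9dd851a0d0)
 .nil)))))))))))))
noncomputable def a80 : Net := (.cons 40 (nat_lit 0x2200886a00)
 (.cons 20 (nat_lit 0x6181800000648b0)
 (.cons 10 (nat_lit 0x128001e00001200264)
 (.cons 5 (nat_lit 0x1008020000200000800)
 (.cons 1 (nat_lit 0x280000800000400)
 (.cons 1 (nat_lit 0x500005280002800)
 (.cons 1 (nat_lit 0x29004294842900001000)
 (.cons 1 (nat_lit 0x10848509025280802800)
 (.cons 1 (nat_lit 0x29005294a40902100400)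
 (.cons 5 (nat_lit 0x20000200000000)
 (.cons 10 (nat_lit 0x128001e00001200040)
 (.cons 20 (nat_lit 0x618180000064830)
 (.cons 40 (nat_lit 0x2200886a00)
 .nil)))))))))))))
noncomputable def a81 : Net := (.cons 40 (nat_lit 0x888acca1c1)
 (.cons 20 (nat_lit 0x31b8600000852ae)
 (.cons 10 (nat_lit 0x3440020a0021400388)
 (.cons 5 (nat_lit 0x60100600b0201c01004)
 (.cons 1 (nat_lit 0x810000101404)
 (.cons 1 (nat_lit 0x28000014a0000a5280a)
 (.cons 1 (nat_lit 0x9005014a52140521405)
 (.cons 1 (nat_lit 0x1280a4094a5080a5284a)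
 (.cons 1 (nat_lit 0x9025014a02142121480)
 (.cons 5 (nat_lit 0x6010060180201401008)
 (.cons 10 (nat_lit 0x3440020a0020000388)
 (.cons 20 (nat_lit 0x31b0400000852ae)
 (.cons 40 (nat_lit 0x888a8c0180)
 .nil)))))))))))))
noncomputable def a82 : Net := (.cons 40 (nat_lit 0x8c82543f22)
 (.cons 20 (nat_lit 0xf29040000084b8c)
 (.cons 10 (nat_lit 0x39c00270002140039a)
 (.cons 5 (nat_lit 0x1018048020701a03002)
 (.cons 1 (nat_lit 0x5000200100000000)
 (.cons 1 (nat_lit 0xa501400280a50002)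
 (.cons 1 (nat_lit 0x1025210a12140529005)
 (.cons 1 (nat_lit 0x94a5214a1284a52002)
 (.cons 1 (nat_lit 0x29025014212100001485)
 (.cons 5 (nat_lit 0x1018048020601201002)
 (.cons 10 (nat_lit 0x39c00270002040039a)
 (.cons 20 (nat_lit 0xf29040000084a84)
 (.cons 40 (nat_lit 0x8c82543f02)
 .nil)))))))))))))
noncomputable def a83 : Net := (.cons 40 (nat_lit 0xa4a4cba524)
 (.cons 20 (nat_lit 0xf2a0200000a49e0)
 (.cons 10 (nat_lit 0x204001d0003a200248)
 (.cons 5 (nat_lit 0x58000481c0381906018)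
 (.cons 1 (nat_lit 0x10042000000)
 (.cons 1 (nat_lit 0x121405000a0284a00002)
 (.cons 1 (nat_lit 0x2108521004214a501485)
 (.cons 1 (nat_lit 0x409425210a1294202902)
 (.cons 1 (nat_lit 0x52140101401014a5)
 (.cons 5 (nat_lit 0x2000048180000606018)
 (.cons 10 (nat_lit 0x204001d0003a200240)
 (.cons 20 (nat_lit 0xf2a0000000a49e0)
 (.cons 40 (nat_lit 0xa4a4cb2504)
 .nil)))))))))))))
noncomputable def a84 : Net := (.cons 40 (nat_lit 0x3ea016a164)
 (.cons 20 (nat_lit 0x7220000000b4180)
 (.cons 10 (nat_lit 0x3800019b0032c00268)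
 (.cons 5 (nat_lit 0x600803014028120480e)
 (.cons 1 (nat_lit 0x4000040000020)
 (.cons 1 (nat_lit 0x28025294a0280a00140)
 (.cons 1 (nat_lit 0x10052908409405210a5)
 (.cons 1 (nat_lit 0x428025294a1294a1214a)
 (.cons 1 (nat_lit 0x8080010010840021425)
 (.cons 5 (nat_lit 0x600807000008120480e)
 (.cons 10 (nat_lit 0x380003c00032c00260)
 (.cons 20 (nat_lit 0x7220000000b4180)
 (.cons 40 (nat_lit 0x3ea016a144)
 .nil)))))))))))))
noncomputable def a85 : Net := (.cons 40 (nat_lit 0xcd09d4e4f4)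
 (.cons 20 (nat_lit 0x956b00000d2ee4)
 (.cons 10 (nat_lit 0x2aa0030a000bd0029e)
 (.cons 5 (nat_lit 0x50400000c0e00802)
 (.cons 1 (nat_lit 0x80012000000000)
 (.cons 1 (nat_lit 0x2100101025000040000)
 (.cons 1 (nat_lit 0x1480280842940028000)
 (.cons 1 (nat_lit 0x9405094a528025000a)
 (.cons 1 (nat_lit 0x21000010002840008400)
 (.cons 5 (nat_lit 0x3004030180780405800)
 (.cons 10 (nat_lit 0x29a00158001760025e)
 (.cons 20 (nat_lit 0x404ec00000c2410)
 (.cons 40 (nat_lit 0xcd11fe6e44)
 .nil)))))))))))))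
noncomputable def a86 : Net := (.cons 40 (nat_lit 0xc292088838)
 (.cons 20 (nat_lit 0x40e9500000195e6)
 (.cons 10 (nat_lit 0x10b000ae002f1002ce)
 (.cons 5 (nat_lit 0x6008038190100d05000)
 (.cons 1 (nat_lit 0x400000000800000000)
 (.cons 1 (nat_lit 0x2800001405200000140)
 (.cons 1 (nat_lit 0x1084010a0294a1014a0)
 (.cons 1 (nat_lit 0x290a028405284250940)
 (.cons 1 (nat_lit 0x81000a108481094a4)
 (.cons 5 (nat_lit 0x400c030100000c05012)
 (.cons 10 (nat_lit 0x1000005a0024000264)
 (.cons 20 (nat_lit 0x8073000000057f2)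
 (.cons 40 (nat_lit 0xc298088088)
 .nil)))))))))))))
noncomputable def a87 : Net := (.cons 40 (nat_lit 0xc4833be1b0)
 (.cons 20 (nat_lit 0x85f4c0000034318)
 (.cons 10 (nat_lit 0x31800268001970010c)
 (.cons 5 (nat_lit 0x101a0080d0540001808)
 (.cons 1 (nat_lit 0x20000200000008000)
 (.cons 1 (nat_lit 0x948001405014810100)
 (.cons 1 (nat_lit 0x210a400080284a5210a0)
 (.cons 1 (nat_lit 0x429420014a1094a40948)
 (.cons 1 (nat_lit 0x20404080002802129420)
 (.cons 5 (nat_lit 0x50080080c060000080c)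
 (.cons 10 (nat_lit 0x11a003600014600280)
 (.cons 20 (nat_lit 0x81750000003c50c)
 (.cons 40 (nat_lit 0xc4989fc7a0)
 .nil)))))))))))))
noncomputable def a88 : Net := (.cons 40 (nat_lit 0x4b5180b230)
 (.cons 20 (nat_lit 0x402040000016824)
 (.cons 10 (nat_lit 0x319003280000800124)
 (.cons 5 (nat_lit 0x48010000c01800)
 (.cons 1 (nat_lit 0x8000000000000000020)
 (.cons 1 (nat_lit 0x500000000a5014050140)
 (.cons 1 (nat_lit 0x2142500084200a028084)
 (.cons 1 (nat_lit 0x528424014a5014850148)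
 (.cons 1 (nat_lit 0x94250808000000004a4)
 (.cons 5 (nat_lit 0x48000000c01800)
 (.cons 10 (nat_lit 0x210003200000000124)
 (.cons 20 (nat_lit 0x402000000012800)
 (.cons 40 (nat_lit 0x4b5180b230)
 .nil)))))))))))))
noncomputable def a89 : Net := (.cons 40 (nat_lit 0xfd58d7d73c)
 (.cons 20 (nat_lit 0xc7e2600000c44ac)
 (.cons 10 (nat_lit 0x9e001f70002900318)
 (.cons 5 (nat_lit 0x5c0e010150080202000)
 (.cons 1 (nat_lit 0x400004000840008000)
 (.cons 1 (nat_lit 0x10940528005090050000)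
 (.cons 1 (nat_lit 0x21480290a02108429020)
 (.cons 1 (nat_lit 0x42940529405284a52040)
 (.cons 1 (nat_lit 0x9420000000040109020)
 (.cons 5 (nat_lit 0x4002040140281004004)
 (.cons 10 (nat_lit 0x3b6001a60032000310)
 (.cons 20 (nat_lit 0xc3a9400000c6520)
 (.cons 40 (nat_lit 0xfd433bf398)
 .nil)))))))))))))
noncomputable def a90 : Net := (.cons 40 (nat_lit 0x210000000)
 (.cons 20 (nat_lit 0xc24000000068000)
 (.cons 10 (nat_lit 0x30a000000000800200)
 (.cons 5 (nat_lit 0x2018000140000405000)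
 (.cons 1 (nat_lit 0x800000020)
 (.cons 1 (nat_lit 0x5000000140)
 (.cons 1 (nat_lit 0x4000002008001480)
 (.cons 1 (nat_lit 0x8120005010240940)
 (.cons 1 (nat_lit 0x404000000908001420)
 (.cons 5 (nat_lit 0x10000000000404000)
 (.cons 10 (nat_lit 0x202000000000800200)
 (.cons 20 (nat_lit 0xc24000000068000)
 (.cons 40 (nat_lit 0x210000000)
 .nil)))))))))))))
noncomputable def a91 : Net := (.cons 40 (nat_lit 0x1494030000)
 (.cons 20 (nat_lit 0x80d480000030000)
 (.cons 10 (nat_lit 0x242001ec0001000000)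
 (.cons 5 (nat_lit 0x40180300e0000401000)
 (.cons 1 (nat_lit 0x40000000)
 (.cons 1 (nat_lit 0x50000000000280000000)
 (.cons 1 (nat_lit 0x20085000200100000000)
 (.cons 1 (nat_lit 0x5004a000401280200000)
 (.cons 1 (nat_lit 0x485080210040000000)
 (.cons 5 (nat_lit 0x4018000060000400000)
 (.cons 10 (nat_lit 0x242000e40001000000)
 (.cons 20 (nat_lit 0x805480000030000)
 (.cons 40 (nat_lit 0x1494030000)
 .nil)))))))))))))
noncomputable def a92 : Net := (.cons 40 (nat_lit 0x12008cab65)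
 (.cons 20 (nat_lit 0x4b04b00000fcf95)
 (.cons 10 (nat_lit 0xe0012d003b100194)
 (.cons 5 (nat_lit 0x180200c1001c1e0181b)
 (.cons 1 (nat_lit 0x50800000000)
 (.cons 1 (nat_lit 0x280a5004000000)
 (.cons 1 (nat_lit 0x9000214852008101405)
 (.cons 1 (nat_lit 0x108025290a509020090a)
 (.cons 1 (nat_lit 0x900128485204a508404)
 (.cons 5 (nat_lit 0x300205800000180381c)
 (.cons 10 (nat_lit 0xe003bc00214000b0)
 (.cons 20 (nat_lit 0x4b04a0000074a66)
 (.cons 40 (nat_lit 0x12001d8800)
 .nil)))))))))))))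
noncomputable def a93 : Net := (.cons 40 (nat_lit 0xe43f3ffcd9)
 (.cons 20 (nat_lit 0xedb62000003e5e5)
 (.cons 10 (nat_lit 0x86000180016800013)
 (.cons 5 (nat_lit 0x5815078050140e02410)
 (.cons 1 (nat_lit 0x1000000000000000)
 (.cons 1 (nat_lit 0x1000202802028001200a)
 (.cons 1 (nat_lit 0x200a4010850108121405)
 (.cons 1 (nat_lit 0x50048429421284250842)
 (.cons 1 (nat_lit 0x280200148501020000a1)
 (.cons 5 (nat_lit 0x1802018100300e06810)
 (.cons 10 (nat_lit 0x92001100010400018)
 (.cons 20 (nat_lit 0x6dac8000003f1ea)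
 (.cons 40 (nat_lit 0xe43f9bdb72)
 .nil)))))))))))))
noncomputable def a94 : Net := (.cons 40 (nat_lit 0xbe7f6b9f02)
 (.cons 20 (nat_lit 0x6a37a0000079518)
 (.cons 10 (nat_lit 0x24f0033f000fd001b4)
 (.cons 5 (nat_lit 0x1000020040200c05018)
 (.cons 1 (nat_lit 0x80010040000005)
 (.cons 1 (nat_lit 0x214850802028000284a)
 (.cons 1 (nat_lit 0x210a5294050142509085)
 (.cons 1 (nat_lit 0x128425284a028421294a)
 (.cons 1 (nat_lit 0x25004040040409000)
 (.cons 5 (nat_lit 0x2804000080500a)
 (.cons 10 (nat_lit 0x1ae001ae000fc001b4)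
 (.cons 20 (nat_lit 0xc65400000039510)
 (.cons 40 (nat_lit 0xbe7f7b9b12)
 .nil)))))))))))))
noncomputable def a95 : Net := (.cons 40 (nat_lit 0x3c96000000)
 (.cons 20 (nat_lit 0x647a70000068a44)
 (.cons 10 (nat_lit 0x311000fa002b6002dd)
 (.cons 5 (nat_lit 0x1812048070300105014)
 (.cons 1 (nat_lit 0x8000080000002000000)
 (.cons 1 (nat_lit 0x5014250040029400004a)
 (.cons 1 (nat_lit 0x204a5210a101480210a4)
 (.cons 1 (nat_lit 0x509425284a029424204a)
 (.cons 1 (nat_lit 0x80050908100004010a0)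
 (.cons 5 (nat_lit 0x1016040080100400014)
 (.cons 10 (nat_lit 0x210000b2002b6002c4)
 (.cons 20 (nat_lit 0x547ae0000068840)
 (.cons 40 (nat_lit 0x3c96000000)
 .nil)))))))))))))
noncomputable def a96 : Net := (.cons 40 (nat_lit 0x404040000)
 (.cons 20 (nat_lit 0x5400000020020)
 (.cons 10 (nat_lit 0x42001000002800000)
 (.cons 5 (nat_lit 0x4008018080000401014)
 (.cons 1 (nat_lit 0x800008000)
 (.cons 1 (nat_lit 0x50000000005000050000)
 (.cons 1 (nat_lit 0x20005080042000021484)
 (.cons 1 (nat_lit 0x50002108025000250908)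
 (.cons 1 (nat_lit 0x405080240900009484)
 (.cons 5 (nat_lit 0x4008018080000400000)
 (.cons 10 (nat_lit 0x42001000000800020)
 (.cons 20 (nat_lit 0x54000000a8000)
 (.cons 40 (nat_lit 0x404040000)
 .nil)))))))))))))
noncomputable def a97 : Net := (.cons 40 (nat_lit 0x1684010000)
 (.cons 20 (nat_lit 0x29480000048000)
 (.cons 10 (nat_lit 0x40000640001800200)
 (.cons 5 (nat_lit 0x4008000160001004000)
 (.cons 1 (nat_lit 0x840000020)
 (.cons 1 (nat_lit 0x50000000005280000140)
 (.cons 1 (nat_lit 0x20085000202100401480)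
 (.cons 1 (nat_lit 0x50042020405280840940)
 (.cons 1 (nat_lit 0x85080210940401420)
 (.cons 5 (nat_lit 0x4008000060001004000)
 (.cons 10 (nat_lit 0x40000640001800200)
 (.cons 20 (nat_lit 0x21480000048000)
 (.cons 40 (nat_lit 0x1684010000)
 .nil)))))))))))))
noncomputable def a98 : Net := (.cons 40 (nat_lit 0x1684000000)
 (.cons 20 (nat_lit 0xd28400000001040)
 (.cons 10 (nat_lit 0x340000600000000020)
 (.cons 5 (nat_lit 0x4018000180100201014)
 (.cons 1 (nat_lit 0x8000)
 (.cons 1 (nat_lit 0x50000000000000050800)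
 (.cons 1 (nat_lit 0x20004000800000021484)
 (.cons 1 (nat_lit 0x50008020400004050908)
 (.cons 1 (nat_lit 0x4080800000109484)
 (.cons 5 (nat_lit 0x4010000080000201000)
 (.cons 10 (nat_lit 0x340000600000000020)
 (.cons 20 (nat_lit 0xd20400000001040)
 (.cons 40 (nat_lit 0x1684000000)
 .nil)))))))))))))
noncomputable def a99 : Net := (.cons 40 (nat_lit 0x1090040000)
 (.cons 20 (nat_lit 0x109000000041040)
 (.cons 10 (nat_lit 0x1400002000200)
 (.cons 5 (nat_lit 0x80300e0101205000)
 (.cons 1 (nat_lit 0x20)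
 (.cons 1 (nat_lit 0x940)
 (.cons 1 (nat_lit 0x5080840000401480)
 (.cons 1 (nat_lit 0x2100420004840940)
 (.cons 1 (nat_lit 0x5080840000501420)
 (.cons 5 (nat_lit 0x8010000001205000)
 (.cons 10 (nat_lit 0x1400000000200)
 (.cons 20 (nat_lit 0x101000000041040)
 (.cons 40 (nat_lit 0x1090040000)
 .nil)))))))))))))
noncomputable def a100 : Net := (.cons 40 (nat_lit 0x404870800)
 (.cons 20 (nat_lit 0x804400000040040)
 (.cons 10 (nat_lit 0x242001600013000200)
 (.cons 5 (nat_lit 0x4010010020001a04000)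
 (.cons 1 (nat_lit 0x40000020)
 (.cons 1 (nat_lit 0x50000000000280000140)
 (.cons 1 (nat_lit 0x20004000800100401480)
 (.cons 1 (nat_lit 0x50008008400280850940)
 (.cons 1 (nat_lit 0x404080810040501420)
 (.cons 5 (nat_lit 0x4010010020001204000)
 (.cons 10 (nat_lit 0x242001600011000200)
 (.cons 20 (nat_lit 0x804400000040040)
 (.cons 40 (nat_lit 0x404870800)
 .nil)))))))))))))
noncomputable def a101 : Net := (.cons 40 (nat_lit 0x210000000)
 (.cons 20 (nat_lit 0xc24000000068000)
 (.cons 10 (nat_lit 0x30a000000000800200)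
 (.cons 5 (nat_lit 0x2018000140000405000)
 (.cons 1 (nat_lit 0x800000020)
 (.cons 1 (nat_lit 0x5000000140)
 (.cons 1 (nat_lit 0x4000002008001480)
 (.cons 1 (nat_lit 0x8120005010240940)
 (.cons 1 (nat_lit 0x404000000908001420)
 (.cons 5 (nat_lit 0x10000000000404000)
 (.cons 10 (nat_lit 0x202000000000800200)
 (.cons 20 (nat_lit 0xc24000000068000)
 (.cons 40 (nat_lit 0x210000000)
 .nil)))))))))))))
noncomputable def a102 : Net := (.cons 40 (nat_lit 0x1684010000)
 (.cons 20 (nat_lit 0x29480000048000)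
 (.cons 10 (nat_lit 0x40000640001800200)
 (.cons 5 (nat_lit 0x4008000160001004000)
 (.cons 1 (nat_lit 0x840000020)
 (.cons 1 (nat_lit 0x50000000005280000140)
 (.cons 1 (nat_lit 0x20085000202100401480)
 (.cons 1 (nat_lit 0x50042020405280840940)
 (.cons 1 (nat_lit 0x85080210940401420)
 (.cons 5 (nat_lit 0x4008000060001004000)
 (.cons 10 (nat_lit 0x40000640001800200)
 (.cons 20 (nat_lit 0x21480000048000)
 (.cons 40 (nat_lit 0x1684010000)
 .nil)))))))))))))
noncomputable def a103 : Net := (.cons 40 (nat_lit 0x1380840000)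
 (.cons 20 (nat_lit 0xb4d0000000c0040)
 (.cons 10 (nat_lit 0x21a001400012000000)
 (.cons 5 (nat_lit 0x180101a0000a01000)
 (.cons 1 (nat_lit 0x8000)
 (.cons 1 (nat_lit 0x50000)
 (.cons 1 (nat_lit 0x5080840000020000)
 (.cons 1 (nat_lit 0x1010a100420000050800)
 (.cons 1 (nat_lit 0x1405080840000108000)
 (.cons 5 (nat_lit 0x18010000000201000)
 (.cons 10 (nat_lit 0x21a001400010000000)
 (.cons 20 (nat_lit 0xb450000000c0040)
 (.cons 40 (nat_lit 0x1380840000)
 .nil)))))))))))))
noncomputable def a104 : Net := (.cons 40 (nat_lit 0x1494030000)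
 (.cons 20 (nat_lit 0x80d480000030000)
 (.cons 10 (nat_lit 0x242001ec0001000000)
 (.cons 5 (nat_lit 0x40180300e0000401000)
 (.cons 1 (nat_lit 0x40000000)
 (.cons 1 (nat_lit 0x50000000000280000000)
 (.cons 1 (nat_lit 0x20085000200100000000)
 (.cons 1 (nat_lit 0x5004a000401280200000)
 (.cons 1 (nat_lit 0x485080210040000000)
 (.cons 5 (nat_lit 0x4018000060000400000)
 (.cons 10 (nat_lit 0x242000e40001000000)
 (.cons 20 (nat_lit 0x805480000030000)
 (.cons 40 (nat_lit 0x1494030000)
 .nil)))))))))))))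
noncomputable def a105 : Net := (.cons 40 (nat_lit 0xa50c633d96)
 (.cons 20 (nat_lit 0xe084400000700d6)
 (.cons 10 (nat_lit 0x126000cf0028e00001)
 (.cons 5 (nat_lit 0x500a0181b030020700a)
 (.cons 1 (nat_lit 0x80200000000000)
 (.cons 1 (nat_lit 0x800500420000000148)
 (.cons 1 (nat_lit 0x290012008521420080a4)
 (.cons 1 (nat_lit 0x5204250902408405004a)
 (.cons 1 (nat_lit 0x29001084212902108021)
 (.cons 5 (nat_lit 0x101a0000205014)
 (.cons 10 (nat_lit 0x1a40000e0038e00300)
 (.cons 20 (nat_lit 0xe084000000305d8)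
 (.cons 40 (nat_lit 0xa50c2b3d92)
 .nil)))))))))))))
noncomputable def a106 : Net := (.cons 40 (nat_lit 0x1e960c1100)
 (.cons 20 (nat_lit 0xd4ba60000068b44)
 (.cons 10 (nat_lit 0x2100016d003b6000d9)
 (.cons 5 (nat_lit 0x28110581b0401b05006)
 (.cons 1 (nat_lit 0x8000080000000000000)
 (.cons 1 (nat_lit 0x50142109000000a00002)
 (.cons 1 (nat_lit 0x200a5294812008421485)
 (.cons 1 (nat_lit 0x5004a508424004a42902)
 (.cons 1 (nat_lit 0x8081004a120401014a5)
 (.cons 5 (nat_lit 0xa040180401e00006)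
 (.cons 10 (nat_lit 0x21000150002b6000c0)
 (.cons 20 (nat_lit 0xd43a60000068940)
 (.cons 40 (nat_lit 0x1e960c1100)
 .nil)))))))))))))
noncomputable def a107 : Net := (.cons 40 (nat_lit 0x5f418b7664)
 (.cons 20 (nat_lit 0x29d5400000bde4e)
 (.cons 10 (nat_lit 0x15800114003ed00190)
 (.cons 5 (nat_lit 0x78000101d004050700c)
 (.cons 1 (nat_lit 0x8001000000040000020)
 (.cons 1 (nat_lit 0x10002500005090002940)
 (.cons 1 (nat_lit 0x2008428004210a0010a1)
 (.cons 1 (nat_lit 0x5084a5200a5294242942)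
 (.cons 1 (nat_lit 0x20081000842802101000)
 (.cons 5 (nat_lit 0x50080101c0600007004)
 (.cons 10 (nat_lit 0x112001140018e00110)
 (.cons 20 (nat_lit 0x2d95400000bdfcc)
 (.cons 40 (nat_lit 0x5f4189af20)
 .nil)))))))))))))
noncomputable def a108 : Net := (.cons 40 (nat_lit 0x12008cab65)
 (.cons 20 (nat_lit 0x4b04b00000fcf95)
 (.cons 10 (nat_lit 0xe0012d003b100194)
 (.cons 5 (nat_lit 0x180200c1001c1e0181b)
 (.cons 1 (nat_lit 0x50800000000)
 (.cons 1 (nat_lit 0x280a5004000000)
 (.cons 1 (nat_lit 0x9000214852008101405)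
 (.cons 1 (nat_lit 0x108025290a509020090a)
 (.cons 1 (nat_lit 0x900128485204a508404)
 (.cons 5 (nat_lit 0x300205800000180381c)
 (.cons 10 (nat_lit 0xe003bc00214000b0)
 (.cons 20 (nat_lit 0x4b04a0000074a66)
 (.cons 40 (nat_lit 0x12001d8800)
 .nil)))))))))))))
noncomputable def a109 : Net := (.cons 40 (nat_lit 0x1090040000)
 (.cons 20 (nat_lit 0x109000000041040)
 (.cons 10 (nat_lit 0x1400002000200)
 (.cons 5 (nat_lit 0x80300e0101205000)
 (.cons 1 (nat_lit 0x20)
 (.cons 1 (nat_lit 0x940)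
 (.cons 1 (nat_lit 0x5080840000401480)
 (.cons 1 (nat_lit 0x2100420004840940)
 (.cons 1 (nat_lit 0x5080840000501420)
 (.cons 5 (nat_lit 0x8010000001205000)
 (.cons 10 (nat_lit 0x1400000000200)
 (.cons 20 (nat_lit 0x101000000041040)
 (.cons 40 (nat_lit 0x1090040000)
 .nil)))))))))))))
noncomputable def a110 : Net := (.cons 40 (nat_lit 0x10000)
 (.cons 20 (nat_lit 0xc010000000e0840)
 (.cons 10 (nat_lit 0x208000400001800000)
 (.cons 5 (nat_lit 0x2018010020301203014)
 (.cons 1 (nat_lit 0x40008000)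
 (.cons 1 (nat_lit 0x280050000)
 (.cons 1 (nat_lit 0x5080000140420084)
 (.cons 1 (nat_lit 0xa100000284852108)
 (.cons 1 (nat_lit 0x5080012040508084)
 (.cons 5 (nat_lit 0x18010020301202000)
 (.cons 10 (nat_lit 0x208000400001800000)
 (.cons 20 (nat_lit 0xc010000000e0840)
 (.cons 40 (nat_lit 0x10000)
 .nil)))))))))))))
noncomputable def a111 : Net := (.cons 40 (nat_lit 0x1684010000)
 (.cons 20 (nat_lit 0x29480000048000)
 (.cons 10 (nat_lit 0x40000640001800200)
 (.cons 5 (nat_lit 0x4008000160001004000)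
 (.cons 1 (nat_lit 0x840000020)
 (.cons 1 (nat_lit 0x50000000005280000140)
 (.cons 1 (nat_lit 0x20085000202100401480)
 (.cons 1 (nat_lit 0x50042020405280840940)
 (.cons 1 (nat_lit 0x85080210940401420)
 (.cons 5 (nat_lit 0x4008000060001004000)
 (.cons 10 (nat_lit 0x40000640001800200)
 (.cons 20 (nat_lit 0x21480000048000)
 (.cons 40 (nat_lit 0x1684010000)
 .nil)))))))))))))
noncomputable def a112 : Net := (.cons 40 (nat_lit 0x10840000)
 (.cons 20 (nat_lit 0x824000000041040)
 (.cons 10 (nat_lit 0x302001000012000000)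
 (.cons 5 (nat_lit 0x20100000c0100a01016)
 (.cons 1 (nat_lit 0x4000040000000085)
 (.cons 1 (nat_lit 0x810002000400094a)
 (.cons 1 (nat_lit 0x404000040000100085)
 (.cons 5 (nat_lit 0x10000080000201002)
 (.cons 10 (nat_lit 0x302001000010000000)
 (.cons 20 (nat_lit 0x824000000041040)
 (.cons 40 (nat_lit 0x10840000)
 .nil)))))))))))
noncomputable def a113 : Net := (.cons 40 (nat_lit 0xeed06a3f22)
 (.cons 20 (nat_lit 0x92c920000067da2)
 (.cons 10 (nat_lit 0x1c000860030700004)
 (.cons 5 (nat_lit 0x18020010580201006)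
 (.cons 1 (nat_lit 0x8400084000040000000)
 (.cons 1 (nat_lit 0x50840109024280050008)
 (.cons 1 (nat_lit 0x294a5210a42100528084)
 (.cons 1 (nat_lit 0x52942429481280a5004a)
 (.cons 1 (nat_lit 0x948528025200a400080)
 (.cons 5 (nat_lit 0x2010000160600401000)
 (.cons 10 (nat_lit 0xac0023a0030c00220)
 (.cons 20 (nat_lit 0x384ea0000066df4)
 (.cons 40 (nat_lit 0xeec40b6916)
 .nil)))))))))))))
noncomputable def a114 : Net := (.cons 40 (nat_lit 0x841b37cc84)
 (.cons 20 (nat_lit 0xe6e2b000008b05e)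
 (.cons 10 (nat_lit 0x10000900029100280)
 (.cons 5 (nat_lit 0x30080181103c1300010)
 (.cons 1 (nat_lit 0x1080000100001400)
 (.cons 1 (nat_lit 0x2521405280a52800)
 (.cons 1 (nat_lit 0x4210812942429480)
 (.cons 1 (nat_lit 0x90a529425084a52902)
 (.cons 1 (nat_lit 0x14a10800120421000a4)
 (.cons 5 (nat_lit 0x1010008100281200010)
 (.cons 10 (nat_lit 0x19000094002340020e)
 (.cons 20 (nat_lit 0xe6f1800000a308e)
 (.cons 40 (nat_lit 0x841d24fe34)
 .nil)))))))))))))
noncomputable def a115 : Net := (.cons 40 (nat_lit 0x614840000)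
 (.cons 20 (nat_lit 0x841200000040000)
 (.cons 10 (nat_lit 0x200001400012000000)
 (.cons 5 (nat_lit 0x180701c0001804014)
 (.cons 1 (nat_lit 0x500000000000000)
 (.cons 1 (nat_lit 0x5280040000400084)
 (.cons 1 (nat_lit 0x200a500020000840108)
 (.cons 1 (nat_lit 0x25000040000400084)
 (.cons 5 (nat_lit 0x18050080001004000)
 (.cons 10 (nat_lit 0x200001400010000000)
 (.cons 20 (nat_lit 0x841200000040000)
 (.cons 40 (nat_lit 0x614840000)
 .nil))))))))))))
noncomputable def a116 : Net := (.cons 40 (nat_lit 0x33554e890)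
 (.cons 20 (nat_lit 0x41218000005e9b0)
 (.cons 10 (nat_lit 0x218003380011a00004)
 (.cons 5 (nat_lit 0x400a020170480e03808)
 (.cons 1 (nat_lit 0x80000900100020)
 (.cons 1 (nat_lit 0x501025280a50140)
 (.cons 1 (nat_lit 0x1020210842140428080)
 (.cons 1 (nat_lit 0x42042521485280a52148)
 (.cons 1 (nat_lit 0x1020090040902100420)
 (.cons 5 (nat_lit 0x4002000000480203808)
 (.cons 10 (nat_lit 0x210003300011a00004)
 (.cons 20 (nat_lit 0x43310000005e9b0)
 (.cons 40 (nat_lit 0x33554e890)
 .nil)))))))))))))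
noncomputable def a117 : Net := (.cons 40 (nat_lit 0x1494030000)
 (.cons 20 (nat_lit 0x80d480000030000)
 (.cons 10 (nat_lit 0x242001ec0001000000)
 (.cons 5 (nat_lit 0x40180300e0000401000)
 (.cons 1 (nat_lit 0x40000000)
 (.cons 1 (nat_lit 0x50000000000280000000)
 (.cons 1 (nat_lit 0x20085000200100000000)
 (.cons 1 (nat_lit 0x5004a000401280200000)
 (.cons 1 (nat_lit 0x485080210040000000)
 (.cons 5 (nat_lit 0x4018000060000400000)
 (.cons 10 (nat_lit 0x242000e40001000000)
 (.cons 20 (nat_lit 0x805480000030000)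
 (.cons 40 (nat_lit 0x1494030000)
 .nil)))))))))))))
noncomputable def a118 : Net := (.cons 40 (nat_lit 0x1494030000)
 (.cons 20 (nat_lit 0x80d480000030000)
 (.cons 10 (nat_lit 0x242001ec0001000000)
 (.cons 5 (nat_lit 0x40180300e0000401000)
 (.cons 1 (nat_lit 0x40000000)
 (.cons 1 (nat_lit 0x50000000000280000000)
 (.cons 1 (nat_lit 0x20085000200100000000)
 (.cons 1 (nat_lit 0x5004a000401280200000)
 (.cons 1 (nat_lit 0x485080210040000000)
 (.cons 5 (nat_lit 0x4018000060000400000)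
 (.cons 10 (nat_lit 0x242000e40001000000)
 (.cons 20 (nat_lit 0x805480000030000)
 (.cons 40 (nat_lit 0x1494030000)
 .nil)))))))))))))
noncomputable def a119 : Net := (.cons 40 (nat_lit 0x210000000)
 (.cons 20 (nat_lit 0xc24000000068000)
 (.cons 10 (nat_lit 0x30a000000000800200)
 (.cons 5 (nat_lit 0x2018000140000405000)
 (.cons 1 (nat_lit 0x800000020)
 (.cons 1 (nat_lit 0x5000000140)
 (.cons 1 (nat_lit 0x4000002008001480)
 (.cons 1 (nat_lit 0x8120005010240940)
 (.cons 1 (nat_lit 0x404000000908001420)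
 (.cons 5 (nat_lit 0x10000000000404000)
 (.cons 10 (nat_lit 0x202000000000800200)
 (.cons 20 (nat_lit 0xc24000000068000)
 (.cons 40 (nat_lit 0x210000000)
 .nil)))))))))))))
noncomputable def a120 : Net := (.cons 40 (nat_lit 0x9562b845bc)
 (.cons 20 (nat_lit 0x84f3900000d3298)
 (.cons 10 (nat_lit 0x2ff00156000f400068)
 (.cons 5 (nat_lit 0x54060540b008150641c)
 (.cons 1 (nat_lit 0x8401000200000008000)
 (.cons 1 (nat_lit 0x5080a101485000810000)
 (.cons 1 (nat_lit 0x2948429084280a420024)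
 (.cons 1 (nat_lit 0x5284a121421004a50142)
 (.cons 1 (nat_lit 0x1401094202008520421)
 (.cons 5 (nat_lit 0x8040700a0401e0601c)
 (.cons 10 (nat_lit 0xfc002fa00370001e0)
 (.cons 20 (nat_lit 0x15e340000099a0a)
 (.cons 40 (nat_lit 0x95706e1946)
 .nil)))))))))))))
noncomputable def a121 : Net := (.cons 40 (nat_lit 0x3324337eaa)
 (.cons 20 (nat_lit 0x53a4100000cbdcb)
 (.cons 10 (nat_lit 0xa002b4002de003e5)
 (.cons 5 (nat_lit 0x100741a0541807c13)
 (.cons 1 (nat_lit 0xa00000400000)
 (.cons 1 (nat_lit 0x420214a5000a42800)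
 (.cons 1 (nat_lit 0xa4014a5290a529405)
 (.cons 1 (nat_lit 0x1004a429425084a50802)
 (.cons 1 (nat_lit 0x210a108480280a009484)
 (.cons 5 (nat_lit 0x1403014058080700a)
 (.cons 10 (nat_lit 0x800070003fe000e4)
 (.cons 20 (nat_lit 0x41a0a000008b994)
 (.cons 40 (nat_lit 0x33283e72c4)
 .nil)))))))))))))
noncomputable def a122 : Net := (.cons 40 (nat_lit 0x6f7b5f53f2)
 (.cons 20 (nat_lit 0x419e500000f9842)
 (.cons 10 (nat_lit 0x2f7003ae0006400160)
 (.cons 5 (nat_lit 0x58150640c0000302c0e)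
 (.cons 1 (nat_lit 0x1400000000000000000)
 (.cons 1 (nat_lit 0x290040000100001204a)
 (.cons 1 (nat_lit 0x14a4210252000021085)
 (.cons 1 (nat_lit 0x29421284a508005090a)
 (.cons 1 (nat_lit 0x29425210252000409000)
 (.cons 5 (nat_lit 0x201401014000000400a)
 (.cons 10 (nat_lit 0x248002b60006400160)
 (.cons 20 (nat_lit 0x658f800000f9842)
 (.cons 40 (nat_lit 0x6f7b5151be)
 .nil)))))))))))))
noncomputable def a123 : Net := (.cons 40 (nat_lit 0x2554890d26)
 (.cons 20 (nat_lit 0x7f38a000001671e)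
 (.cons 10 (nat_lit 0x17800339003ef002ba)
 (.cons 5 (nat_lit 0x380c038000500106803)
 (.cons 1 (nat_lit 0x800000000)
 (.cons 1 (nat_lit 0x2001405004000100)
 (.cons 1 (nat_lit 0xa5280842008528080)
 (.cons 1 (nat_lit 0x942101485294252942)
 (.cons 1 (nat_lit 0x214a0010052802528004)
 (.cons 5 (nat_lit 0x2812008020401806800)
 (.cons 10 (nat_lit 0x300033a001e400238)
 (.cons 20 (nat_lit 0x5a2840000014f88)
 (.cons 40 (nat_lit 0x2554820bf2)
 .nil)))))))))))))
noncomputable def a124 : Net := (.cons 40 (nat_lit 0x348c23f246)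
 (.cons 20 (nat_lit 0xa0a2900000a6bfc)
 (.cons 10 (nat_lit 0x2400008b003c100245)
 (.cons 5 (nat_lit 0x180781c04c0e04411)
 (.cons 1 (nat_lit 0x800008020000a0)
 (.cons 1 (nat_lit 0x2802500005204800140)
 (.cons 1 (nat_lit 0x210a420005294a5000a4)
 (.cons 1 (nat_lit 0x42848509425294202148)
 (.cons 1 (nat_lit 0x200842940109421010a0)
 (.cons 5 (nat_lit 0x1c0681a0501a04008)
 (.cons 10 (nat_lit 0x2000010a0027c00168)
 (.cons 20 (nat_lit 0xa02280000065cfc)
 (.cons 40 (nat_lit 0x348c23fa80)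
 .nil)))))))))))))
noncomputable def a125 : Net := (.cons 40 (nat_lit 0xd83a6fc049)
 (.cons 20 (nat_lit 0x883c00000007cba)
 (.cons 10 (nat_lit 0x1c2001b1000f30034a)
 (.cons 5 (nat_lit 0x80904c1406c140381c)
 (.cons 1 (nat_lit 0x4010000000000)
 (.cons 1 (nat_lit 0x10000028025000000800)
 (.cons 1 (nat_lit 0x20000014a52808509000)
 (.cons 1 (nat_lit 0x501005294a5090212948)
 (.cons 1 (nat_lit 0x28004094a12048121400)
 (.cons 5 (nat_lit 0x808000100701404004)
 (.cons 10 (nat_lit 0x820023e000fa0020e)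
 (.cons 20 (nat_lit 0x8024400000074a8)
 (.cons 40 (nat_lit 0xd83a4b4078)
 .nil)))))))))))))
noncomputable def a126 : Net := (.cons 40 (nat_lit 0xc813bf9608)
 (.cons 20 (nat_lit 0xb9b800000027e0a)
 (.cons 10 (nat_lit 0x3060033a002de00009)
 (.cons 5 (nat_lit 0x10180481c0100c06808)
 (.cons 1 (nat_lit 0x280010000108000)
 (.cons 1 (nat_lit 0xa5014a5080a10100)
 (.cons 1 (nat_lit 0x20025294a42148520085)
 (.cons 1 (nat_lit 0x4094a5094a5084a4284a)
 (.cons 1 (nat_lit 0x28020294010148101420)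
 (.cons 5 (nat_lit 0x1018048140100c0201a)
 (.cons 10 (nat_lit 0x2060033a00258003f6)
 (.cons 20 (nat_lit 0xb9b800000027e0a)
 (.cons 40 (nat_lit 0xc813bf9200)
 .nil)))))))))))))
noncomputable def a127 : Net := (.cons 40 (nat_lit 0xc11838c108)
 (.cons 20 (nat_lit 0x3f65800000d2e1b)
 (.cons 10 (nat_lit 0x39f000ac00144002e6)
 (.cons 5 (nat_lit 0x44020580003c1905c1f)
 (.cons 1 (nat_lit 0x800100000)
 (.cons 1 (nat_lit 0x2808000001210212940)
 (.cons 1 (nat_lit 0x21485200002108421480)
 (.cons 1 (nat_lit 0x52902120004284a42942)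
 (.cons 1 (nat_lit 0x290000800100080214a0)
 (.cons 5 (nat_lit 0x1206800038020101a)
 (.cons 10 (nat_lit 0x2d2000a80016600208)
 (.cons 20 (nat_lit 0x3f65800000fe268)
 (.cons 40 (nat_lit 0xc118f8cca8)
 .nil)))))))))))))
noncomputable def a128 : Net := (.cons 40 (nat_lit 0x1280070000)
 (.cons 20 (nat_lit 0x4c080000070000)
 (.cons 10 (nat_lit 0x42001400003000000)
 (.cons 5 (nat_lit 0x8000120000405014)
 (.cons 1 (nat_lit 0x40000000)
 (.cons 1 (nat_lit 0x280000000)
 (.cons 1 (nat_lit 0x80000800108000084)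
 (.cons 1 (nat_lit 0x2040000401290240108)
 (.cons 1 (nat_lit 0x480000810048000084)
 (.cons 5 (nat_lit 0x8000020000404000)
 (.cons 10 (nat_lit 0x42001400001000000)
 (.cons 20 (nat_lit 0x44080000070000)
 (.cons 40 (nat_lit 0x1280070000)
 .nil)))))))))))))
noncomputable def a129 : Net := (.cons 40 (nat_lit 0x1494000000)
 (.cons 20 (nat_lit 0x32c4000000c0040)
 (.cons 10 (nat_lit 0x1c2000600000800000)
 (.cons 5 (nat_lit 0x60000000c0001203014)
 (.cons 1 (nat_lit 0x8000)
 (.cons 1 (nat_lit 0x50000000000000050000)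
 (.cons 1 (nat_lit 0x20000000800000420084)
 (.cons 1 (nat_lit 0x50040000400000852908)
 (.cons 1 (nat_lit 0x400080800100508084)
 (.cons 5 (nat_lit 0x4000000080001203000)
 (.cons 10 (nat_lit 0x1c2000600000800000)
 (.cons 20 (nat_lit 0x3244000000c0040)
 (.cons 40 (nat_lit 0x1494000000)
 .nil)))))))))))))
noncomputable def a130 : Net := (.cons 40 (nat_lit 0x1090040000)
 (.cons 20 (nat_lit 0x109000000041040)
 (.cons 10 (nat_lit 0x1400002000200)
 (.cons 5 (nat_lit 0x80300e0101205000)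
 (.cons 1 (nat_lit 0x20)
 (.cons 1 (nat_lit 0x940)
 (.cons 1 (nat_lit 0x5080840000401480)
 (.cons 1 (nat_lit 0x2100420004840940)
 (.cons 1 (nat_lit 0x5080840000501420)
 (.cons 5 (nat_lit 0x8010000001205000)
 (.cons 10 (nat_lit 0x1400000000200)
 (.cons 20 (nat_lit 0x101000000041040)
 (.cons 40 (nat_lit 0x1090040000)
 .nil)))))))))))))
noncomputable def a131 : Net := (.cons 40 (nat_lit 0x210000000)
 (.cons 20 (nat_lit 0xc24000000068000)
 (.cons 10 (nat_lit 0x30a000000000800200)
 (.cons 5 (nat_lit 0x2018000140000405000)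
 (.cons 1 (nat_lit 0x800000020)
 (.cons 1 (nat_lit 0x5000000140)
 (.cons 1 (nat_lit 0x4000002008001480)
 (.cons 1 (nat_lit 0x8120005010240940)
 (.cons 1 (nat_lit 0x404000000908001420)
 (.cons 5 (nat_lit 0x10000000000404000)
 (.cons 10 (nat_lit 0x202000000000800200)
 (.cons 20 (nat_lit 0xc24000000068000)
 (.cons 40 (nat_lit 0x210000000)
 .nil)))))))))))))
noncomputable def a132 : Net := (.cons 40 (nat_lit 0x210000000)
 (.cons 20 (nat_lit 0xc24000000068000)
 (.cons 10 (nat_lit 0x30a000000000800200)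
 (.cons 5 (nat_lit 0x2018000140000405000)
 (.cons 1 (nat_lit 0x800000020)
 (.cons 1 (nat_lit 0x5000000140)
 (.cons 1 (nat_lit 0x4000002008001480)
 (.cons 1 (nat_lit 0x8120005010240940)
 (.cons 1 (nat_lit 0x404000000908001420)
 (.cons 5 (nat_lit 0x10000000000404000)
 (.cons 10 (nat_lit 0x202000000000800200)
 (.cons 20 (nat_lit 0xc24000000068000)
 (.cons 40 (nat_lit 0x210000000)
 .nil)))))))))))))
noncomputable def a133 : Net := (.cons 40 (nat_lit 0x614050000)
 (.cons 20 (nat_lit 0x204000000a0840)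
 (.cons 10 (nat_lit 0x140001600003800000)
 (.cons 5 (nat_lit 0x6000000160300201000)
 (.cons 1 (nat_lit 0x40008000)
 (.cons 1 (nat_lit 0x50000000000280050000)
 (.cons 1 (nat_lit 0x20000000800140020000)
 (.cons 1 (nat_lit 0x50000020400284050000)
 (.cons 1 (nat_lit 0x80812040108000)
 (.cons 5 (nat_lit 0x4000000020300200000)
 (.cons 10 (nat_lit 0x140001600001800000)
 (.cons 20 (nat_lit 0x204000000a0840)
 (.cons 40 (nat_lit 0x614050000)
 .nil)))))))))))))
noncomputable def a134 : Net := (.cons 40 (nat_lit 0x1684010000)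
 (.cons 20 (nat_lit 0x29480000048000)
 (.cons 10 (nat_lit 0x40000640001800200)
 (.cons 5 (nat_lit 0x4008000160001004000)
 (.cons 1 (nat_lit 0x840000020)
 (.cons 1 (nat_lit 0x50000000005280000140)
 (.cons 1 (nat_lit 0x20085000202100401480)
 (.cons 1 (nat_lit 0x50042020405280840940)
 (.cons 1 (nat_lit 0x85080210940401420)
 (.cons 5 (nat_lit 0x4008000060001004000)
 (.cons 10 (nat_lit 0x40000640001800200)
 (.cons 20 (nat_lit 0x21480000048000)
 (.cons 40 (nat_lit 0x1684010000)
 .nil)))))))))))))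
noncomputable def a135 : Net := (.cons 40 (nat_lit 0x1494030000)
 (.cons 20 (nat_lit 0x80d480000030000)
 (.cons 10 (nat_lit 0x242001ec0001000000)
 (.cons 5 (nat_lit 0x40180300e0000401000)
 (.cons 1 (nat_lit 0x40000000)
 (.cons 1 (nat_lit 0x50000000000280000000)
 (.cons 1 (nat_lit 0x20085000200100000000)
 (.cons 1 (nat_lit 0x5004a000401280200000)
 (.cons 1 (nat_lit 0x485080210040000000)
 (.cons 5 (nat_lit 0x4018000060000400000)
 (.cons 10 (nat_lit 0x242000e40001000000)
 (.cons 20 (nat_lit 0x805480000030000)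
 (.cons 40 (nat_lit 0x1494030000)
 .nil)))))))))))))
noncomputable def a136 : Net := (.cons 40 (nat_lit 0x1380840000)
 (.cons 20 (nat_lit 0xb4d0000000c0040)
 (.cons 10 (nat_lit 0x21a001400012000000)
 (.cons 5 (nat_lit 0x180101a0000a01000)
 (.cons 1 (nat_lit 0x8000)
 (.cons 1 (nat_lit 0x50000)
 (.cons 1 (nat_lit 0x5080840000020000)
 (.cons 1 (nat_lit 0x1010a100420000050800)
 (.cons 1 (nat_lit 0x1405080840000108000)
 (.cons 5 (nat_lit 0x18010000000201000)
 (.cons 10 (nat_lit 0x21a001400010000000)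
 (.cons 20 (nat_lit 0xb450000000c0040)
 (.cons 40 (nat_lit 0x1380840000)
 .nil)))))))))))))
noncomputable def a137 : Net := (.cons 40 (nat_lit 0x2554890d26)
 (.cons 20 (nat_lit 0x7f38a000001671e)
 (.cons 10 (nat_lit 0x17800339003ef002ba)
 (.cons 5 (nat_lit 0x380c038000500106803)
 (.cons 1 (nat_lit 0x800000000)
 (.cons 1 (nat_lit 0x2001405004000100)
 (.cons 1 (nat_lit 0xa5280842008528080)
 (.cons 1 (nat_lit 0x942101485294252942)
 (.cons 1 (nat_lit 0x214a0010052802528004)
 (.cons 5 (nat_lit 0x2812008020401806800)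
 (.cons 10 (nat_lit 0x300033a001e400238)
 (.cons 20 (nat_lit 0x5a2840000014f88)
 (.cons 40 (nat_lit 0x2554820bf2)
 .nil)))))))))))))
noncomputable def a138 : Net := (.cons 40 (nat_lit 0x6f7b5f53f2)
 (.cons 20 (nat_lit 0x419e500000f9842)
 (.cons 10 (nat_lit 0x2f7003ae0006400160)
 (.cons 5 (nat_lit 0x58150640c0000302c0e)
 (.cons 1 (nat_lit 0x1400000000000000000)
 (.cons 1 (nat_lit 0x290040000100001204a)
 (.cons 1 (nat_lit 0x14a4210252000021085)
 (.cons 1 (nat_lit 0x29421284a508005090a)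
 (.cons 1 (nat_lit 0x29425210252000409000)
 (.cons 5 (nat_lit 0x201401014000000400a)
 (.cons 10 (nat_lit 0x248002b60006400160)
 (.cons 20 (nat_lit 0x658f800000f9842)
 (.cons 40 (nat_lit 0x6f7b5151be)
 .nil)))))))))))))
noncomputable def a139 : Net := (.cons 40 (nat_lit 0x3324337eaa)
 (.cons 20 (nat_lit 0x53a4100000cbdcb)
 (.cons 10 (nat_lit 0xa002b4002de003e5)
 (.cons 5 (nat_lit 0x100741a0541807c13)
 (.cons 1 (nat_lit 0xa00000400000)
 (.cons 1 (nat_lit 0x420214a5000a42800)
 (.cons 1 (nat_lit 0xa4014a5290a529405)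
 (.cons 1 (nat_lit 0x1004a429425084a50802)
 (.cons 1 (nat_lit 0x210a108480280a009484)
 (.cons 5 (nat_lit 0x1403014058080700a)
 (.cons 10 (nat_lit 0x800070003fe000e4)
 (.cons 20 (nat_lit 0x41a0a000008b994)
 (.cons 40 (nat_lit 0x33283e72c4)
 .nil)))))))))))))
noncomputable def a140 : Net := (.cons 40 (nat_lit 0x23b37c6d8b)
 (.cons 20 (nat_lit 0x6662d00000c804f)
 (.cons 10 (nat_lit 0xdb003840022300104)
 (.cons 5 (nat_lit 0x4806010190240001010)
 (.cons 1 (nat_lit 0x200000008000020)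
 (.cons 1 (nat_lit 0x850000021401084a)
 (.cons 1 (nat_lit 0x100528080014a121484)
 (.cons 1 (nat_lit 0x5084250942009424090a)
 (.cons 1 (nat_lit 0x204252908001005290a0)
 (.cons 5 (nat_lit 0x70020100c0280402002)
 (.cons 10 (nat_lit 0x1da0038000302000ba)
 (.cons 20 (nat_lit 0x4460000000c8004)
 (.cons 40 (nat_lit 0x23b3442ba6)
 .nil)))))))))))))
noncomputable def a141 : Net := (.cons 40 (nat_lit 0x8e38717d4b)
 (.cons 20 (nat_lit 0xdcf100000c8aed)
 (.cons 10 (nat_lit 0x2350026e000f10007c)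
 (.cons 5 (nat_lit 0x28080180102c010181a)
 (.cons 1 (nat_lit 0x5000000048000400)
 (.cons 1 (nat_lit 0x4004a001400094200840)
 (.cons 1 (nat_lit 0x200a509080010a501080)
 (.cons 1 (nat_lit 0x1014a529401284212102)
 (.cons 1 (nat_lit 0x28085280800148009480)
 (.cons 5 (nat_lit 0x6800050000280801010)
 (.cons 10 (nat_lit 0x2100038e0031000120)
 (.cons 20 (nat_lit 0x8ffd20000088a54)
 (.cons 40 (nat_lit 0x8e26082334)
 .nil)))))))))))))
noncomputable def a142 : Net := (.cons 40 (nat_lit 0x3105f15258)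
 (.cons 20 (nat_lit 0xc1f72000004abda)
 (.cons 10 (nat_lit 0xd70005c0002900176)
 (.cons 5 (nat_lit 0x2004008040200807c1e)
 (.cons 1 (nat_lit 0x1400000000800000404)
 (.cons 1 (nat_lit 0x52840000005290a1084a)
 (.cons 1 (nat_lit 0x214a0080012108529085)
 (.cons 1 (nat_lit 0x528421284a5284a12902)
 (.cons 1 (nat_lit 0x400080010800501484)
 (.cons 5 (nat_lit 0x680a008060001804808)
 (.cons 10 (nat_lit 0x390000000002a003f4)
 (.cons 20 (nat_lit 0xc0f300000046450)
 (.cons 40 (nat_lit 0x31050d5508)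
 .nil)))))))))))))
noncomputable def a143 : Net := (.cons 40 (nat_lit 0x10070000)
 (.cons 20 (nat_lit 0x50000000c0000)
 (.cons 10 (nat_lit 0x2001400003800000)
 (.cons 5 (nat_lit 0x8030060001002002)
 (.cons 1 (nat_lit 0x40008000)
 (.cons 1 (nat_lit 0x280050000)
 (.cons 1 (nat_lit 0x5080800100428085)
 (.cons 1 (nat_lit 0x2100400280852042)
 (.cons 1 (nat_lit 0x405080810140408085)
 (.cons 5 (nat_lit 0x8010020001002002)
 (.cons 10 (nat_lit 0x2001400001800000)
 (.cons 20 (nat_lit 0x50000000c0000)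
 (.cons 40 (nat_lit 0x10070000)
 .nil)))))))))))))
noncomputable def a144 : Net := (.cons 40 (nat_lit 0x404040000)
 (.cons 20 (nat_lit 0x5400000020020)
 (.cons 10 (nat_lit 0x42001000002800000)
 (.cons 5 (nat_lit 0x4008018080000401014)
 (.cons 1 (nat_lit 0x800008000)
 (.cons 1 (nat_lit 0x50000000005000050000)
 (.cons 1 (nat_lit 0x20005080042000021484)
 (.cons 1 (nat_lit 0x50002108025000250908)
 (.cons 1 (nat_lit 0x405080240900009484)
 (.cons 5 (nat_lit 0x4008018080000400000)
 (.cons 10 (nat_lit 0x42001000000800020)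
 (.cons 20 (nat_lit 0x54000000a8000)
 (.cons 40 (nat_lit 0x404040000)
 .nil)))))))))))))
noncomputable def a145 : Net := (.cons 40 (nat_lit 0x1290010000)
 (.cons 20 (nat_lit 0x828080000040040)
 (.cons 10 (nat_lit 0x340001400001000000)
 (.cons 5 (nat_lit 0x20180001e0001205002)
 (.cons 1 (nat_lit 0x40000000)
 (.cons 1 (nat_lit 0x280000000)
 (.cons 1 (nat_lit 0x84000000100400085)
 (.cons 1 (nat_lit 0x48020000280840842)
 (.cons 1 (nat_lit 0x84000010040500085)
 (.cons 5 (nat_lit 0x18000020001205002)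
 (.cons 10 (nat_lit 0x340001400001000000)
 (.cons 20 (nat_lit 0x820080000040040)
 (.cons 40 (nat_lit 0x1290010000)
 .nil)))))))))))))
noncomputable def a146 : Net := (.cons 40 (nat_lit 0xbded7bffc0)
 (.cons 20 (nat_lit 0x21379000006a4e6)
 (.cons 10 (nat_lit 0xe5000930008900250)
 (.cons 5 (nat_lit 0x101f024120201c03808)
 (.cons 1 (nat_lit 0x1080000000000000)
 (.cons 1 (nat_lit 0x200a520000004002040)
 (.cons 1 (nat_lit 0x1024214000808501084)
 (.cons 1 (nat_lit 0x284a529401010210902)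
 (.cons 1 (nat_lit 0x84a1080810808501084)
 (.cons 5 (nat_lit 0x101800818000100300c)
 (.cons 10 (nat_lit 0x204000040000000310)
 (.cons 20 (nat_lit 0x9817c000002a542)
 (.cons 40 (nat_lit 0xbdfcffc784)
 .nil)))))))))))))
noncomputable def a147 : Net := (.cons 40 (nat_lit 0x8025401246)
 (.cons 20 (nat_lit 0x7879c00000db40e)
 (.cons 10 (nat_lit 0xc10020e0002c001f0)
 (.cons 5 (nat_lit 0x1e0400d0281905802)
 (.cons 1 (nat_lit 0x4000000800000000)
 (.cons 1 (nat_lit 0xa000405000240000)
 (.cons 1 (nat_lit 0x8005010802948520000)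
 (.cons 1 (nat_lit 0x100420210a5094250000)
 (.cons 1 (nat_lit 0x8085010a00948100480)
 (.cons 5 (nat_lit 0x18040020201205808)
 (.cons 10 (nat_lit 0x300002060007800100)
 (.cons 20 (nat_lit 0xf845000000db40a)
 (.cons 40 (nat_lit 0x8038111246)
 .nil)))))))))))))
noncomputable def a148 : Net := (.cons 40 (nat_lit 0x1494000000)
 (.cons 20 (nat_lit 0x32c4000000c0040)
 (.cons 10 (nat_lit 0x1c2000600000800000)
 (.cons 5 (nat_lit 0x60000000c0001203014)
 (.cons 1 (nat_lit 0x8000)
 (.cons 1 (nat_lit 0x50000000000000050000)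
 (.cons 1 (nat_lit 0x20000000800000420084)
 (.cons 1 (nat_lit 0x50040000400000852908)
 (.cons 1 (nat_lit 0x400080800100508084)
 (.cons 5 (nat_lit 0x4000000080001203000)
 (.cons 10 (nat_lit 0x1c2000600000800000)
 (.cons 20 (nat_lit 0x3244000000c0040)
 (.cons 40 (nat_lit 0x1494000000)
 .nil)))))))))))))
noncomputable def a149 : Net := (.cons 40 (nat_lit 0x1090040000)
 (.cons 20 (nat_lit 0x109000000041040)
 (.cons 10 (nat_lit 0x1400002000200)
 (.cons 5 (nat_lit 0x80300e0101205000)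
 (.cons 1 (nat_lit 0x20)
 (.cons 1 (nat_lit 0x940)
 (.cons 1 (nat_lit 0x5080840000401480)
 (.cons 1 (nat_lit 0x2100420004840940)
 (.cons 1 (nat_lit 0x5080840000501420)
 (.cons 5 (nat_lit 0x8010000001205000)
 (.cons 10 (nat_lit 0x1400000000200)
 (.cons 20 (nat_lit 0x101000000041040)
 (.cons 40 (nat_lit 0x1090040000)
 .nil)))))))))))))
noncomputable def a150 : Net := (.cons 40 (nat_lit 0x4fe60bf8eb)
 (.cons 20 (nat_lit 0x864e600000fae5d)
 (.cons 10 (nat_lit 0x1c400113002460006c)
 (.cons 5 (nat_lit 0x81a0280406c1804016)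
 (.cons 1 (nat_lit 0x8000000000000100000)
 (.cons 1 (nat_lit 0x10000000400004200140)
 (.cons 1 (nat_lit 0x28084294a0080a409080)
 (.cons 1 (nat_lit 0x50048129401284a12142)
 (.cons 1 (nat_lit 0x214a0280a40042000001)
 (.cons 5 (nat_lit 0x401a0081e0400800010)
 (.cons 10 (nat_lit 0x3e80004c00324000ec)
 (.cons 20 (nat_lit 0x8752800000caf2e)
 (.cons 40 (nat_lit 0x4feaf09278)
 .nil)))))))))))))
noncomputable def a151 : Net := (.cons 40 (nat_lit 0xe4a74b8331)
 (.cons 20 (nat_lit 0x1541e0000032325)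
 (.cons 10 (nat_lit 0x2d400326001a100194)
 (.cons 5 (nat_lit 0x5803008050180e01401)
 (.cons 1 (nat_lit 0x80000000000000)
 (.cons 1 (nat_lit 0x42101080004000000)
 (.cons 1 (nat_lit 0x485200a4090a000085)
 (.cons 1 (nat_lit 0x4094a40042109420204a)
 (.cons 1 (nat_lit 0x200252108129021200a4)
 (.cons 5 (nat_lit 0x800068040280e06008)
 (.cons 10 (nat_lit 0x3400008c00164000e0)
 (.cons 20 (nat_lit 0x55c800000032304)
 (.cons 40 (nat_lit 0xe4b99e4da8)
 .nil)))))))))))))
noncomputable def a152 : Net := (.cons 40 (nat_lit 0x9943a15961)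
 (.cons 20 (nat_lit 0xacb6800000d0447)
 (.cons 10 (nat_lit 0x230001c80006500328)
 (.cons 5 (nat_lit 0x1c1b054170181601019)
 (.cons 1 (nat_lit 0x50800000001080002142)
 (.cons 1 (nat_lit 0x29020204a429485290a5)
 (.cons 1 (nat_lit 0x5214a129425084a10942)
 (.cons 1 (nat_lit 0x1404094052908109084)
 (.cons 5 (nat_lit 0x40601c0401404014)
 (.cons 10 (nat_lit 0x96000a0003e400384)
 (.cons 20 (nat_lit 0xadfb4000009664c)
 (.cons 40 (nat_lit 0x995166e960)
 .nil))))))))))))
noncomputable def a153 : Net := (.cons 40 (nat_lit 0x59a3d3014e)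
 (.cons 20 (nat_lit 0xece3400000f8456)
 (.cons 10 (nat_lit 0x11300042001b90003b)
 (.cons 5 (nat_lit 0x40050381e070000400e)
 (.cons 1 (nat_lit 0x1000000000000000)
 (.cons 1 (nat_lit 0x2000005000000100)
 (.cons 1 (nat_lit 0x24080052040009084)
 (.cons 1 (nat_lit 0x1094a1010a528401294a)
 (.cons 1 (nat_lit 0x4a0080050142109080)
 (.cons 5 (nat_lit 0x1c0101c0300005008)
 (.cons 10 (nat_lit 0x110000200006000030)
 (.cons 20 (nat_lit 0xe4e30000005c5d0)
 (.cons 40 (nat_lit 0x59a393034a)
 .nil)))))))))))))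
noncomputable def a154 : Net := (.cons 40 (nat_lit 0xdf13b79d44)
 (.cons 20 (nat_lit 0x841e2000007bf08)
 (.cons 10 (nat_lit 0x1be00205003420005c)
 (.cons 5 (nat_lit 0x78060001a0440a04012)
 (.cons 1 (nat_lit 0x4000000000000001)
 (.cons 1 (nat_lit 0x1200a00900000000094a)
 (.cons 1 (nat_lit 0x21025214a520005014a4)
 (.cons 1 (nat_lit 0x5284a5284a128421094a)
 (.cons 1 (nat_lit 0x28025290810048000001)
 (.cons 5 (nat_lit 0x28060680a0400400012)
 (.cons 10 (nat_lit 0x9e00312003820005c)
 (.cons 20 (nat_lit 0x41c8000007b708)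
 (.cons 40 (nat_lit 0xdf13b79d44)
 .nil)))))))))))))
noncomputable def a155 : Net := (.cons 40 (nat_lit 0xdff4d9c649)
 (.cons 20 (nat_lit 0xafda600000c3839)
 (.cons 10 (nat_lit 0x1a40003f002ae002bf)
 (.cons 5 (nat_lit 0x6c0b048040000c06c09)
 (.cons 1 (nat_lit 0x400000000000100000)
 (.cons 1 (nat_lit 0x2800000080000240000)
 (.cons 1 (nat_lit 0x1021010242900420025)
 (.cons 1 (nat_lit 0x2942420421090850042)
 (.cons 1 (nat_lit 0x21405014a42800420405)
 (.cons 5 (nat_lit 0x2020160200803008)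
 (.cons 10 (nat_lit 0x3a000122002200028e)
 (.cons 20 (nat_lit 0x234e000000c3804)
 (.cons 40 (nat_lit 0xdff4c6cd32)
 .nil)))))))))))))
noncomputable def a156 : Net := (.cons 40 (nat_lit 0x1684000000)
 (.cons 20 (nat_lit 0xd28400000001040)
 (.cons 10 (nat_lit 0x340000600000000020)
 (.cons 5 (nat_lit 0x4018000180100201014)
 (.cons 1 (nat_lit 0x8000)
 (.cons 1 (nat_lit 0x50000000000000050800)
 (.cons 1 (nat_lit 0x20004000800000021484)
 (.cons 1 (nat_lit 0x50008020400004050908)
 (.cons 1 (nat_lit 0x4080800000109484)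
 (.cons 5 (nat_lit 0x4010000080000201000)
 (.cons 10 (nat_lit 0x340000600000000020)
 (.cons 20 (nat_lit 0xd20400000001040)
 (.cons 40 (nat_lit 0x1684000000)
 .nil)))))))))))))
noncomputable def a157 : Net := (.cons 40 (nat_lit 0x1380840000)
 (.cons 20 (nat_lit 0xb4d0000000c0040)
 (.cons 10 (nat_lit 0x21a001400012000000)
 (.cons 5 (nat_lit 0x180101a0000a01000)
 (.cons 1 (nat_lit 0x8000)
 (.cons 1 (nat_lit 0x50000)
 (.cons 1 (nat_lit 0x5080840000020000)
 (.cons 1 (nat_lit 0x1010a100420000050800)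
 (.cons 1 (nat_lit 0x1405080840000108000)
 (.cons 5 (nat_lit 0x18010000000201000)
 (.cons 10 (nat_lit 0x21a001400010000000)
 (.cons 20 (nat_lit 0xb450000000c0040)
 (.cons 40 (nat_lit 0x1380840000)
 .nil)))))))))))))
noncomputable def a158 : Net := (.cons 40 (nat_lit 0x9943a15961)
 (.cons 20 (nat_lit 0xacb6800000d0447)
 (.cons 10 (nat_lit 0x230001c80006500328)
 (.cons 5 (nat_lit 0x1c1b054170181601019)
 (.cons 1 (nat_lit 0x50800000001080002142)
 (.cons 1 (nat_lit 0x29020204a429485290a5)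
 (.cons 1 (nat_lit 0x5214a129425084a10942)
 (.cons 1 (nat_lit 0x1404094052908109084)
 (.cons 5 (nat_lit 0x40601c0401404014)
 (.cons 10 (nat_lit 0x96000a0003e400384)
 (.cons 20 (nat_lit 0xadfb4000009664c)
 (.cons 40 (nat_lit 0x995166e960)
 .nil))))))))))))
noncomputable def a159 : Net := (.cons 40 (nat_lit 0xe46f19e238)
 (.cons 20 (nat_lit 0x6763e00000cfed9)
 (.cons 10 (nat_lit 0x1f300183002d7000ce)
 (.cons 5 (nat_lit 0x5c0400c1800c070280d)
 (.cons 1 (nat_lit 0x400080000000000000)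
 (.cons 1 (nat_lit 0x10800501001000010002)
 (.cons 1 (nat_lit 0x29001200a42108528005)
 (.cons 1 (nat_lit 0x52902500485210210842)
 (.cons 1 (nat_lit 0x280812048008004080a5)
 (.cons 5 (nat_lit 0x2818040080181e03004)
 (.cons 10 (nat_lit 0x6e001520028a000ca)
 (.cons 20 (nat_lit 0x4351c00000cd6f6)
 (.cons 40 (nat_lit 0xe47dcd0da4)
 .nil)))))))))))))
noncomputable def a160 : Net := (.cons 40 (nat_lit 0x1714870800)
 (.cons 20 (nat_lit 0x8d5280000070860)
 (.cons 10 (nat_lit 0x21a0014e0013000000)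
 (.cons 5 (nat_lit 0x3018050160001a01416)
 (.cons 1 (nat_lit 0x840000400)
 (.cons 1 (nat_lit 0x10000500005280040800)
 (.cons 1 (nat_lit 0x28005200802900429085)
 (.cons 1 (nat_lit 0x1010a50840528481294a)
 (.cons 1 (nat_lit 0x425010010840528485)
 (.cons 5 (nat_lit 0x30180600a0001206002)
 (.cons 10 (nat_lit 0x21a000c00011000020)
 (.cons 20 (nat_lit 0x8d52800000f8040)
 (.cons 40 (nat_lit 0x1714870800)
 .nil)))))))))))))
noncomputable def a161 : Net := (.cons 40 (nat_lit 0x75efd7d3a8)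
 (.cons 20 (nat_lit 0xf4971000000abcd)
 (.cons 10 (nat_lit 0x22600313000a8000d5)
 (.cons 5 (nat_lit 0x68180501b028170441d)
 (.cons 1 (nat_lit 0x1001000200000008080)
 (.cons 1 (nat_lit 0x5280a000404000850140)
 (.cons 1 (nat_lit 0x29485284a428025204a0)
 (.cons 1 (nat_lit 0x5094a109421004250940)
 (.cons 1 (nat_lit 0x400014810008521425)
 (.cons 5 (nat_lit 0x20000201e0281400014)
 (.cons 10 (nat_lit 0x2b4002440008000178)
 (.cons 20 (nat_lit 0x94bc80000002b62)
 (.cons 40 (nat_lit 0x75fbdff4ca)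
 .nil)))))))))))))
noncomputable def a162 : Net := (.cons 40 (nat_lit 0x21da9f8fc1)
 (.cons 20 (nat_lit 0xcc5d00000004328)
 (.cons 10 (nat_lit 0x9f001050001400015)
 (.cons 5 (nat_lit 0x2014028100601b0400d)
 (.cons 1 (nat_lit 0x20000000000000400)
 (.cons 1 (nat_lit 0x140000024000202802)
 (.cons 1 (nat_lit 0x8081014242900429485)
 (.cons 1 (nat_lit 0x52142108481200a12942)
 (.cons 1 (nat_lit 0x2902000000200a109020)
 (.cons 5 (nat_lit 0x2016000100200002016)
 (.cons 10 (nat_lit 0xb80010e000040011a)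
 (.cons 20 (nat_lit 0xcc470000005c0f0)
 (.cons 40 (nat_lit 0x21dc04a9aa)
 .nil)))))))))))))
noncomputable def a163 : Net := (.cons 40 (nat_lit 0x429281c860)
 (.cons 20 (nat_lit 0xe818000009da84)
 (.cons 10 (nat_lit 0x28003430029200051)
 (.cons 5 (nat_lit 0x4008030060100401814)
 (.cons 1 (nat_lit 0x48008000)
 (.cons 1 (nat_lit 0x294050000)
 (.cons 1 (nat_lit 0x100401005214a020484)
 (.cons 1 (nat_lit 0x4084800802429485294a)
 (.cons 1 (nat_lit 0x1005014042848129005)
 (.cons 5 (nat_lit 0x400000808010000180a)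
 (.cons 10 (nat_lit 0x8000080029200088)
 (.cons 20 (nat_lit 0xe818000009da84)
 (.cons 40 (nat_lit 0x429281c840)
 .nil)))))))))))))
noncomputable def a164 : Net := (.cons 40 (nat_lit 0x404870800)
 (.cons 20 (nat_lit 0x804400000040040)
 (.cons 10 (nat_lit 0x242001600013000200)
 (.cons 5 (nat_lit 0x4010010020001a04000)
 (.cons 1 (nat_lit 0x40000020)
 (.cons 1 (nat_lit 0x50000000000280000140)
 (.cons 1 (nat_lit 0x20004000800100401480)
 (.cons 1 (nat_lit 0x50008008400280850940)
 (.cons 1 (nat_lit 0x404080810040501420)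
 (.cons 5 (nat_lit 0x4010010020001204000)
 (.cons 10 (nat_lit 0x242001600011000200)
 (.cons 20 (nat_lit 0x804400000040040)
 (.cons 40 (nat_lit 0x404870800)
 .nil)))))))))))))
noncomputable def a165 : Net := (.cons 40 (nat_lit 0x1494030000)
 (.cons 20 (nat_lit 0x80d480000030000)
 (.cons 10 (nat_lit 0x242001ec0001000000)
 (.cons 5 (nat_lit 0x40180300e0000401000)
 (.cons 1 (nat_lit 0x40000000)
 (.cons 1 (nat_lit 0x50000000000280000000)
 (.cons 1 (nat_lit 0x20085000200100000000)
 (.cons 1 (nat_lit 0x5004a000401280200000)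
 (.cons 1 (nat_lit 0x485080210040000000)
 (.cons 5 (nat_lit 0x4018000060000400000)
 (.cons 10 (nat_lit 0x242000e40001000000)
 (.cons 20 (nat_lit 0x805480000030000)
 (.cons 40 (nat_lit 0x1494030000)
 .nil)))))))))))))
noncomputable def a166 : Net := (.cons 40 (nat_lit 0x5ee64fd205)
 (.cons 20 (nat_lit 0x306c800000d1105)
 (.cons 10 (nat_lit 0xaf000050024400061)
 (.cons 5 (nat_lit 0x2c1504c060200803815)
 (.cons 1 (nat_lit 0x200000100000)
 (.cons 1 (nat_lit 0x2000020400000a00000)
 (.cons 1 (nat_lit 0x21400294800000508005)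
 (.cons 1 (nat_lit 0x1280a129080010a50802)
 (.cons 1 (nat_lit 0x1025294000100028484)
 (.cons 5 (nat_lit 0x2814000160200603008)
 (.cons 10 (nat_lit 0x440031c003c400050)
 (.cons 20 (nat_lit 0x7eaaa0000051008)
 (.cons 40 (nat_lit 0x5ee6f44590)
 .nil)))))))))))))
noncomputable def a167 : Net := (.cons 40 (nat_lit 0xf05066bc00)
 (.cons 20 (nat_lit 0xc040000000f7428)
 (.cons 10 (nat_lit 0x3cb002de0026e00000)
 (.cons 5 (nat_lit 0x81a078010340900805)
 (.cons 1 (nat_lit 0x80000100000000)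
 (.cons 1 (nat_lit 0x8500004280000108)
 (.cons 1 (nat_lit 0x214052008029400000a4)
 (.cons 1 (nat_lit 0x1080a500481080200042)
 (.cons 1 (nat_lit 0x21404084002848009001)
 (.cons 5 (nat_lit 0x81e048040400800802)
 (.cons 10 (nat_lit 0x3ca001500003e00010)
 (.cons 20 (nat_lit 0xb040c00000f3c30)
 (.cons 40 (nat_lit 0xf050aef800)
 .nil)))))))))))))
noncomputable def a168 : Net := (.cons 40 (nat_lit 0x7f92db4992)
 (.cons 20 (nat_lit 0x7f00e000007cdd3)
 (.cons 10 (nat_lit 0xb20002d00369000a7)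
 (.cons 5 (nat_lit 0x3808008180080801004)
 (.cons 1 (nat_lit 0x80000000000000)
 (.cons 1 (nat_lit 0x101020010000100)
 (.cons 1 (nat_lit 0x800021485200a408080)
 (.cons 1 (nat_lit 0x10008409424214a10948)
 (.cons 1 (nat_lit 0x8081294012000509400)
 (.cons 5 (nat_lit 0x1008020100000801004)
 (.cons 10 (nat_lit 0x9200334000e8002a2)
 (.cons 20 (nat_lit 0x3500a000007c9d0)
 (.cons 40 (nat_lit 0x7f92d34bb2)
 .nil)))))))))))))
noncomputable def a169 : Net := (.cons 40 (nat_lit 0x210030800)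
 (.cons 20 (nat_lit 0x45000000000040)
 (.cons 10 (nat_lit 0x2001400001000020)
 (.cons 5 (nat_lit 0x8030160000200014)
 (.cons 1 (nat_lit 0x40008000)
 (.cons 1 (nat_lit 0x280050000)
 (.cons 1 (nat_lit 0x5080000100029484)
 (.cons 1 (nat_lit 0x2002108000280050908)
 (.cons 1 (nat_lit 0x405080010040109484)
 (.cons 5 (nat_lit 0x8010020000200000)
 (.cons 10 (nat_lit 0x2001400001000020)
 (.cons 20 (nat_lit 0x45000000000040)
 (.cons 40 (nat_lit 0x210030800)
 .nil)))))))))))))
noncomputable def a170 : Net := (.cons 40 (nat_lit 0x614050000)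
 (.cons 20 (nat_lit 0x204000000a0840)
 (.cons 10 (nat_lit 0x140001600003800000)
 (.cons 5 (nat_lit 0x6000000160300201000)
 (.cons 1 (nat_lit 0x40008000)
 (.cons 1 (nat_lit 0x50000000000280050000)
 (.cons 1 (nat_lit 0x20000000800140020000)
 (.cons 1 (nat_lit 0x50000020400284050000)
 (.cons 1 (nat_lit 0x80812040108000)
 (.cons 5 (nat_lit 0x4000000020300200000)
 (.cons 10 (nat_lit 0x140001600001800000)
 (.cons 20 (nat_lit 0x204000000a0840)
 (.cons 40 (nat_lit 0x614050000)
 .nil)))))))))))))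
noncomputable def a171 : Net := (.cons 40 (nat_lit 0x1090040000)
 (.cons 20 (nat_lit 0x109000000041040)
 (.cons 10 (nat_lit 0x1400002000200)
 (.cons 5 (nat_lit 0x80300e0101205000)
 (.cons 1 (nat_lit 0x20)
 (.cons 1 (nat_lit 0x940)
 (.cons 1 (nat_lit 0x5080840000401480)
 (.cons 1 (nat_lit 0x2100420004840940)
 (.cons 1 (nat_lit 0x5080840000501420)
 (.cons 5 (nat_lit 0x8010000001205000)
 (.cons 10 (nat_lit 0x1400000000200)
 (.cons 20 (nat_lit 0x101000000041040)
 (.cons 40 (nat_lit 0x1090040000)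
 .nil)))))))))))))
noncomputable def a172 : Net := (.cons 40 (nat_lit 0x1380840000)
 (.cons 20 (nat_lit 0xb4d0000000c0040)
 (.cons 10 (nat_lit 0x21a001400012000000)
 (.cons 5 (nat_lit 0x180101a0000a01000)
 (.cons 1 (nat_lit 0x8000)
 (.cons 1 (nat_lit 0x50000)
 (.cons 1 (nat_lit 0x5080840000020000)
 (.cons 1 (nat_lit 0x1010a100420000050800)
 (.cons 1 (nat_lit 0x1405080840000108000)
 (.cons 5 (nat_lit 0x18010000000201000)
 (.cons 10 (nat_lit 0x21a001400010000000)
 (.cons 20 (nat_lit 0xb450000000c0040)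
 (.cons 40 (nat_lit 0x1380840000)
 .nil)))))))))))))
noncomputable def a173 : Net := (.cons 40 (nat_lit 0x1494030000)
 (.cons 20 (nat_lit 0x80d480000030000)
 (.cons 10 (nat_lit 0x242001ec0001000000)
 (.cons 5 (nat_lit 0x40180300e0000401000)
 (.cons 1 (nat_lit 0x40000000)
 (.cons 1 (nat_lit 0x50000000000280000000)
 (.cons 1 (nat_lit 0x20085000200100000000)
 (.cons 1 (nat_lit 0x5004a000401280200000)
 (.cons 1 (nat_lit 0x485080210040000000)
 (.cons 5 (nat_lit 0x4018000060000400000)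
 (.cons 10 (nat_lit 0x242000e40001000000)
 (.cons 20 (nat_lit 0x805480000030000)
 (.cons 40 (nat_lit 0x1494030000)
 .nil)))))))))))))
noncomputable def a174 : Net := (.cons 40 (nat_lit 0x404040000)
 (.cons 20 (nat_lit 0x5400000020020)
 (.cons 10 (nat_lit 0x42001000002800000)
 (.cons 5 (nat_lit 0x4008018080000401014)
 (.cons 1 (nat_lit 0x800008000)
 (.cons 1 (nat_lit 0x50000000005000050000)
 (.cons 1 (nat_lit 0x20005080042000021484)
 (.cons 1 (nat_lit 0x50002108025000250908)
 (.cons 1 (nat_lit 0x405080240900009484)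
 (.cons 5 (nat_lit 0x4008018080000400000)
 (.cons 10 (nat_lit 0x42001000000800020)
 (.cons 20 (nat_lit 0x54000000a8000)
 (.cons 40 (nat_lit 0x404040000)
 .nil)))))))))))))
noncomputable def a175 : Net := (.cons 40 (nat_lit 0x1080000000)
 (.cons 20 (nat_lit 0xf0d000000040000)
 (.cons 10 (nat_lit 0x20a000400000000020)
 (.cons 5 (nat_lit 0x2018010080001000416)
 (.cons 1 (nat_lit 0x400)
 (.cons 1 (nat_lit 0x40800)
 (.cons 1 (nat_lit 0x5080800000429085)
 (.cons 1 (nat_lit 0x1000a10040000081294a)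
 (.cons 1 (nat_lit 0x405080800000428485)
 (.cons 5 (nat_lit 0x18010080001006002)
 (.cons 10 (nat_lit 0x20a000400000000020)
 (.cons 20 (nat_lit 0xf05000000040000)
 (.cons 40 (nat_lit 0x1080000000)
 .nil)))))))))))))
noncomputable def a176 : Net := (.cons 40 (nat_lit 0xe37af9f9d9)
 (.cons 20 (nat_lit 0x9ace4000003fb8c)
 (.cons 10 (nat_lit 0x30a001010022400321)
 (.cons 5 (nat_lit 0x3c1d0501e0681104c01)
 (.cons 1 (nat_lit 0x8020)
 (.cons 1 (nat_lit 0x14250040)
 (.cons 1 (nat_lit 0x4a4004a00008520080)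
 (.cons 1 (nat_lit 0x50848029481014250140)
 (.cons 1 (nat_lit 0x9021014802008408025)
 (.cons 5 (nat_lit 0x1012020160301c04008)
 (.cons 10 (nat_lit 0x8a00398002fe00330)
 (.cons 20 (nat_lit 0x3bae0000003b3dc)
 (.cons 40 (nat_lit 0xe37af6fb2e)
 .nil)))))))))))))
noncomputable def a177 : Net := (.cons 40 (nat_lit 0xef6f7fd4d8)
 (.cons 20 (nat_lit 0x327c90000008087)
 (.cons 10 (nat_lit 0x2b400187000200026a)
 (.cons 5 (nat_lit 0x2c0404c040080f0540a)
 (.cons 1 (nat_lit 0x1000200000000000)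
 (.cons 1 (nat_lit 0x200a020400000000800)
 (.cons 1 (nat_lit 0x21485014800008001405)
 (.cons 1 (nat_lit 0x4294a0094a0004000902)
 (.cons 1 (nat_lit 0x102008424000a429001)
 (.cons 5 (nat_lit 0x280a008100000a01000)
 (.cons 10 (nat_lit 0x2a4003300002000334)
 (.cons 20 (nat_lit 0x7d3a2000000888e)
 (.cons 40 (nat_lit 0xef6ff75f24)
 .nil)))))))))))))
noncomputable def a178 : Net := (.cons 40 (nat_lit 0x1714870800)
 (.cons 20 (nat_lit 0x8d5280000070860)
 (.cons 10 (nat_lit 0x21a0014e0013000000)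
 (.cons 5 (nat_lit 0x3018050160001a01416)
 (.cons 1 (nat_lit 0x840000400)
 (.cons 1 (nat_lit 0x10000500005280040800)
 (.cons 1 (nat_lit 0x28005200802900429085)
 (.cons 1 (nat_lit 0x1010a50840528481294a)
 (.cons 1 (nat_lit 0x425010010840528485)
 (.cons 5 (nat_lit 0x30180600a0001206002)
 (.cons 10 (nat_lit 0x21a000c00011000020)
 (.cons 20 (nat_lit 0x8d52800000f8040)
 (.cons 40 (nat_lit 0x1714870800)
 .nil)))))))))))))
noncomputable def a179 : Net := (.cons 40 (nat_lit 0x614050000)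
 (.cons 20 (nat_lit 0x204000000a0840)
 (.cons 10 (nat_lit 0x140001600003800000)
 (.cons 5 (nat_lit 0x6000000160300201000)
 (.cons 1 (nat_lit 0x40008000)
 (.cons 1 (nat_lit 0x50000000000280050000)
 (.cons 1 (nat_lit 0x20000000800140020000)
 (.cons 1 (nat_lit 0x50000020400284050000)
 (.cons 1 (nat_lit 0x80812040108000)
 (.cons 5 (nat_lit 0x4000000020300200000)
 (.cons 10 (nat_lit 0x140001600001800000)
 (.cons 20 (nat_lit 0x204000000a0840)
 (.cons 40 (nat_lit 0x614050000)
 .nil)))))))))))))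
noncomputable def a180 : Net := (.cons 40 (nat_lit 0x1090040000)
 (.cons 20 (nat_lit 0x109000000041040)
 (.cons 10 (nat_lit 0x1400002000200)
 (.cons 5 (nat_lit 0x80300e0101205000)
 (.cons 1 (nat_lit 0x20)
 (.cons 1 (nat_lit 0x940)
 (.cons 1 (nat_lit 0x5080840000401480)
 (.cons 1 (nat_lit 0x2100420004840940)
 (.cons 1 (nat_lit 0x5080840000501420)
 (.cons 5 (nat_lit 0x8010000001205000)
 (.cons 10 (nat_lit 0x1400000000200)
 (.cons 20 (nat_lit 0x101000000041040)
 (.cons 40 (nat_lit 0x1090040000)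
 .nil)))))))))))))
noncomputable def a181 : Net := (.cons 40 (nat_lit 0x614840000)
 (.cons 20 (nat_lit 0x841200000040000)
 (.cons 10 (nat_lit 0x200001400012000000)
 (.cons 5 (nat_lit 0x180701c0001804014)
 (.cons 1 (nat_lit 0x500000000000000)
 (.cons 1 (nat_lit 0x5280040000400084)
 (.cons 1 (nat_lit 0x200a500020000840108)
 (.cons 1 (nat_lit 0x25000040000400084)
 (.cons 5 (nat_lit 0x18050080001004000)
 (.cons 10 (nat_lit 0x200001400010000000)
 (.cons 20 (nat_lit 0x841200000040000)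
 (.cons 40 (nat_lit 0x614840000)
 .nil))))))))))))
noncomputable def a182 : Net := (.cons 40 (nat_lit 0x1280070000)
 (.cons 20 (nat_lit 0x4c080000070000)
 (.cons 10 (nat_lit 0x42001400003000000)
 (.cons 5 (nat_lit 0x8000120000405014)
 (.cons 1 (nat_lit 0x40000000)
 (.cons 1 (nat_lit 0x280000000)
 (.cons 1 (nat_lit 0x80000800108000084)
 (.cons 1 (nat_lit 0x2040000401290240108)
 (.cons 1 (nat_lit 0x480000810048000084)
 (.cons 5 (nat_lit 0x8000020000404000)
 (.cons 10 (nat_lit 0x42001400001000000)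
 (.cons 20 (nat_lit 0x44080000070000)
 (.cons 40 (nat_lit 0x1280070000)
 .nil)))))))))))))
noncomputable def a183 : Net := (.cons 40 (nat_lit 0x1494030000)
 (.cons 20 (nat_lit 0x80d480000030000)
 (.cons 10 (nat_lit 0x242001ec0001000000)
 (.cons 5 (nat_lit 0x40180300e0000401000)
 (.cons 1 (nat_lit 0x40000000)
 (.cons 1 (nat_lit 0x50000000000280000000)
 (.cons 1 (nat_lit 0x20085000200100000000)
 (.cons 1 (nat_lit 0x5004a000401280200000)
 (.cons 1 (nat_lit 0x485080210040000000)
 (.cons 5 (nat_lit 0x4018000060000400000)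
 (.cons 10 (nat_lit 0x242000e40001000000)
 (.cons 20 (nat_lit 0x805480000030000)
 (.cons 40 (nat_lit 0x1494030000)
 .nil)))))))))))))
noncomputable def a184 : Net := (.cons 40 (nat_lit 0x404870800)
 (.cons 20 (nat_lit 0x804400000040040)
 (.cons 10 (nat_lit 0x242001600013000200)
 (.cons 5 (nat_lit 0x4010010020001a04000)
 (.cons 1 (nat_lit 0x40000020)
 (.cons 1 (nat_lit 0x50000000000280000140)
 (.cons 1 (nat_lit 0x20004000800100401480)
 (.cons 1 (nat_lit 0x50008008400280850940)
 (.cons 1 (nat_lit 0x404080810040501420)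
 (.cons 5 (nat_lit 0x4010010020001204000)
 (.cons 10 (nat_lit 0x242001600011000200)
 (.cons 20 (nat_lit 0x804400000040040)
 (.cons 40 (nat_lit 0x404870800)
 .nil)))))))))))))
noncomputable def a185 : Net := (.cons 40 (nat_lit 0x7100f929c8)
 (.cons 20 (nat_lit 0xf48450000083e66)
 (.cons 10 (nat_lit 0x3e20015d00114000ce)
 (.cons 5 (nat_lit 0x5804020090541801c19)
 (.cons 1 (nat_lit 0x800000021)
 (.cons 1 (nat_lit 0x50008021005210810942)
 (.cons 1 (nat_lit 0x2800501480210a4210a4)
 (.cons 1 (nat_lit 0x10002008405094a5294a)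
 (.cons 1 (nat_lit 0x2008428485290a1010a0)
 (.cons 5 (nat_lit 0x501a010060500c02008)
 (.cons 10 (nat_lit 0x3b4000340011e000a6)
 (.cons 20 (nat_lit 0xd482200000851b8)
 (.cons 40 (nat_lit 0x71005e8934)
 .nil)))))))))))))
noncomputable def a186 : Net := (.cons 40 (nat_lit 0x1a9e5f97d6)
 (.cons 20 (nat_lit 0x1442c000002b9a2)
 (.cons 10 (nat_lit 0x1b40018e0021100210)
 (.cons 5 (nat_lit 0x18010180f0100906002)
 (.cons 1 (nat_lit 0x80000000000000)
 (.cons 1 (nat_lit 0x8101400014040000)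
 (.cons 1 (nat_lit 0x1404280840948520485)
 (.cons 1 (nat_lit 0x12802509481094a5284a)
 (.cons 1 (nat_lit 0x4242000109021014a5)
 (.cons 5 (nat_lit 0x3800018060301c03010)
 (.cons 10 (nat_lit 0x1ec001820018a00304)
 (.cons 20 (nat_lit 0x16414000004bbe0)
 (.cons 40 (nat_lit 0x1a8f5bd3d6)
 .nil)))))))))))))
noncomputable def a187 : Net := (.cons 40 (nat_lit 0xae31bd016)
 (.cons 20 (nat_lit 0x8f4150000042410)
 (.cons 10 (nat_lit 0x14001c20028000282)
 (.cons 5 (nat_lit 0xc018090100804014)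
 (.cons 1 (nat_lit 0x8400000000000000020)
 (.cons 1 (nat_lit 0x508080000a0000012940)
 (.cons 1 (nat_lit 0x21484004042042421084)
 (.cons 1 (nat_lit 0x529020090a1094242948)
 (.cons 1 (nat_lit 0x84a400080004a400004)
 (.cons 5 (nat_lit 0x4018140001400000)
 (.cons 10 (nat_lit 0x20c0012a002d800280)
 (.cons 20 (nat_lit 0x8d40c00000964e0)
 (.cons 40 (nat_lit 0xaf43e9a56)
 .nil)))))))))))))
noncomputable def a188 : Net := (.cons 40 (nat_lit 0xa0bdb4400)
 (.cons 20 (nat_lit 0xca0b800000b6640)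
 (.cons 10 (nat_lit 0x340000a80010c00000)
 (.cons 5 (nat_lit 0x1d020030581806800)
 (.cons 1 (nat_lit 0x4000102000020)
 (.cons 1 (nat_lit 0x28480294050140)
 (.cons 1 (nat_lit 0x20084010840148029480)
 (.cons 1 (nat_lit 0x1010a0290a4294252940)
 (.cons 1 (nat_lit 0x20084284800102001420)
 (.cons 5 (nat_lit 0x8020140481006800)
 (.cons 10 (nat_lit 0x340000a80010c00000)
 (.cons 20 (nat_lit 0xc80b800000b6600)
 (.cons 40 (nat_lit 0xa0bdb4400)
 .nil)))))))))))))
noncomputable def a189 : Net := (.cons 40 (nat_lit 0xe9779dd9a8)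
 (.cons 20 (nat_lit 0x956300000014601)
 (.cons 10 (nat_lit 0x3880010a002c80005e)
 (.cons 5 (nat_lit 0x3006050030400406018)
 (.cons 1 (nat_lit 0x400000000100000000)
 (.cons 1 (nat_lit 0x2840000000280040040)
 (.cons 1 (nat_lit 0x210a4290042140428080)
 (.cons 1 (nat_lit 0x42848121084284250902)
 (.cons 1 (nat_lit 0x284050948021004200a0)
 (.cons 5 (nat_lit 0x1006060180400404010)
 (.cons 10 (nat_lit 0x38800386002c8001a0)
 (.cons 20 (nat_lit 0x956300000014600)
 (.cons 40 (nat_lit 0xe977955820)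
 .nil)))))))))))))
noncomputable def a190 : Net := (.cons 40 (nat_lit 0xec61bee910)
 (.cons 20 (nat_lit 0x4c6bc0000034a48)
 (.cons 10 (nat_lit 0x29c0006c003d0000ac)
 (.cons 5 (nat_lit 0x340102809070040200a)
 (.cons 1 (nat_lit 0x10000000408000)
 (.cons 1 (nat_lit 0xa1294a0280a50800)
 (.cons 1 (nat_lit 0x9484214840100529405)
 (.cons 1 (nat_lit 0x5290a4094a0280a5080a)
 (.cons 1 (nat_lit 0x28480210042102409425)
 (.cons 5 (nat_lit 0x400007008040000200a)
 (.cons 10 (nat_lit 0x1c00064003d0000a4)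
 (.cons 20 (nat_lit 0xc2bc0000034a08)
 (.cons 40 (nat_lit 0xec611e8910)
 .nil)))))))))))))
noncomputable def a191 : Net := (.cons 40 (nat_lit 0x210000000)
 (.cons 20 (nat_lit 0xc24000000068000)
 (.cons 10 (nat_lit 0x30a000000000800200)
 (.cons 5 (nat_lit 0x2018000140000405000)
 (.cons 1 (nat_lit 0x800000020)
 (.cons 1 (nat_lit 0x5000000140)
 (.cons 1 (nat_lit 0x4000002008001480)
 (.cons 1 (nat_lit 0x8120005010240940)
 (.cons 1 (nat_lit 0x404000000908001420)
 (.cons 5 (nat_lit 0x10000000000404000)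
 (.cons 10 (nat_lit 0x202000000000800200)
 (.cons 20 (nat_lit 0xc24000000068000)
 (.cons 40 (nat_lit 0x210000000)
 .nil)))))))))))))
noncomputable def a192 : Net := (.cons 40 (nat_lit 0xc067dcc350)
 (.cons 20 (nat_lit 0xb44390000014a68)
 (.cons 10 (nat_lit 0x3040009e000f40006d)
 (.cons 5 (nat_lit 0x80305019018110401e)
 (.cons 1 (nat_lit 0x400000000000000000)
 (.cons 1 (nat_lit 0x28000000a0010200802)
 (.cons 1 (nat_lit 0x2148009004080a421485)
 (.cons 1 (nat_lit 0x428485200a1014a40902)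
 (.cons 1 (nat_lit 0x204810942409085214a5)
 (.cons 5 (nat_lit 0x802050180100e06016)
 (.cons 10 (nat_lit 0x30400096000f400164)
 (.cons 20 (nat_lit 0xb44580000014a68)
 (.cons 40 (nat_lit 0xc067d4c350)
 .nil)))))))))))))
noncomputable def a193 : Net := (.cons 40 (nat_lit 0xcc0ee6ca0e)
 (.cons 20 (nat_lit 0x13e600000d014c)
 (.cons 10 (nat_lit 0xaa000bb0038700077)
 (.cons 5 (nat_lit 0x501800c1d0080c02c08)
 (.cons 1 (nat_lit 0x1004000000000020)
 (.cons 1 (nat_lit 0x42002108001014800040)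
 (.cons 1 (nat_lit 0x29004290012008401080)
 (.cons 1 (nat_lit 0x12808529025014202108)
 (.cons 1 (nat_lit 0x29021000800100529025)
 (.cons 5 (nat_lit 0x180001e0001202816)
 (.cons 10 (nat_lit 0x8a000400008400060)
 (.cons 20 (nat_lit 0xc53cc00000c094c)
 (.cons 40 (nat_lit 0xcc0e2796a4)
 .nil)))))))))))))
noncomputable def a194 : Net := (.cons 40 (nat_lit 0xfb3932998a)
 (.cons 20 (nat_lit 0x4b10500000f3fa4)
 (.cons 10 (nat_lit 0x10a0009a0001e0006e)
 (.cons 5 (nat_lit 0x480003c140701d00c10)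
 (.cons 1 (nat_lit 0x1010a000420)
 (.cons 1 (nat_lit 0x2008000020294800940)
 (.cons 1 (nat_lit 0x2908520004014a401080)
 (.cons 1 (nat_lit 0x10902121080294a02940)
 (.cons 1 (nat_lit 0x1001204a1204a509021)
 (.cons 5 (nat_lit 0x6004068060580000010)
 (.cons 10 (nat_lit 0x38a00168001500006e)
 (.cons 20 (nat_lit 0x6811000000f7f8c)
 (.cons 40 (nat_lit 0xfb39f3c520)
 .nil)))))))))))))
noncomputable def a195 : Net := (.cons 40 (nat_lit 0x97235d2d89)
 (.cons 20 (nat_lit 0x1d22f000005f828)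
 (.cons 10 (nat_lit 0x2000003c000fb00053)
 (.cons 5 (nat_lit 0x30100281203c1c04008)
 (.cons 1 (nat_lit 0x20004000002000000)
 (.cons 1 (nat_lit 0x10140009400014052802)
 (.cons 1 (nat_lit 0x2808101484214a029005)
 (.cons 1 (nat_lit 0x5014a029481094012902)
 (.cons 1 (nat_lit 0x2802028081090a500400)
 (.cons 5 (nat_lit 0x7010048000281a00808)
 (.cons 10 (nat_lit 0x8002680009400052)
 (.cons 20 (nat_lit 0x822c000001f8a4)
 (.cons 40 (nat_lit 0x9723f1efc4)
 .nil)))))))))))))
noncomputable def a196 : Net := (.cons 40 (nat_lit 0xf573aec938)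
 (.cons 20 (nat_lit 0x857380000034660)
 (.cons 10 (nat_lit 0x2340000b0021c00024)
 (.cons 5 (nat_lit 0x70040241b050090200a)
 (.cons 1 (nat_lit 0x4000000100000000)
 (.cons 1 (nat_lit 0x5000a120480280a00000)
 (.cons 1 (nat_lit 0x29405214840140400005)
 (.cons 1 (nat_lit 0x5280a4090a0280a0080a)
 (.cons 1 (nat_lit 0x14842002009080000a5)
 (.cons 5 (nat_lit 0x700401016040080000a)
 (.cons 10 (nat_lit 0x234003f40021c00024)
 (.cons 20 (nat_lit 0x857380000034620)
 (.cons 40 (nat_lit 0xf573868938)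
 .nil)))))))))))))
noncomputable def a197 : Net := (.cons 40 (nat_lit 0x1684000000)
 (.cons 20 (nat_lit 0xd28400000001040)
 (.cons 10 (nat_lit 0x340000600000000020)
 (.cons 5 (nat_lit 0x4018000180100201014)
 (.cons 1 (nat_lit 0x8000)
 (.cons 1 (nat_lit 0x50000000000000050800)
 (.cons 1 (nat_lit 0x20004000800000021484)
 (.cons 1 (nat_lit 0x50008020400004050908)
 (.cons 1 (nat_lit 0x4080800000109484)
 (.cons 5 (nat_lit 0x4010000080000201000)
 (.cons 10 (nat_lit 0x340000600000000020)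
 (.cons 20 (nat_lit 0xd20400000001040)
 (.cons 40 (nat_lit 0x1684000000)
 .nil)))))))))))))
noncomputable def a198 : Net := (.cons 40 (nat_lit 0x1280070000)
 (.cons 20 (nat_lit 0x4c080000070000)
 (.cons 10 (nat_lit 0x42001400003000000)
 (.cons 5 (nat_lit 0x8000120000405014)
 (.cons 1 (nat_lit 0x40000000)
 (.cons 1 (nat_lit 0x280000000)
 (.cons 1 (nat_lit 0x80000800108000084)
 (.cons 1 (nat_lit 0x2040000401290240108)
 (.cons 1 (nat_lit 0x480000810048000084)
 (.cons 5 (nat_lit 0x8000020000404000)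
 (.cons 10 (nat_lit 0x42001400001000000)
 (.cons 20 (nat_lit 0x44080000070000)
 (.cons 40 (nat_lit 0x1280070000)
 .nil)))))))))))))
noncomputable def a199 : Net := (.cons 40 (nat_lit 0x614050000)
 (.cons 20 (nat_lit 0x204000000a0840)
 (.cons 10 (nat_lit 0x140001600003800000)
 (.cons 5 (nat_lit 0x6000000160300201000)
 (.cons 1 (nat_lit 0x40008000)
 (.cons 1 (nat_lit 0x50000000000280050000)
 (.cons 1 (nat_lit 0x20000000800140020000)
 (.cons 1 (nat_lit 0x50000020400284050000)
 (.cons 1 (nat_lit 0x80812040108000)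
 (.cons 5 (nat_lit 0x4000000020300200000)
 (.cons 10 (nat_lit 0x140001600001800000)
 (.cons 20 (nat_lit 0x204000000a0840)
 (.cons 40 (nat_lit 0x614050000)
 .nil)))))))))))))
noncomputable def a200 : Net := (.cons 40 (nat_lit 0x404870800)
 (.cons 20 (nat_lit 0x804400000040040)
 (.cons 10 (nat_lit 0x242001600013000200)
 (.cons 5 (nat_lit 0x4010010020001a04000)
 (.cons 1 (nat_lit 0x40000020)
 (.cons 1 (nat_lit 0x50000000000280000140)
 (.cons 1 (nat_lit 0x20004000800100401480)
 (.cons 1 (nat_lit 0x50008008400280850940)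
 (.cons 1 (nat_lit 0x404080810040501420)
 (.cons 5 (nat_lit 0x4010010020001204000)
 (.cons 10 (nat_lit 0x242001600011000200)
 (.cons 20 (nat_lit 0x804400000040040)
 (.cons 40 (nat_lit 0x404870800)
 .nil)))))))))))))
noncomputable def a201 : Net := (.cons 40 (nat_lit 0x1494030000)
 (.cons 20 (nat_lit 0x80d480000030000)
 (.cons 10 (nat_lit 0x242001ec0001000000)
 (.cons 5 (nat_lit 0x40180300e0000401000)
 (.cons 1 (nat_lit 0x40000000)
 (.cons 1 (nat_lit 0x50000000000280000000)
 (.cons 1 (nat_lit 0x20085000200100000000)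
 (.cons 1 (nat_lit 0x5004a000401280200000)
 (.cons 1 (nat_lit 0x485080210040000000)
 (.cons 5 (nat_lit 0x4018000060000400000)
 (.cons 10 (nat_lit 0x242000e40001000000)
 (.cons 20 (nat_lit 0x805480000030000)
 (.cons 40 (nat_lit 0x1494030000)
 .nil)))))))))))))
noncomputable def a202 : Net := (.cons 40 (nat_lit 0x614050000)
 (.cons 20 (nat_lit 0x204000000a0840)
 (.cons 10 (nat_lit 0x140001600003800000)
 (.cons 5 (nat_lit 0x6000000160300201000)
 (.cons 1 (nat_lit 0x40008000)
 (.cons 1 (nat_lit 0x50000000000280050000)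
 (.cons 1 (nat_lit 0x20000000800140020000)
 (.cons 1 (nat_lit 0x50000020400284050000)
 (.cons 1 (nat_lit 0x80812040108000)
 (.cons 5 (nat_lit 0x4000000020300200000)
 (.cons 10 (nat_lit 0x140001600001800000)
 (.cons 20 (nat_lit 0x204000000a0840)
 (.cons 40 (nat_lit 0x614050000)
 .nil)))))))))))))
noncomputable def a203 : Net := (.cons 40 (nat_lit 0x22a5fdb55c)
 (.cons 20 (nat_lit 0x2c80d00000c90a6)
 (.cons 10 (nat_lit 0x1e0001a00018c000ba)
 (.cons 5 (nat_lit 0x8170080e0341803804)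
 (.cons 1 (nat_lit 0x1000000040000000)
 (.cons 1 (nat_lit 0x14a000025094000802)
 (.cons 1 (nat_lit 0xa4000052908521404)
 (.cons 1 (nat_lit 0x214a0084a529425080a)
 (.cons 1 (nat_lit 0x20001080800840521004)
 (.cons 5 (nat_lit 0x1200810040180500c)
 (.cons 10 (nat_lit 0x1e00012000188003d4)
 (.cons 20 (nat_lit 0xc20c00000d852a)
 (.cons 40 (nat_lit 0x22a5fdb7c8)
 .nil)))))))))))))
noncomputable def a204 : Net := (.cons 40 (nat_lit 0x33818d1822)
 (.cons 20 (nat_lit 0x3220400000eaa16)
 (.cons 10 (nat_lit 0x2c80002000388000fe)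
 (.cons 5 (nat_lit 0x40040700603c1602400)
 (.cons 1 (nat_lit 0x2040400001)
 (.cons 1 (nat_lit 0x28401000a5080a5000a)
 (.cons 1 (nat_lit 0x10a0290052900528404)
 (.cons 1 (nat_lit 0x128485284a5284a5090a)
 (.cons 1 (nat_lit 0x10a0010002948108001)
 (.cons 5 (nat_lit 0x4004060040581000000)
 (.cons 10 (nat_lit 0x2c80002a001b0000de)
 (.cons 20 (nat_lit 0x32a040000062ab0)
 (.cons 40 (nat_lit 0x3381c91070)
 .nil)))))))))))))
noncomputable def a205 : Net := (.cons 40 (nat_lit 0x74e555e0d2)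
 (.cons 20 (nat_lit 0x164470000006664)
 (.cons 10 (nat_lit 0x3020025f003460021e)
 (.cons 5 (nat_lit 0x58080400c0681005815)
 (.cons 1 (nat_lit 0x1000200900000000)
 (.cons 1 (nat_lit 0xa50140528001000a)
 (.cons 1 (nat_lit 0x210a4290842142420025)
 (.cons 1 (nat_lit 0x1204a1214a5284850842)
 (.cons 1 (nat_lit 0x20424280040842029004)
 (.cons 5 (nat_lit 0x30020001a0401005814)
 (.cons 10 (nat_lit 0x240002a80034200298)
 (.cons 20 (nat_lit 0x12008000008f722)
 (.cons 40 (nat_lit 0x74e3cb40fc)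
 .nil)))))))))))))
noncomputable def a206 : Net := (.cons 40 (nat_lit 0x3d57d51f98)
 (.cons 20 (nat_lit 0x8c73600000fd53f)
 (.cons 10 (nat_lit 0x20c00019002990020c)
 (.cons 5 (nat_lit 0x700207c000501c0200e)
 (.cons 1 (nat_lit 0x80002800000000)
 (.cons 1 (nat_lit 0x40048500405004000000)
 (.cons 1 (nat_lit 0x20484204a4294a400000)
 (.cons 1 (nat_lit 0x1090a508485284240102)
 (.cons 1 (nat_lit 0x84a0210840002401025)
 (.cons 5 (nat_lit 0x20060600a068000000c)
 (.cons 10 (nat_lit 0x20c000940000e0000e)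
 (.cons 20 (nat_lit 0xa061c00000bfcde)
 (.cons 40 (nat_lit 0x3d5d217d4e)
 .nil)))))))))))))
noncomputable def a207 : Net := (.cons 40 (nat_lit 0x1684000000)
 (.cons 20 (nat_lit 0xd28400000001040)
 (.cons 10 (nat_lit 0x340000600000000020)
 (.cons 5 (nat_lit 0x4018000180100201014)
 (.cons 1 (nat_lit 0x8000)
 (.cons 1 (nat_lit 0x50000000000000050800)
 (.cons 1 (nat_lit 0x20004000800000021484)
 (.cons 1 (nat_lit 0x50008020400004050908)
 (.cons 1 (nat_lit 0x4080800000109484)
 (.cons 5 (nat_lit 0x4010000080000201000)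
 (.cons 10 (nat_lit 0x340000600000000020)
 (.cons 20 (nat_lit 0xd20400000001040)
 (.cons 40 (nat_lit 0x1684000000)
 .nil)))))))))))))
noncomputable def a208 : Net := (.cons 40 (nat_lit 0x429281c860)
 (.cons 20 (nat_lit 0xe818000009da84)
 (.cons 10 (nat_lit 0x28003430029200051)
 (.cons 5 (nat_lit 0x4008030060100401814)
 (.cons 1 (nat_lit 0x48008000)
 (.cons 1 (nat_lit 0x294050000)
 (.cons 1 (nat_lit 0x100401005214a020484)
 (.cons 1 (nat_lit 0x4084800802429485294a)
 (.cons 1 (nat_lit 0x1005014042848129005)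
 (.cons 5 (nat_lit 0x400000808010000180a)
 (.cons 10 (nat_lit 0x8000080029200088)
 (.cons 20 (nat_lit 0xe818000009da84)
 (.cons 40 (nat_lit 0x429281c840)
 .nil)))))))))))))
noncomputable def a209 : Net := (.cons 40 (nat_lit 0x8c82543f22)
 (.cons 20 (nat_lit 0xf29040000084b8c)
 (.cons 10 (nat_lit 0x39c00270002140039a)
 (.cons 5 (nat_lit 0x1018048020701a03002)
 (.cons 1 (nat_lit 0x5000200100000000)
 (.cons 1 (nat_lit 0xa501400280a50002)
 (.cons 1 (nat_lit 0x1025210a12140529005)
 (.cons 1 (nat_lit 0x94a5214a1284a52002)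
 (.cons 1 (nat_lit 0x29025014212100001485)
 (.cons 5 (nat_lit 0x1018048020601201002)
 (.cons 10 (nat_lit 0x39c00270002040039a)
 (.cons 20 (nat_lit 0xf29040000084a84)
 (.cons 40 (nat_lit 0x8c82543f02)
 .nil)))))))))))))
noncomputable def a210 : Net := (.cons 40 (nat_lit 0x1380840000)
 (.cons 20 (nat_lit 0xb4d0000000c0040)
 (.cons 10 (nat_lit 0x21a001400012000000)
 (.cons 5 (nat_lit 0x180101a0000a01000)
 (.cons 1 (nat_lit 0x8000)
 (.cons 1 (nat_lit 0x50000)
 (.cons 1 (nat_lit 0x5080840000020000)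
 (.cons 1 (nat_lit 0x1010a100420000050800)
 (.cons 1 (nat_lit 0x1405080840000108000)
 (.cons 5 (nat_lit 0x18010000000201000)
 (.cons 10 (nat_lit 0x21a001400010000000)
 (.cons 20 (nat_lit 0xb450000000c0040)
 (.cons 40 (nat_lit 0x1380840000)
 .nil)))))))))))))
noncomputable def a211 : Net := (.cons 40 (nat_lit 0x3ea016a164)
 (.cons 20 (nat_lit 0x7220000000b4180)
 (.cons 10 (nat_lit 0x3800019b0032c00268)
 (.cons 5 (nat_lit 0x600803014028120480e)
 (.cons 1 (nat_lit 0x4000040000020)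
 (.cons 1 (nat_lit 0x28025294a0280a00140)
 (.cons 1 (nat_lit 0x10052908409405210a5)
 (.cons 1 (nat_lit 0x428025294a1294a1214a)
 (.cons 1 (nat_lit 0x8080010010840021425)
 (.cons 5 (nat_lit 0x600807000008120480e)
 (.cons 10 (nat_lit 0x380003c00032c00260)
 (.cons 20 (nat_lit 0x7220000000b4180)
 (.cons 40 (nat_lit 0x3ea016a144)
 .nil)))))))))))))
noncomputable def a212 : Net := (.cons 40 (nat_lit 0x9e82c4a1e2)
 (.cons 20 (nat_lit 0x3338600000b0112)
 (.cons 10 (nat_lit 0x34400058002d1003da)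
 (.cons 5 (nat_lit 0x6004020100680806806)
 (.cons 1 (nat_lit 0x10000100000000)
 (.cons 1 (nat_lit 0x2802529400294000000)
 (.cons 1 (nat_lit 0x9085214812148101085)
 (.cons 1 (nat_lit 0x52902529424294212042)
 (.cons 1 (nat_lit 0x90a5010012008501485)
 (.cons 5 (nat_lit 0x6004020100680804802)
 (.cons 10 (nat_lit 0x3440005000194003ca)
 (.cons 20 (nat_lit 0x3338400000b0110)
 (.cons 40 (nat_lit 0x9e82e42140)
 .nil)))))))))))))
noncomputable def a213 : Net := (.cons 40 (nat_lit 0x254c8d5508)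
 (.cons 20 (nat_lit 0xecf5000000c27d0)
 (.cons 10 (nat_lit 0x2e9000f0000a30039a)
 (.cons 5 (nat_lit 0x1808018000580e0500a)
 (.cons 1 (nat_lit 0x100000004a000080)
 (.cons 1 (nat_lit 0x5000a0080a0294202940)
 (.cons 1 (nat_lit 0x2102509405014a4010a5)
 (.cons 1 (nat_lit 0x5284a108420294a5294a)
 (.cons 1 (nat_lit 0x20025094000102000025)
 (.cons 5 (nat_lit 0x100800800070040501e)
 (.cons 10 (nat_lit 0xea00030002c8003ba)
 (.cons 20 (nat_lit 0xe8f5a000004a7f8)
 (.cons 40 (nat_lit 0x254cf55258)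
 .nil)))))))))))))
noncomputable def a214 : Net := (.cons 40 (nat_lit 0x1684000000)
 (.cons 20 (nat_lit 0xd28400000001040)
 (.cons 10 (nat_lit 0x340000600000000020)
 (.cons 5 (nat_lit 0x4018000180100201014)
 (.cons 1 (nat_lit 0x8000)
 (.cons 1 (nat_lit 0x50000000000000050800)
 (.cons 1 (nat_lit 0x20004000800000021484)
 (.cons 1 (nat_lit 0x50008020400004050908)
 (.cons 1 (nat_lit 0x4080800000109484)
 (.cons 5 (nat_lit 0x4010000080000201000)
 (.cons 10 (nat_lit 0x340000600000000020)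
 (.cons 20 (nat_lit 0xd20400000001040)
 (.cons 40 (nat_lit 0x1684000000)
 .nil)))))))))))))
noncomputable def a215 : Net := (.cons 40 (nat_lit 0x404040000)
 (.cons 20 (nat_lit 0x5400000020020)
 (.cons 10 (nat_lit 0x42001000002800000)
 (.cons 5 (nat_lit 0x4008018080000401014)
 (.cons 1 (nat_lit 0x800008000)
 (.cons 1 (nat_lit 0x50000000005000050000)
 (.cons 1 (nat_lit 0x20005080042000021484)
 (.cons 1 (nat_lit 0x50002108025000250908)
 (.cons 1 (nat_lit 0x405080240900009484)
 (.cons 5 (nat_lit 0x4008018080000400000)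
 (.cons 10 (nat_lit 0x42001000000800020)
 (.cons 20 (nat_lit 0x54000000a8000)
 (.cons 40 (nat_lit 0x404040000)
 .nil)))))))))))))
noncomputable def a216 : Net := (.cons 40 (nat_lit 0x1380840000)
 (.cons 20 (nat_lit 0xb4d0000000c0040)
 (.cons 10 (nat_lit 0x21a001400012000000)
 (.cons 5 (nat_lit 0x180101a0000a01000)
 (.cons 1 (nat_lit 0x8000)
 (.cons 1 (nat_lit 0x50000)
 (.cons 1 (nat_lit 0x5080840000020000)
 (.cons 1 (nat_lit 0x1010a100420000050800)
 (.cons 1 (nat_lit 0x1405080840000108000)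
 (.cons 5 (nat_lit 0x18010000000201000)
 (.cons 10 (nat_lit 0x21a001400010000000)
 (.cons 20 (nat_lit 0xb450000000c0040)
 (.cons 40 (nat_lit 0x1380840000)
 .nil)))))))))))))
noncomputable def a217 : Net := (.cons 40 (nat_lit 0x614050000)
 (.cons 20 (nat_lit 0x204000000a0840)
 (.cons 10 (nat_lit 0x140001600003800000)
 (.cons 5 (nat_lit 0x6000000160300201000)
 (.cons 1 (nat_lit 0x40008000)
 (.cons 1 (nat_lit 0x50000000000280050000)
 (.cons 1 (nat_lit 0x20000000800140020000)
 (.cons 1 (nat_lit 0x50000020400284050000)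
 (.cons 1 (nat_lit 0x80812040108000)
 (.cons 5 (nat_lit 0x4000000020300200000)
 (.cons 10 (nat_lit 0x140001600001800000)
 (.cons 20 (nat_lit 0x204000000a0840)
 (.cons 40 (nat_lit 0x614050000)
 .nil)))))))))))))
noncomputable def a218 : Net := (.cons 40 (nat_lit 0x1000c21f20)
 (.cons 20 (nat_lit 0x3800800000ad280)
 (.cons 10 (nat_lit 0x1e00024a002ae00144)
 (.cons 5 (nat_lit 0x8038120100403c18)
 (.cons 1 (nat_lit 0x400)
 (.cons 1 (nat_lit 0x10000000000014040800)
 (.cons 1 (nat_lit 0x28000200002008029080)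
 (.cons 1 (nat_lit 0x10000520004094012900)
 (.cons 1 (nat_lit 0x280a1204002000128484)
 (.cons 5 (nat_lit 0x8038000100004018)
 (.cons 10 (nat_lit 0x1e00024a0028600144)
 (.cons 20 (nat_lit 0x3800800000ad280)
 (.cons 40 (nat_lit 0x1000c21f00)
 .nil)))))))))))))
noncomputable def a219 : Net := (.cons 40 (nat_lit 0x614840000)
 (.cons 20 (nat_lit 0x841200000040000)
 (.cons 10 (nat_lit 0x200001400012000000)
 (.cons 5 (nat_lit 0x180701c0001804014)
 (.cons 1 (nat_lit 0x500000000000000)
 (.cons 1 (nat_lit 0x5280040000400084)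
 (.cons 1 (nat_lit 0x200a500020000840108)
 (.cons 1 (nat_lit 0x25000040000400084)
 (.cons 5 (nat_lit 0x18050080001004000)
 (.cons 10 (nat_lit 0x200001400010000000)
 (.cons 20 (nat_lit 0x841200000040000)
 (.cons 40 (nat_lit 0x614840000)
 .nil))))))))))))
noncomputable def a220 : Net := (.cons 40 (nat_lit 0x210000000)
 (.cons 20 (nat_lit 0xc24000000068000)
 (.cons 10 (nat_lit 0x30a000000000800200)
 (.cons 5 (nat_lit 0x2018000140000405000)
 (.cons 1 (nat_lit 0x800000020)
 (.cons 1 (nat_lit 0x5000000140)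
 (.cons 1 (nat_lit 0x4000002008001480)
 (.cons 1 (nat_lit 0x8120005010240940)
 (.cons 1 (nat_lit 0x404000000908001420)
 (.cons 5 (nat_lit 0x10000000000404000)
 (.cons 10 (nat_lit 0x202000000000800200)
 (.cons 20 (nat_lit 0xc24000000068000)
 (.cons 40 (nat_lit 0x210000000)
 .nil)))))))))))))
noncomputable def a221 : Net := (.cons 40 (nat_lit 0x404870800)
 (.cons 20 (nat_lit 0x804400000040040)
 (.cons 10 (nat_lit 0x242001600013000200)
 (.cons 5 (nat_lit 0x4010010020001a04000)
 (.cons 1 (nat_lit 0x40000020)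
 (.cons 1 (nat_lit 0x50000000000280000140)
 (.cons 1 (nat_lit 0x20004000800100401480)
 (.cons 1 (nat_lit 0x50008008400280850940)
 (.cons 1 (nat_lit 0x404080810040501420)
 (.cons 5 (nat_lit 0x4010010020001204000)
 (.cons 10 (nat_lit 0x242001600011000200)
 (.cons 20 (nat_lit 0x804400000040040)
 (.cons 40 (nat_lit 0x404870800)
 .nil)))))))))))))
noncomputable def a222 : Net := (.cons 40 (nat_lit 0x1090040000)
 (.cons 20 (nat_lit 0x109000000041040)
 (.cons 10 (nat_lit 0x1400002000200)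
 (.cons 5 (nat_lit 0x80300e0101205000)
 (.cons 1 (nat_lit 0x20)
 (.cons 1 (nat_lit 0x940)
 (.cons 1 (nat_lit 0x5080840000401480)
 (.cons 1 (nat_lit 0x2100420004840940)
 (.cons 1 (nat_lit 0x5080840000501420)
 (.cons 5 (nat_lit 0x8010000001205000)
 (.cons 10 (nat_lit 0x1400000000200)
 (.cons 20 (nat_lit 0x101000000041040)
 (.cons 40 (nat_lit 0x1090040000)
 .nil)))))))))))))
noncomputable def a223 : Net := (.cons 40 (nat_lit 0x1494030000)
 (.cons 20 (nat_lit 0x80d480000030000)
 (.cons 10 (nat_lit 0x242001ec0001000000)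
 (.cons 5 (nat_lit 0x40180300e0000401000)
 (.cons 1 (nat_lit 0x40000000)
 (.cons 1 (nat_lit 0x50000000000280000000)
 (.cons 1 (nat_lit 0x20085000200100000000)
 (.cons 1 (nat_lit 0x5004a000401280200000)
 (.cons 1 (nat_lit 0x485080210040000000)
 (.cons 5 (nat_lit 0x4018000060000400000)
 (.cons 10 (nat_lit 0x242000e40001000000)
 (.cons 20 (nat_lit 0x805480000030000)
 (.cons 40 (nat_lit 0x1494030000)
 .nil)))))))))))))
noncomputable def a224 : Net := (.cons 40 (nat_lit 0x1684010000)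
 (.cons 20 (nat_lit 0x29480000048000)
 (.cons 10 (nat_lit 0x40000640001800200)
 (.cons 5 (nat_lit 0x4008000160001004000)
 (.cons 1 (nat_lit 0x840000020)
 (.cons 1 (nat_lit 0x50000000005280000140)
 (.cons 1 (nat_lit 0x20085000202100401480)
 (.cons 1 (nat_lit 0x50042020405280840940)
 (.cons 1 (nat_lit 0x85080210940401420)
 (.cons 5 (nat_lit 0x4008000060001004000)
 (.cons 10 (nat_lit 0x40000640001800200)
 (.cons 20 (nat_lit 0x21480000048000)
 (.cons 40 (nat_lit 0x1684010000)
 .nil)))))))))))))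
noncomputable def a225 : Net := (.cons 40 (nat_lit 0x3b0793433e)
 (.cons 20 (nat_lit 0x608dc000003e447)
 (.cons 10 (nat_lit 0x1ba0008e0039500123)
 (.cons 5 (nat_lit 0x680d0080d0601c03004)
 (.cons 1 (nat_lit 0x8000)
 (.cons 1 (nat_lit 0x40000001400000810000)
 (.cons 1 (nat_lit 0x20001014a52900521404)
 (.cons 1 (nat_lit 0x108420284a1210a4080a)
 (.cons 1 (nat_lit 0x20020004810100029004)
 (.cons 5 (nat_lit 0x7002000140681e03000)
 (.cons 10 (nat_lit 0x15e002920025600232)
 (.cons 20 (nat_lit 0x698e0000003e044)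
 (.cons 40 (nat_lit 0x3b07db418e)
 .nil)))))))))))))
noncomputable def a226 : Net := (.cons 40 (nat_lit 0xf77dee9c00)
 (.cons 20 (nat_lit 0x8288e0000001944)
 (.cons 10 (nat_lit 0x2c5000470006000040)
 (.cons 5 (nat_lit 0x280601c0f0000507809)
 (.cons 1 (nat_lit 0x5004000000000020)
 (.cons 1 (nat_lit 0xa00900000000014a)
 (.cons 1 (nat_lit 0x21405010a40000401485)
 (.cons 1 (nat_lit 0x1080a12042008024294a)
 (.cons 1 (nat_lit 0x21484290a00808409481)
 (.cons 5 (nat_lit 0x80a00012000040781a)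
 (.cons 10 (nat_lit 0x1a0037a0004000040)
 (.cons 20 (nat_lit 0xd1d4c0000001944)
 (.cons 40 (nat_lit 0xf77daf9c20)
 .nil)))))))))))))
noncomputable def a227 : Net := (.cons 40 (nat_lit 0x1090040000)
 (.cons 20 (nat_lit 0x109000000041040)
 (.cons 10 (nat_lit 0x1400002000200)
 (.cons 5 (nat_lit 0x80300e0101205000)
 (.cons 1 (nat_lit 0x20)
 (.cons 1 (nat_lit 0x940)
 (.cons 1 (nat_lit 0x5080840000401480)
 (.cons 1 (nat_lit 0x2100420004840940)
 (.cons 1 (nat_lit 0x5080840000501420)
 (.cons 5 (nat_lit 0x8010000001205000)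
 (.cons 10 (nat_lit 0x1400000000200)
 (.cons 20 (nat_lit 0x101000000041040)
 (.cons 40 (nat_lit 0x1090040000)
 .nil)))))))))))))
noncomputable def a228 : Net := (.cons 40 (nat_lit 0x1280070000)
 (.cons 20 (nat_lit 0x4c080000070000)
 (.cons 10 (nat_lit 0x42001400003000000)
 (.cons 5 (nat_lit 0x8000120000405014)
 (.cons 1 (nat_lit 0x40000000)
 (.cons 1 (nat_lit 0x280000000)
 (.cons 1 (nat_lit 0x80000800108000084)
 (.cons 1 (nat_lit 0x2040000401290240108)
 (.cons 1 (nat_lit 0x480000810048000084)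
 (.cons 5 (nat_lit 0x8000020000404000)
 (.cons 10 (nat_lit 0x42001400001000000)
 (.cons 20 (nat_lit 0x44080000070000)
 (.cons 40 (nat_lit 0x1280070000)
 .nil)))))))))))))
noncomputable def a229 : Net := (.cons 40 (nat_lit 0x1714870800)
 (.cons 20 (nat_lit 0x8d5280000070860)
 (.cons 10 (nat_lit 0x21a0014e0013000000)
 (.cons 5 (nat_lit 0x3018050160001a01416)
 (.cons 1 (nat_lit 0x840000400)
 (.cons 1 (nat_lit 0x10000500005280040800)
 (.cons 1 (nat_lit 0x28005200802900429085)
 (.cons 1 (nat_lit 0x1010a50840528481294a)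
 (.cons 1 (nat_lit 0x425010010840528485)
 (.cons 5 (nat_lit 0x30180600a0001206002)
 (.cons 10 (nat_lit 0x21a000c00011000020)
 (.cons 20 (nat_lit 0x8d52800000f8040)
 (.cons 40 (nat_lit 0x1714870800)
 .nil)))))))))))))
noncomputable def a230 : Net := (.cons 40 (nat_lit 0x404870800)
 (.cons 20 (nat_lit 0x804400000040040)
 (.cons 10 (nat_lit 0x242001600013000200)
 (.cons 5 (nat_lit 0x4010010020001a04000)
 (.cons 1 (nat_lit 0x40000020)
 (.cons 1 (nat_lit 0x50000000000280000140)
 (.cons 1 (nat_lit 0x20004000800100401480)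
 (.cons 1 (nat_lit 0x50008008400280850940)
 (.cons 1 (nat_lit 0x404080810040501420)
 (.cons 5 (nat_lit 0x4010010020001204000)
 (.cons 10 (nat_lit 0x242001600011000200)
 (.cons 20 (nat_lit 0x804400000040040)
 (.cons 40 (nat_lit 0x404870800)
 .nil)))))))))))))
noncomputable def a231 : Net := (.cons 40 (nat_lit 0x1090040000)
 (.cons 20 (nat_lit 0x109000000041040)
 (.cons 10 (nat_lit 0x1400002000200)
 (.cons 5 (nat_lit 0x80300e0101205000)
 (.cons 1 (nat_lit 0x20)
 (.cons 1 (nat_lit 0x940)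
 (.cons 1 (nat_lit 0x5080840000401480)
 (.cons 1 (nat_lit 0x2100420004840940)
 (.cons 1 (nat_lit 0x5080840000501420)
 (.cons 5 (nat_lit 0x8010000001205000)
 (.cons 10 (nat_lit 0x1400000000200)
 (.cons 20 (nat_lit 0x101000000041040)
 (.cons 40 (nat_lit 0x1090040000)
 .nil)))))))))))))
noncomputable def a232 : Net := (.cons 40 (nat_lit 0x210000000)
 (.cons 20 (nat_lit 0xc24000000068000)
 (.cons 10 (nat_lit 0x30a000000000800200)
 (.cons 5 (nat_lit 0x2018000140000405000)
 (.cons 1 (nat_lit 0x800000020)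
 (.cons 1 (nat_lit 0x5000000140)
 (.cons 1 (nat_lit 0x4000002008001480)
 (.cons 1 (nat_lit 0x8120005010240940)
 (.cons 1 (nat_lit 0x404000000908001420)
 (.cons 5 (nat_lit 0x10000000000404000)
 (.cons 10 (nat_lit 0x202000000000800200)
 (.cons 20 (nat_lit 0xc24000000068000)
 (.cons 40 (nat_lit 0x210000000)
 .nil)))))))))))))
noncomputable def a233 : Net := (.cons 40 (nat_lit 0x614050000)
 (.cons 20 (nat_lit 0x204000000a0840)
 (.cons 10 (nat_lit 0x140001600003800000)
 (.cons 5 (nat_lit 0x6000000160300201000)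
 (.cons 1 (nat_lit 0x40008000)
 (.cons 1 (nat_lit 0x50000000000280050000)
 (.cons 1 (nat_lit 0x20000000800140020000)
 (.cons 1 (nat_lit 0x50000020400284050000)
 (.cons 1 (nat_lit 0x80812040108000)
 (.cons 5 (nat_lit 0x4000000020300200000)
 (.cons 10 (nat_lit 0x140001600001800000)
 (.cons 20 (nat_lit 0x204000000a0840)
 (.cons 40 (nat_lit 0x614050000)
 .nil)))))))))))))
noncomputable def a234 : Net := (.cons 40 (nat_lit 0x1380840000)
 (.cons 20 (nat_lit 0xb4d0000000c0040)
 (.cons 10 (nat_lit 0x21a001400012000000)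
 (.cons 5 (nat_lit 0x180101a0000a01000)
 (.cons 1 (nat_lit 0x8000)
 (.cons 1 (nat_lit 0x50000)
 (.cons 1 (nat_lit 0x5080840000020000)
 (.cons 1 (nat_lit 0x1010a100420000050800)
 (.cons 1 (nat_lit 0x1405080840000108000)
 (.cons 5 (nat_lit 0x18010000000201000)
 (.cons 10 (nat_lit 0x21a001400010000000)
 (.cons 20 (nat_lit 0xb450000000c0040)
 (.cons 40 (nat_lit 0x1380840000)
 .nil)))))))))))))
noncomputable def a235 : Net := (.cons 40 (nat_lit 0x1494030000)
 (.cons 20 (nat_lit 0x80d480000030000)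
 (.cons 10 (nat_lit 0x242001ec0001000000)
 (.cons 5 (nat_lit 0x40180300e0000401000)
 (.cons 1 (nat_lit 0x40000000)
 (.cons 1 (nat_lit 0x50000000000280000000)
 (.cons 1 (nat_lit 0x20085000200100000000)
 (.cons 1 (nat_lit 0x5004a000401280200000)
 (.cons 1 (nat_lit 0x485080210040000000)
 (.cons 5 (nat_lit 0x4018000060000400000)
 (.cons 10 (nat_lit 0x242000e40001000000)
 (.cons 20 (nat_lit 0x805480000030000)
 (.cons 40 (nat_lit 0x1494030000)
 .nil)))))))))))))
noncomputable def a236 : Net := (.cons 40 (nat_lit 0x102e757a0)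
 (.cons 20 (nat_lit 0x40daa00000a0c92)
 (.cons 10 (nat_lit 0xb001c000329001ba)
 (.cons 5 (nat_lit 0x10000000a004000301e)
 (.cons 1 (nat_lit 0x2009400)
 (.cons 1 (nat_lit 0x100400214052800)
 (.cons 1 (nat_lit 0x1000280800148429404)
 (.cons 1 (nat_lit 0x840101401094852908)
 (.cons 1 (nat_lit 0x21001080810940409404)
 (.cons 5 (nat_lit 0x10020201e0280403010)
 (.cons 10 (nat_lit 0x800364003000019a)
 (.cons 20 (nat_lit 0x40d60000002e436)
 (.cons 40 (nat_lit 0x110f5f914)
 .nil)))))))))))))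
noncomputable def a237 : Net := (.cons 40 (nat_lit 0x7138fee22c)
 (.cons 20 (nat_lit 0x1dd6e00000807b8)
 (.cons 10 (nat_lit 0xc3001a400049003d0)
 (.cons 5 (nat_lit 0x581c03010008140080c)
 (.cons 1 (nat_lit 0x200000000100020)
 (.cons 1 (nat_lit 0x500020080210140)
 (.cons 1 (nat_lit 0x5280040108428080)
 (.cons 1 (nat_lit 0x5000a1004a0290810148)
 (.cons 1 (nat_lit 0x424280040008408020)
 (.cons 5 (nat_lit 0x5018000080400002008)
 (.cons 10 (nat_lit 0xa000364000500037c)
 (.cons 20 (nat_lit 0x1cf88000008af70)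
 (.cons 40 (nat_lit 0x7126d65698)
 .nil)))))))))))))
noncomputable def a238 : Net := (.cons 40 (nat_lit 0x614050000)
 (.cons 20 (nat_lit 0x204000000a0840)
 (.cons 10 (nat_lit 0x140001600003800000)
 (.cons 5 (nat_lit 0x6000000160300201000)
 (.cons 1 (nat_lit 0x40008000)
 (.cons 1 (nat_lit 0x50000000000280050000)
 (.cons 1 (nat_lit 0x20000000800140020000)
 (.cons 1 (nat_lit 0x50000020400284050000)
 (.cons 1 (nat_lit 0x80812040108000)
 (.cons 5 (nat_lit 0x4000000020300200000)
 (.cons 10 (nat_lit 0x140001600001800000)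
 (.cons 20 (nat_lit 0x204000000a0840)
 (.cons 40 (nat_lit 0x614050000)
 .nil)))))))))))))
noncomputable def a239 : Net := (.cons 40 (nat_lit 0x404870800)
 (.cons 20 (nat_lit 0x804400000040040)
 (.cons 10 (nat_lit 0x242001600013000200)
 (.cons 5 (nat_lit 0x4010010020001a04000)
 (.cons 1 (nat_lit 0x40000020)
 (.cons 1 (nat_lit 0x50000000000280000140)
 (.cons 1 (nat_lit 0x20004000800100401480)
 (.cons 1 (nat_lit 0x50008008400280850940)
 (.cons 1 (nat_lit 0x404080810040501420)
 (.cons 5 (nat_lit 0x4010010020001204000)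
 (.cons 10 (nat_lit 0x242001600011000200)
 (.cons 20 (nat_lit 0x804400000040040)
 (.cons 40 (nat_lit 0x404870800)
 .nil)))))))))))))
noncomputable def a240 : Net := (.cons 40 (nat_lit 0x1684010000)
 (.cons 20 (nat_lit 0x29480000048000)
 (.cons 10 (nat_lit 0x40000640001800200)
 (.cons 5 (nat_lit 0x4008000160001004000)
 (.cons 1 (nat_lit 0x840000020)
 (.cons 1 (nat_lit 0x50000000005280000140)
 (.cons 1 (nat_lit 0x20085000202100401480)
 (.cons 1 (nat_lit 0x50042020405280840940)
 (.cons 1 (nat_lit 0x85080210940401420)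
 (.cons 5 (nat_lit 0x4008000060001004000)
 (.cons 10 (nat_lit 0x40000640001800200)
 (.cons 20 (nat_lit 0x21480000048000)
 (.cons 40 (nat_lit 0x1684010000)
 .nil)))))))))))))
noncomputable def a241 : Net := (.cons 40 (nat_lit 0x1494030000)
 (.cons 20 (nat_lit 0x80d480000030000)
 (.cons 10 (nat_lit 0x242001ec0001000000)
 (.cons 5 (nat_lit 0x40180300e0000401000)
 (.cons 1 (nat_lit 0x40000000)
 (.cons 1 (nat_lit 0x50000000000280000000)
 (.cons 1 (nat_lit 0x20085000200100000000)
 (.cons 1 (nat_lit 0x5004a000401280200000)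
 (.cons 1 (nat_lit 0x485080210040000000)
 (.cons 5 (nat_lit 0x4018000060000400000)
 (.cons 10 (nat_lit 0x242000e40001000000)
 (.cons 20 (nat_lit 0x805480000030000)
 (.cons 40 (nat_lit 0x1494030000)
 .nil)))))))))))))
noncomputable def a242 : Net := (.cons 40 (nat_lit 0x210030800)
 (.cons 20 (nat_lit 0x45000000000040)
 (.cons 10 (nat_lit 0x2001400001000020)
 (.cons 5 (nat_lit 0x8030160000200014)
 (.cons 1 (nat_lit 0x40008000)
 (.cons 1 (nat_lit 0x280050000)
 (.cons 1 (nat_lit 0x5080000100029484)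
 (.cons 1 (nat_lit 0x2002108000280050908)
 (.cons 1 (nat_lit 0x405080010040109484)
 (.cons 5 (nat_lit 0x8010020000200000)
 (.cons 10 (nat_lit 0x2001400001000020)
 (.cons 20 (nat_lit 0x45000000000040)
 (.cons 40 (nat_lit 0x210030800)
 .nil)))))))))))))
noncomputable def a243 : Net := (.cons 40 (nat_lit 0x210000000)
 (.cons 20 (nat_lit 0xc24000000068000)
 (.cons 10 (nat_lit 0x30a000000000800200)
 (.cons 5 (nat_lit 0x2018000140000405000)
 (.cons 1 (nat_lit 0x800000020)
 (.cons 1 (nat_lit 0x5000000140)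
 (.cons 1 (nat_lit 0x4000002008001480)
 (.cons 1 (nat_lit 0x8120005010240940)
 (.cons 1 (nat_lit 0x404000000908001420)
 (.cons 5 (nat_lit 0x10000000000404000)
 (.cons 10 (nat_lit 0x202000000000800200)
 (.cons 20 (nat_lit 0xc24000000068000)
 (.cons 40 (nat_lit 0x210000000)
 .nil)))))))))))))
noncomputable def a244 : Net := (.cons 40 (nat_lit 0x614840000)
 (.cons 20 (nat_lit 0x841200000040000)
 (.cons 10 (nat_lit 0x200001400012000000)
 (.cons 5 (nat_lit 0x180701c0001804014)
 (.cons 1 (nat_lit 0x500000000000000)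
 (.cons 1 (nat_lit 0x5280040000400084)
 (.cons 1 (nat_lit 0x200a500020000840108)
 (.cons 1 (nat_lit 0x25000040000400084)
 (.cons 5 (nat_lit 0x18050080001004000)
 (.cons 10 (nat_lit 0x200001400010000000)
 (.cons 20 (nat_lit 0x841200000040000)
 (.cons 40 (nat_lit 0x614840000)
 .nil))))))))))))
noncomputable def a245 : Net := (.cons 40 (nat_lit 0x1494030000)
 (.cons 20 (nat_lit 0x80d480000030000)
 (.cons 10 (nat_lit 0x242001ec0001000000)
 (.cons 5 (nat_lit 0x40180300e0000401000)
 (.cons 1 (nat_lit 0x40000000)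
 (.cons 1 (nat_lit 0x50000000000280000000)
 (.cons 1 (nat_lit 0x20085000200100000000)
 (.cons 1 (nat_lit 0x5004a000401280200000)
 (.cons 1 (nat_lit 0x485080210040000000)
 (.cons 5 (nat_lit 0x4018000060000400000)
 (.cons 10 (nat_lit 0x242000e40001000000)
 (.cons 20 (nat_lit 0x805480000030000)
 (.cons 40 (nat_lit 0x1494030000)
 .nil)))))))))))))
noncomputable def a246 : Net := (.cons 40 (nat_lit 0x414010000)
 (.cons 20 (nat_lit 0x20400000060000)
 (.cons 10 (nat_lit 0x140000600001000020)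
 (.cons 5 (nat_lit 0x6000000060000401416)
 (.cons 1 (nat_lit 0x40000400)
 (.cons 1 (nat_lit 0x50000000000280040800)
 (.cons 1 (nat_lit 0x20000000000108029085)
 (.cons 1 (nat_lit 0x5000000000029021294a)
 (.cons 1 (nat_lit 0x80010048028485)
 (.cons 5 (nat_lit 0x4000000020000406002)
 (.cons 10 (nat_lit 0x140000600001000020)
 (.cons 20 (nat_lit 0x20400000060000)
 (.cons 40 (nat_lit 0x414010000)
 .nil)))))))))))))
noncomputable def a247 : Net := (.cons 40 (nat_lit 0x1584840000)
 (.cons 20 (nat_lit 0x9084000000e0000)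
 (.cons 10 (nat_lit 0x248001600012000000)
 (.cons 5 (nat_lit 0x40100000a0000c03002)
 (.cons 1 (nat_lit 0x8000)
 (.cons 1 (nat_lit 0x50000000000000050000)
 (.cons 1 (nat_lit 0x20004000840008020085)
 (.cons 1 (nat_lit 0x50008000420010252042)
 (.cons 1 (nat_lit 0x1004080840008008085)
 (.cons 5 (nat_lit 0x4010000000000402002)
 (.cons 10 (nat_lit 0x248001600010000000)
 (.cons 20 (nat_lit 0x9004000000e0000)
 (.cons 40 (nat_lit 0x1584840000)
 .nil)))))))))))))
noncomputable def a248 : Net := (.cons 40 (nat_lit 0x1484050000)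
 (.cons 20 (nat_lit 0x9480000000040)
 (.cons 10 (nat_lit 0x40001640003000000)
 (.cons 5 (nat_lit 0x4008000060000201016)
 (.cons 1 (nat_lit 0x40000000)
 (.cons 1 (nat_lit 0x50000000400280000000)
 (.cons 1 (nat_lit 0x20085000a00100000085)
 (.cons 1 (nat_lit 0x5004200040028000094a)
 (.cons 1 (nat_lit 0x85080010040100085)
 (.cons 5 (nat_lit 0x4008000060000201002)
 (.cons 10 (nat_lit 0x40001640001000000)
 (.cons 20 (nat_lit 0x1480000000040)
 (.cons 40 (nat_lit 0x1484050000)
 .nil)))))))))))))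
noncomputable def a249 : Net := (.cons 40 (nat_lit 0x1000030800)
 (.cons 20 (nat_lit 0x4080000038840)
 (.cons 10 (nat_lit 0x42000400001800200)
 (.cons 5 (nat_lit 0x8010020000201002)
 (.cons 1 (nat_lit 0x8400000a0)
 (.cons 1 (nat_lit 0x5280000140)
 (.cons 1 (nat_lit 0x800000029000014a5)
 (.cons 1 (nat_lit 0x40008005284000942)
 (.cons 1 (nat_lit 0x4800000109401014a5)
 (.cons 5 (nat_lit 0x8010020000200002)
 (.cons 10 (nat_lit 0x42000400001800200)
 (.cons 20 (nat_lit 0x4080000038040)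
 (.cons 40 (nat_lit 0x1000030800)
 .nil)))))))))))))
noncomputable def a250 : Net := (.cons 40 (nat_lit 0x200040000)
 (.cons 20 (nat_lit 0x40000000040060)
 (.cons 10 (nat_lit 0x1000002800000)
 (.cons 5 (nat_lit 0x180001201416)
 (.cons 1 (nat_lit 0x800000400)
 (.cons 1 (nat_lit 0x5000040800)
 (.cons 1 (nat_lit 0x42000429485)
 (.cons 1 (nat_lit 0x200000002500081294a)
 (.cons 1 (nat_lit 0x40900528485)
 (.cons 5 (nat_lit 0x80001207002)
 (.cons 10 (nat_lit 0x1000000800020)
 (.cons 20 (nat_lit 0x400000000c8040)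
 (.cons 40 (nat_lit 0x200040000)
 .nil)))))))))))))
noncomputable def a251 : Net := (.cons 40 (nat_lit 0x210000000)
 (.cons 20 (nat_lit 0xc24000000068000)
 (.cons 10 (nat_lit 0x30a000000000800200)
 (.cons 5 (nat_lit 0x2018000140000405000)
 (.cons 1 (nat_lit 0x800000020)
 (.cons 1 (nat_lit 0x5000000140)
 (.cons 1 (nat_lit 0x4000002008001480)
 (.cons 1 (nat_lit 0x8120005010240940)
 (.cons 1 (nat_lit 0x404000000908001420)
 (.cons 5 (nat_lit 0x10000000000404000)
 (.cons 10 (nat_lit 0x202000000000800200)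
 (.cons 20 (nat_lit 0xc24000000068000)
 (.cons 40 (nat_lit 0x210000000)
 .nil)))))))))))))
noncomputable def a252 : Net := (.cons 40 (nat_lit 0x1494030000)
 (.cons 20 (nat_lit 0x80d480000030000)
 (.cons 10 (nat_lit 0x242001ec0001000000)
 (.cons 5 (nat_lit 0x40180300e0000401000)
 (.cons 1 (nat_lit 0x40000000)
 (.cons 1 (nat_lit 0x50000000000280000000)
 (.cons 1 (nat_lit 0x20085000200100000000)
 (.cons 1 (nat_lit 0x5004a000401280200000)
 (.cons 1 (nat_lit 0x485080210040000000)
 (.cons 5 (nat_lit 0x4018000060000400000)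
 (.cons 10 (nat_lit 0x242000e40001000000)
 (.cons 20 (nat_lit 0x805480000030000)
 (.cons 40 (nat_lit 0x1494030000)
 .nil)))))))))))))
noncomputable def a253 : Net := (.cons 40 (nat_lit 0x614050000)
 (.cons 20 (nat_lit 0x204000000a0840)
 (.cons 10 (nat_lit 0x140001600003800000)
 (.cons 5 (nat_lit 0x6000000160300201000)
 (.cons 1 (nat_lit 0x40008000)
 (.cons 1 (nat_lit 0x50000000000280050000)
 (.cons 1 (nat_lit 0x20000000800140020000)
 (.cons 1 (nat_lit 0x50000020400284050000)
 (.cons 1 (nat_lit 0x80812040108000)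
 (.cons 5 (nat_lit 0x4000000020300200000)
 (.cons 10 (nat_lit 0x140001600001800000)
 (.cons 20 (nat_lit 0x204000000a0840)
 (.cons 40 (nat_lit 0x614050000)
 .nil)))))))))))))
noncomputable def a254 : Net := (.cons 40 (nat_lit 0x9a082a314)
 (.cons 20 (nat_lit 0x41a0a000009e119)
 (.cons 10 (nat_lit 0x1240000000168002c0)
 (.cons 5 (nat_lit 0xd040100000c00008)
 (.cons 1 (nat_lit 0x50040000001)
 (.cons 1 (nat_lit 0x280a0280850002)
 (.cons 1 (nat_lit 0x28001214050100521085)
 (.cons 1 (nat_lit 0x108424280a028425094a)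
 (.cons 1 (nat_lit 0x28020280850040501081)
 (.cons 5 (nat_lit 0x2040100000c00008)
 (.cons 10 (nat_lit 0x1240000000040003c0)
 (.cons 20 (nat_lit 0x41a0a00000de008)
 (.cons 40 (nat_lit 0x9a082a314)
 .nil)))))))))))))
noncomputable def a255 : Net := (.cons 40 (nat_lit 0x990160e3c0)
 (.cons 20 (nat_lit 0x6512e0000068700)
 (.cons 10 (nat_lit 0x10000000012400209)
 (.cons 5 (nat_lit 0x5008040100201002004)
 (.cons 1 (nat_lit 0x800000501000)
 (.cons 1 (nat_lit 0x10000029400000a52802)
 (.cons 1 (nat_lit 0x29000014a10000521405)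
 (.cons 1 (nat_lit 0x12040029420080a52802)
 (.cons 1 (nat_lit 0x1005080812000501005)
 (.cons 5 (nat_lit 0x500804010020100000c)
 (.cons 10 (nat_lit 0x400300)
 (.cons 20 (nat_lit 0x651260000068700)
 (.cons 40 (nat_lit 0x990160e3c0)
 .nil)))))))))))))
noncomputable def a256 : Net := (.cons 40 (nat_lit 0x1380840000)
 (.cons 20 (nat_lit 0xb4d0000000c0040)
 (.cons 10 (nat_lit 0x21a001400012000000)
 (.cons 5 (nat_lit 0x180101a0000a01000)
 (.cons 1 (nat_lit 0x8000)
 (.cons 1 (nat_lit 0x50000)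
 (.cons 1 (nat_lit 0x5080840000020000)
 (.cons 1 (nat_lit 0x1010a100420000050800)
 (.cons 1 (nat_lit 0x1405080840000108000)
 (.cons 5 (nat_lit 0x18010000000201000)
 (.cons 10 (nat_lit 0x21a001400010000000)
 (.cons 20 (nat_lit 0xb450000000c0040)
 (.cons 40 (nat_lit 0x1380840000)
 .nil)))))))))))))
noncomputable def a257 : Net := (.cons 40 (nat_lit 0x1290010000)
 (.cons 20 (nat_lit 0x828080000040040)
 (.cons 10 (nat_lit 0x340001400001000000)
 (.cons 5 (nat_lit 0x20180001e0001205002)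
 (.cons 1 (nat_lit 0x40000000)
 (.cons 1 (nat_lit 0x280000000)
 (.cons 1 (nat_lit 0x84000000100400085)
 (.cons 1 (nat_lit 0x48020000280840842)
 (.cons 1 (nat_lit 0x84000010040500085)
 (.cons 5 (nat_lit 0x18000020001205002)
 (.cons 10 (nat_lit 0x340001400001000000)
 (.cons 20 (nat_lit 0x820080000040040)
 (.cons 40 (nat_lit 0x1290010000)
 .nil)))))))))))))
noncomputable def a258 : Net := (.cons 40 (nat_lit 0x1714870800)
 (.cons 20 (nat_lit 0x8d5280000070860)
 (.cons 10 (nat_lit 0x21a0014e0013000000)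
 (.cons 5 (nat_lit 0x3018050160001a01416)
 (.cons 1 (nat_lit 0x840000400)
 (.cons 1 (nat_lit 0x10000500005280040800)
 (.cons 1 (nat_lit 0x28005200802900429085)
 (.cons 1 (nat_lit 0x1010a50840528481294a)
 (.cons 1 (nat_lit 0x425010010840528485)
 (.cons 5 (nat_lit 0x30180600a0001206002)
 (.cons 10 (nat_lit 0x21a000c00011000020)
 (.cons 20 (nat_lit 0x8d52800000f8040)
 (.cons 40 (nat_lit 0x1714870800)
 .nil)))))))))))))
noncomputable def a259 : Net := (.cons 40 (nat_lit 0x12a21eb104)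
 (.cons 20 (nat_lit 0x3224200000f4dd0)
 (.cons 10 (nat_lit 0x2c00007c0020400089)
 (.cons 5 (nat_lit 0x6008020100080403008)
 (.cons 1 (nat_lit 0x90010040400001)
 (.cons 1 (nat_lit 0x28005294a1294a02002)
 (.cons 1 (nat_lit 0x21001214842948521485)
 (.cons 1 (nat_lit 0x128025294a1294a4090a)
 (.cons 1 (nat_lit 0x200a10908100484214a1)
 (.cons 5 (nat_lit 0x6008020100080403008)
 (.cons 10 (nat_lit 0x2c0000700020400190)
 (.cons 20 (nat_lit 0x3224000000f0950)
 (.cons 40 (nat_lit 0x12a21e3104)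
 .nil)))))))))))))
noncomputable def a260 : Net := (.cons 40 (nat_lit 0x1684000000)
 (.cons 20 (nat_lit 0xd28400000001040)
 (.cons 10 (nat_lit 0x340000600000000020)
 (.cons 5 (nat_lit 0x4018000180100201014)
 (.cons 1 (nat_lit 0x8000)
 (.cons 1 (nat_lit 0x50000000000000050800)
 (.cons 1 (nat_lit 0x20004000800000021484)
 (.cons 1 (nat_lit 0x50008020400004050908)
 (.cons 1 (nat_lit 0x4080800000109484)
 (.cons 5 (nat_lit 0x4010000080000201000)
 (.cons 10 (nat_lit 0x340000600000000020)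
 (.cons 20 (nat_lit 0xd20400000001040)
 (.cons 40 (nat_lit 0x1684000000)
 .nil)))))))))))))
noncomputable def a261 : Net := (.cons 40 (nat_lit 0x404040000)
 (.cons 20 (nat_lit 0x5400000020020)
 (.cons 10 (nat_lit 0x42001000002800000)
 (.cons 5 (nat_lit 0x4008018080000401014)
 (.cons 1 (nat_lit 0x800008000)
 (.cons 1 (nat_lit 0x50000000005000050000)
 (.cons 1 (nat_lit 0x20005080042000021484)
 (.cons 1 (nat_lit 0x50002108025000250908)
 (.cons 1 (nat_lit 0x405080240900009484)
 (.cons 5 (nat_lit 0x4008018080000400000)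
 (.cons 10 (nat_lit 0x42001000000800020)
 (.cons 20 (nat_lit 0x54000000a8000)
 (.cons 40 (nat_lit 0x404040000)
 .nil)))))))))))))
noncomputable def a262 : Net := (.cons 40 (nat_lit 0x1380840000)
 (.cons 20 (nat_lit 0xb4d0000000c0040)
 (.cons 10 (nat_lit 0x21a001400012000000)
 (.cons 5 (nat_lit 0x180101a0000a01000)
 (.cons 1 (nat_lit 0x8000)
 (.cons 1 (nat_lit 0x50000)
 (.cons 1 (nat_lit 0x5080840000020000)
 (.cons 1 (nat_lit 0x1010a100420000050800)
 (.cons 1 (nat_lit 0x1405080840000108000)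
 (.cons 5 (nat_lit 0x18010000000201000)
 (.cons 10 (nat_lit 0x21a001400010000000)
 (.cons 20 (nat_lit 0xb450000000c0040)
 (.cons 40 (nat_lit 0x1380840000)
 .nil)))))))))))))
noncomputable def a263 : Net := (.cons 40 (nat_lit 0x10070000)
 (.cons 20 (nat_lit 0x50000000c0000)
 (.cons 10 (nat_lit 0x2001400003800000)
 (.cons 5 (nat_lit 0x8030060001002002)
 (.cons 1 (nat_lit 0x40008000)
 (.cons 1 (nat_lit 0x280050000)
 (.cons 1 (nat_lit 0x5080800100428085)
 (.cons 1 (nat_lit 0x2100400280852042)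
 (.cons 1 (nat_lit 0x405080810140408085)
 (.cons 5 (nat_lit 0x8010020001002002)
 (.cons 10 (nat_lit 0x2001400001800000)
 (.cons 20 (nat_lit 0x50000000c0000)
 (.cons 40 (nat_lit 0x10070000)
 .nil)))))))))))))
noncomputable def a264 : Net := (.cons 40 (nat_lit 0x404040000)
 (.cons 20 (nat_lit 0x5400000020020)
 (.cons 10 (nat_lit 0x42001000002800000)
 (.cons 5 (nat_lit 0x4008018080000401014)
 (.cons 1 (nat_lit 0x800008000)
 (.cons 1 (nat_lit 0x50000000005000050000)
 (.cons 1 (nat_lit 0x20005080042000021484)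
 (.cons 1 (nat_lit 0x50002108025000250908)
 (.cons 1 (nat_lit 0x405080240900009484)
 (.cons 5 (nat_lit 0x4008018080000400000)
 (.cons 10 (nat_lit 0x42001000000800020)
 (.cons 20 (nat_lit 0x54000000a8000)
 (.cons 40 (nat_lit 0x404040000)
 .nil)))))))))))))
noncomputable def a265 : Net := (.cons 40 (nat_lit 0x1380840000)
 (.cons 20 (nat_lit 0xb4d0000000c0040)
 (.cons 10 (nat_lit 0x21a001400012000000)
 (.cons 5 (nat_lit 0x180101a0000a01000)
 (.cons 1 (nat_lit 0x8000)
 (.cons 1 (nat_lit 0x50000)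
 (.cons 1 (nat_lit 0x5080840000020000)
 (.cons 1 (nat_lit 0x1010a100420000050800)
 (.cons 1 (nat_lit 0x1405080840000108000)
 (.cons 5 (nat_lit 0x18010000000201000)
 (.cons 10 (nat_lit 0x21a001400010000000)
 (.cons 20 (nat_lit 0xb450000000c0040)
 (.cons 40 (nat_lit 0x1380840000)
 .nil)))))))))))))
noncomputable def a266 : Net := (.cons 40 (nat_lit 0x1684010000)
 (.cons 20 (nat_lit 0x29480000048000)
 (.cons 10 (nat_lit 0x40000640001800200)
 (.cons 5 (nat_lit 0x4008000160001004000)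
 (.cons 1 (nat_lit 0x840000020)
 (.cons 1 (nat_lit 0x50000000005280000140)
 (.cons 1 (nat_lit 0x20085000202100401480)
 (.cons 1 (nat_lit 0x50042020405280840940)
 (.cons 1 (nat_lit 0x85080210940401420)
 (.cons 5 (nat_lit 0x4008000060001004000)
 (.cons 10 (nat_lit 0x40000640001800200)
 (.cons 20 (nat_lit 0x21480000048000)
 (.cons 40 (nat_lit 0x1684010000)
 .nil)))))))))))))
noncomputable def a267 : Net := (.cons 40 (nat_lit 0x1290010000)
 (.cons 20 (nat_lit 0x828080000040040)
 (.cons 10 (nat_lit 0x340001400001000000)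
 (.cons 5 (nat_lit 0x20180001e0001205002)
 (.cons 1 (nat_lit 0x40000000)
 (.cons 1 (nat_lit 0x280000000)
 (.cons 1 (nat_lit 0x84000000100400085)
 (.cons 1 (nat_lit 0x48020000280840842)
 (.cons 1 (nat_lit 0x84000010040500085)
 (.cons 5 (nat_lit 0x18000020001205002)
 (.cons 10 (nat_lit 0x340001400001000000)
 (.cons 20 (nat_lit 0x820080000040040)
 (.cons 40 (nat_lit 0x1290010000)
 .nil)))))))))))))
noncomputable def a268 : Net := (.cons 40 (nat_lit 0x1380840000)
 (.cons 20 (nat_lit 0xb4d0000000c0040)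
 (.cons 10 (nat_lit 0x21a001400012000000)
 (.cons 5 (nat_lit 0x180101a0000a01000)
 (.cons 1 (nat_lit 0x8000)
 (.cons 1 (nat_lit 0x50000)
 (.cons 1 (nat_lit 0x5080840000020000)
 (.cons 1 (nat_lit 0x1010a100420000050800)
 (.cons 1 (nat_lit 0x1405080840000108000)
 (.cons 5 (nat_lit 0x18010000000201000)
 (.cons 10 (nat_lit 0x21a001400010000000)
 (.cons 20 (nat_lit 0xb450000000c0040)
 (.cons 40 (nat_lit 0x1380840000)
 .nil)))))))))))))
noncomputable def a269 : Net := (.cons 40 (nat_lit 0x1714870800)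
 (.cons 20 (nat_lit 0x8d5280000070860)
 (.cons 10 (nat_lit 0x21a0014e0013000000)
 (.cons 5 (nat_lit 0x3018050160001a01416)
 (.cons 1 (nat_lit 0x840000400)
 (.cons 1 (nat_lit 0x10000500005280040800)
 (.cons 1 (nat_lit 0x28005200802900429085)
 (.cons 1 (nat_lit 0x1010a50840528481294a)
 (.cons 1 (nat_lit 0x425010010840528485)
 (.cons 5 (nat_lit 0x30180600a0001206002)
 (.cons 10 (nat_lit 0x21a000c00011000020)
 (.cons 20 (nat_lit 0x8d52800000f8040)
 (.cons 40 (nat_lit 0x1714870800)
 .nil)))))))))))))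
noncomputable def a270 : Net := (.cons 40 (nat_lit 0x1380840000)
 (.cons 20 (nat_lit 0xb4d0000000c0040)
 (.cons 10 (nat_lit 0x21a001400012000000)
 (.cons 5 (nat_lit 0x180101a0000a01000)
 (.cons 1 (nat_lit 0x8000)
 (.cons 1 (nat_lit 0x50000)
 (.cons 1 (nat_lit 0x5080840000020000)
 (.cons 1 (nat_lit 0x1010a100420000050800)
 (.cons 1 (nat_lit 0x1405080840000108000)
 (.cons 5 (nat_lit 0x18010000000201000)
 (.cons 10 (nat_lit 0x21a001400010000000)
 (.cons 20 (nat_lit 0xb450000000c0040)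
 (.cons 40 (nat_lit 0x1380840000)
 .nil)))))))))))))
noncomputable def a271 : Net := (.cons 40 (nat_lit 0x404040000)
 (.cons 20 (nat_lit 0x5400000020020)
 (.cons 10 (nat_lit 0x42001000002800000)
 (.cons 5 (nat_lit 0x4008018080000401014)
 (.cons 1 (nat_lit 0x800008000)
 (.cons 1 (nat_lit 0x50000000005000050000)
 (.cons 1 (nat_lit 0x20005080042000021484)
 (.cons 1 (nat_lit 0x50002108025000250908)
 (.cons 1 (nat_lit 0x405080240900009484)
 (.cons 5 (nat_lit 0x4008018080000400000)
 (.cons 10 (nat_lit 0x42001000000800020)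
 (.cons 20 (nat_lit 0x54000000a8000)
 (.cons 40 (nat_lit 0x404040000)
 .nil)))))))))))))
noncomputable def a272 : Net := (.cons 40 (nat_lit 0xcfdfe75d28)
 (.cons 20 (nat_lit 0xac2450000059092)
 (.cons 10 (nat_lit 0x3710037e000fc00297)
 (.cons 5 (nat_lit 0x4c040441b000060681e)
 (.cons 1 (nat_lit 0x200000000000020)
 (.cons 1 (nat_lit 0x128085004a0010000148)
 (.cons 1 (nat_lit 0x21425290a50008121084)
 (.cons 1 (nat_lit 0x408425084a0214212142)
 (.cons 1 (nat_lit 0x20025294812002121400)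
 (.cons 5 (nat_lit 0x180406012020000600c)
 (.cons 10 (nat_lit 0xc200338000fc0009e)
 (.cons 20 (nat_lit 0xe8b800000079096)
 (.cons 40 (nat_lit 0xcfdfee8a40)
 .nil)))))))))))))
noncomputable def a273 : Net := (.cons 40 (nat_lit 0x24c21b5a7)
 (.cons 20 (nat_lit 0x280c0000001777)
 (.cons 10 (nat_lit 0xa000e9003fc001e2)
 (.cons 5 (nat_lit 0x40781a008150200a)
 (.cons 1 (nat_lit 0x800000000)
 (.cons 1 (nat_lit 0x500080000a)
 (.cons 1 (nat_lit 0x1400080242140520004)
 (.cons 1 (nat_lit 0x8405084a5084a4290a)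
 (.cons 1 (nat_lit 0x1005080250942020081)
 (.cons 5 (nat_lit 0x405808000120001c)
 (.cons 10 (nat_lit 0x8002e0002ec00242)
 (.cons 20 (nat_lit 0x2c0e00000f1e72)
 (.cons 40 (nat_lit 0x24c31bdac)
 .nil)))))))))))))
noncomputable def a274 : Net := (.cons 40 (nat_lit 0xf8871af548)
 (.cons 20 (nat_lit 0x2982b0000086410)
 (.cons 10 (nat_lit 0x52001a10030400260)
 (.cons 5 (nat_lit 0x5008008120400800005)
 (.cons 1 (nat_lit 0x100000)
 (.cons 1 (nat_lit 0x40000008000000a02000)
 (.cons 1 (nat_lit 0x29080210040100501425)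
 (.cons 1 (nat_lit 0x52040529484200a52842)
 (.cons 1 (nat_lit 0x1080204a501081280a1)
 (.cons 5 (nat_lit 0x808048180400805008)
 (.cons 10 (nat_lit 0x70001380010400222)
 (.cons 20 (nat_lit 0x4184a0000084410)
 (.cons 40 (nat_lit 0xf88759f90a)
 .nil)))))))))))))
noncomputable def a275 : Net := (.cons 40 (nat_lit 0x124928a438)
 (.cons 20 (nat_lit 0x621440000005b8f)
 (.cons 10 (nat_lit 0x155002af000d600116)
 (.cons 5 (nat_lit 0x300000413018160540f)
 (.cons 1 (nat_lit 0x400014200000020000)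
 (.cons 1 (nat_lit 0x800029400000850102)
 (.cons 1 (nat_lit 0x10040148108085290a4)
 (.cons 1 (nat_lit 0x280212942101421294a)
 (.cons 1 (nat_lit 0x484014012002529421)
 (.cons 5 (nat_lit 0x2008000120100a03814)
 (.cons 10 (nat_lit 0x1140009a0037000132)
 (.cons 20 (nat_lit 0x6014400000e01c2)
 (.cons 40 (nat_lit 0x1249683c08)
 .nil)))))))))))))
noncomputable def a276 : Net := (.cons 40 (nat_lit 0x614050000)
 (.cons 20 (nat_lit 0x204000000a0840)
 (.cons 10 (nat_lit 0x140001600003800000)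
 (.cons 5 (nat_lit 0x6000000160300201000)
 (.cons 1 (nat_lit 0x40008000)
 (.cons 1 (nat_lit 0x50000000000280050000)
 (.cons 1 (nat_lit 0x20000000800140020000)
 (.cons 1 (nat_lit 0x50000020400284050000)
 (.cons 1 (nat_lit 0x80812040108000)
 (.cons 5 (nat_lit 0x4000000020300200000)
 (.cons 10 (nat_lit 0x140001600001800000)
 (.cons 20 (nat_lit 0x204000000a0840)
 (.cons 40 (nat_lit 0x614050000)
 .nil)))))))))))))
noncomputable def a277 : Net := (.cons 40 (nat_lit 0x404870800)
 (.cons 20 (nat_lit 0x804400000040040)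
 (.cons 10 (nat_lit 0x242001600013000200)
 (.cons 5 (nat_lit 0x4010010020001a04000)
 (.cons 1 (nat_lit 0x40000020)
 (.cons 1 (nat_lit 0x50000000000280000140)
 (.cons 1 (nat_lit 0x20004000800100401480)
 (.cons 1 (nat_lit 0x50008008400280850940)
 (.cons 1 (nat_lit 0x404080810040501420)
 (.cons 5 (nat_lit 0x4010010020001204000)
 (.cons 10 (nat_lit 0x242001600011000200)
 (.cons 20 (nat_lit 0x804400000040040)
 (.cons 40 (nat_lit 0x404870800)
 .nil)))))))))))))
noncomputable def a278 : Net := (.cons 40 (nat_lit 0x1684000000)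
 (.cons 20 (nat_lit 0xd28400000001040)
 (.cons 10 (nat_lit 0x340000600000000020)
 (.cons 5 (nat_lit 0x4018000180100201014)
 (.cons 1 (nat_lit 0x8000)
 (.cons 1 (nat_lit 0x50000000000000050800)
 (.cons 1 (nat_lit 0x20004000800000021484)
 (.cons 1 (nat_lit 0x50008020400004050908)
 (.cons 1 (nat_lit 0x4080800000109484)
 (.cons 5 (nat_lit 0x4010000080000201000)
 (.cons 10 (nat_lit 0x340000600000000020)
 (.cons 20 (nat_lit 0xd20400000001040)
 (.cons 40 (nat_lit 0x1684000000)
 .nil)))))))))))))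
noncomputable def a279 : Net := (.cons 40 (nat_lit 0x1494030000)
 (.cons 20 (nat_lit 0x80d480000030000)
 (.cons 10 (nat_lit 0x242001ec0001000000)
 (.cons 5 (nat_lit 0x40180300e0000401000)
 (.cons 1 (nat_lit 0x40000000)
 (.cons 1 (nat_lit 0x50000000000280000000)
 (.cons 1 (nat_lit 0x20085000200100000000)
 (.cons 1 (nat_lit 0x5004a000401280200000)
 (.cons 1 (nat_lit 0x485080210040000000)
 (.cons 5 (nat_lit 0x4018000060000400000)
 (.cons 10 (nat_lit 0x242000e40001000000)
 (.cons 20 (nat_lit 0x805480000030000)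
 (.cons 40 (nat_lit 0x1494030000)
 .nil)))))))))))))
noncomputable def a280 : Net := (.cons 40 (nat_lit 0x1290010000)
 (.cons 20 (nat_lit 0x828080000040040)
 (.cons 10 (nat_lit 0x340001400001000000)
 (.cons 5 (nat_lit 0x20180001e0001205002)
 (.cons 1 (nat_lit 0x40000000)
 (.cons 1 (nat_lit 0x280000000)
 (.cons 1 (nat_lit 0x84000000100400085)
 (.cons 1 (nat_lit 0x48020000280840842)
 (.cons 1 (nat_lit 0x84000010040500085)
 (.cons 5 (nat_lit 0x18000020001205002)
 (.cons 10 (nat_lit 0x340001400001000000)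
 (.cons 20 (nat_lit 0x820080000040040)
 (.cons 40 (nat_lit 0x1290010000)
 .nil)))))))))))))
noncomputable def a281 : Net := (.cons 40 (nat_lit 0xd953e77512)
 (.cons 20 (nat_lit 0xfd36e0000085ace)
 (.cons 10 (nat_lit 0x2b8002630028c00009)
 (.cons 5 (nat_lit 0x807004120100407808)
 (.cons 1 (nat_lit 0x8000000000000000000)
 (.cons 1 (nat_lit 0x5080a000480010200148)
 (.cons 1 (nat_lit 0x21425004a42108500085)
 (.cons 1 (nat_lit 0x5284a009424094240942)
 (.cons 1 (nat_lit 0x94a1004052000009024)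
 (.cons 5 (nat_lit 0x4800000020100207002)
 (.cons 10 (nat_lit 0x1f80034c0008e001b2)
 (.cons 20 (nat_lit 0x346700000083040)
 (.cons 40 (nat_lit 0xd953e8ae40)
 .nil)))))))))))))
noncomputable def a282 : Net := (.cons 40 (nat_lit 0x16961dd53f)
 (.cons 20 (nat_lit 0xa4b930000059a04)
 (.cons 10 (nat_lit 0x15800069002df0001b)
 (.cons 5 (nat_lit 0x580801c09050060500e)
 (.cons 1 (nat_lit 0x420)
 (.cons 1 (nat_lit 0x12948000000010040948)
 (.cons 1 (nat_lit 0x210a4090040948129484)
 (.cons 1 (nat_lit 0x5284a108025094252942)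
 (.cons 1 (nat_lit 0x1001014240940109420)
 (.cons 5 (nat_lit 0x301c01000070000400e)
 (.cons 10 (nat_lit 0x198001600005c001b6)
 (.cons 20 (nat_lit 0xb239400000b0812)
 (.cons 40 (nat_lit 0x16960cb3e8)
 .nil)))))))))))))
noncomputable def a283 : Net := (.cons 40 (nat_lit 0xd9dda73ce2)
 (.cons 20 (nat_lit 0xc12f3000003c5a7)
 (.cons 10 (nat_lit 0x27002f20027b000b0)
 (.cons 5 (nat_lit 0x4c120081c010000380c)
 (.cons 1 (nat_lit 0x80000000800000000)
 (.cons 1 (nat_lit 0x14a009485000840000)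
 (.cons 1 (nat_lit 0x10a5014a52000528081)
 (.cons 1 (nat_lit 0x2142129425084252042)
 (.cons 1 (nat_lit 0x142401005090a500080)
 (.cons 5 (nat_lit 0x40020080c010000180e)
 (.cons 10 (nat_lit 0x30400338002d2002bc)
 (.cons 20 (nat_lit 0xd96a6000003a78a)
 (.cons 40 (nat_lit 0xd9ddfafe04)
 .nil)))))))))))))
noncomputable def a284 : Net := (.cons 40 (nat_lit 0x1714870800)
 (.cons 20 (nat_lit 0x8d5280000070860)
 (.cons 10 (nat_lit 0x21a0014e0013000000)
 (.cons 5 (nat_lit 0x3018050160001a01416)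
 (.cons 1 (nat_lit 0x840000400)
 (.cons 1 (nat_lit 0x10000500005280040800)
 (.cons 1 (nat_lit 0x28005200802900429085)
 (.cons 1 (nat_lit 0x1010a50840528481294a)
 (.cons 1 (nat_lit 0x425010010840528485)
 (.cons 5 (nat_lit 0x30180600a0001206002)
 (.cons 10 (nat_lit 0x21a000c00011000020)
 (.cons 20 (nat_lit 0x8d52800000f8040)
 (.cons 40 (nat_lit 0x1714870800)
 .nil)))))))))))))
noncomputable def a285 : Net := (.cons 40 (nat_lit 0x56e2c1c1c2)
 (.cons 20 (nat_lit 0xb56b3000004786a)
 (.cons 10 (nat_lit 0x300001e00016400360)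
 (.cons 5 (nat_lit 0x81d04c14078000401b)
 (.cons 1 (nat_lit 0x421)
 (.cons 1 (nat_lit 0x10100400401000a12842)
 (.cons 1 (nat_lit 0x204a0214a02902529084)
 (.cons 1 (nat_lit 0x50842108485084212948)
 (.cons 1 (nat_lit 0x21404090a0280a500484)
 (.cons 5 (nat_lit 0x6002040140200404008)
 (.cons 10 (nat_lit 0x1d8001c000048001a4)
 (.cons 20 (nat_lit 0xf191800000cf8d6)
 (.cons 40 (nat_lit 0x56e8221fde)
 .nil)))))))))))))
noncomputable def a286 : Net := (.cons 40 (nat_lit 0x4745c1fa1b)
 (.cons 20 (nat_lit 0xff91800000fe45d)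
 (.cons 10 (nat_lit 0x182002cd003fa0032a)
 (.cons 5 (nat_lit 0x200e078110400101807)
 (.cons 1 (nat_lit 0x200140008000)
 (.cons 1 (nat_lit 0x50040000405284050000)
 (.cons 1 (nat_lit 0x290a5014842148028000)
 (.cons 1 (nat_lit 0x5084a029425294a50002)
 (.cons 1 (nat_lit 0x9081000202908028001)
 (.cons 5 (nat_lit 0x1006078180280c02004)
 (.cons 10 (nat_lit 0xc4003dc001c00036e)
 (.cons 20 (nat_lit 0xb8cb800000666b2)
 (.cons 40 (nat_lit 0x47492b3f0c)
 .nil)))))))))))))
noncomputable def a287 : Net := (.cons 40 (nat_lit 0x34f03651c2)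
 (.cons 20 (nat_lit 0x700ec00000b3102)
 (.cons 10 (nat_lit 0x2dd0000b000f8001fb)
 (.cons 5 (nat_lit 0x780501810000080180c)
 (.cons 1 (nat_lit 0x1400014010800000000)
 (.cons 1 (nat_lit 0x28085280a5000200108)
 (.cons 1 (nat_lit 0x14a52940520005004a4)
 (.cons 1 (nat_lit 0x1284a5290a5204202942)
 (.cons 1 (nat_lit 0x80010002800001025)
 (.cons 5 (nat_lit 0x480404000000040000c)
 (.cons 10 (nat_lit 0x3dc0001000118003e0)
 (.cons 20 (nat_lit 0x644e000000f3130)
 (.cons 40 (nat_lit 0x34f0c14d42)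
 .nil)))))))))))))
noncomputable def a288 : Net := (.cons 40 (nat_lit 0x1a8e312796)
 (.cons 20 (nat_lit 0x7e6e0000008561d)
 (.cons 10 (nat_lit 0x8a001320028600261)
 (.cons 5 (nat_lit 0x1015040090301807009)
 (.cons 1 (nat_lit 0x100008000)
 (.cons 1 (nat_lit 0x80a100000280050042)
 (.cons 1 (nat_lit 0x1404210002148421485)
 (.cons 1 (nat_lit 0x284a50802429085290a)
 (.cons 1 (nat_lit 0x94200808021484214a1)
 (.cons 5 (nat_lit 0x381006008030000180a)
 (.cons 10 (nat_lit 0x820011a0008200168)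
 (.cons 20 (nat_lit 0x66e220000005710)
 (.cons 40 (nat_lit 0x1a8e7b27f6)
 .nil)))))))))))))
noncomputable def a289 : Net := (.cons 40 (nat_lit 0x55a8ff6024)
 (.cons 20 (nat_lit 0x22dce000003ae30)
 (.cons 10 (nat_lit 0x308000ca002f300192)
 (.cons 5 (nat_lit 0x780405010000020140a)
 (.cons 1 (nat_lit 0x1000080010100008000)
 (.cons 1 (nat_lit 0x128001014a5290010802)
 (.cons 1 (nat_lit 0x21481200852148021425)
 (.cons 1 (nat_lit 0x428424294a5294242842)
 (.cons 1 (nat_lit 0x2008109001014a008425)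
 (.cons 5 (nat_lit 0x1008020000000005006)
 (.cons 10 (nat_lit 0x2c0000ea0009000106)
 (.cons 20 (nat_lit 0x265c4000003ae3e)
 (.cons 40 (nat_lit 0x55a8fd44a0)
 .nil)))))))))))))
noncomputable def a290 : Net := (.cons 40 (nat_lit 0x604030000)
 (.cons 20 (nat_lit 0xc24400000080000)
 (.cons 10 (nat_lit 0x342000600001800000)
 (.cons 5 (nat_lit 0x4018000120000000016)
 (.cons 1 (nat_lit 0x40008000)
 (.cons 1 (nat_lit 0x50000000000280050000)
 (.cons 1 (nat_lit 0x20004000000100028085)
 (.cons 1 (nat_lit 0x5000802000028005014a)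
 (.cons 1 (nat_lit 0x404080010140008085)
 (.cons 5 (nat_lit 0x4010000020000000002)
 (.cons 10 (nat_lit 0x342000600001800000)
 (.cons 20 (nat_lit 0xc24400000080000)
 (.cons 40 (nat_lit 0x604030000)
 .nil)))))))))))))
noncomputable def a291 : Net := (.cons 40 (nat_lit 0x604000000)
 (.cons 20 (nat_lit 0x25400000041040)
 (.cons 10 (nat_lit 0x42000000000000000)
 (.cons 5 (nat_lit 0x4008018100101205002)
 (.cons 1 (nat_lit 0x50000000000000000000)
 (.cons 1 (nat_lit 0x20005080000000400085)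
 (.cons 1 (nat_lit 0x50002128000004840842)
 (.cons 1 (nat_lit 0x405080200000500085)
 (.cons 5 (nat_lit 0x4008018000001205002)
 (.cons 10 (nat_lit 0x42000000000000000)
 (.cons 20 (nat_lit 0x25400000041040)
 (.cons 40 (nat_lit 0x604000000)
 .nil))))))))))))
noncomputable def a292 : Net := (.cons 40 (nat_lit 0x200850000)
 (.cons 20 (nat_lit 0x841000000060000)
 (.cons 10 (nat_lit 0x200001400013000200)
 (.cons 5 (nat_lit 0x18010120000c01002)
 (.cons 1 (nat_lit 0x400000a0)
 (.cons 1 (nat_lit 0x280000140)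
 (.cons 1 (nat_lit 0x50808001000014a5)
 (.cons 1 (nat_lit 0x200a100400280200942)
 (.cons 1 (nat_lit 0x50808100400014a5)
 (.cons 5 (nat_lit 0x18010020000400002)
 (.cons 10 (nat_lit 0x200001400011000200)
 (.cons 20 (nat_lit 0x841000000060000)
 (.cons 40 (nat_lit 0x200850000)
 .nil)))))))))))))
noncomputable def a293 : Net := (.cons 40 (nat_lit 0x1080000000)
 (.cons 20 (nat_lit 0xf0d000000040000)
 (.cons 10 (nat_lit 0x20a000400000000020)
 (.cons 5 (nat_lit 0x2018010080001000416)
 (.cons 1 (nat_lit 0x400)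
 (.cons 1 (nat_lit 0x40800)
 (.cons 1 (nat_lit 0x5080800000429085)
 (.cons 1 (nat_lit 0x1000a10040000081294a)
 (.cons 1 (nat_lit 0x405080800000428485)
 (.cons 5 (nat_lit 0x18010080001006002)
 (.cons 10 (nat_lit 0x20a000400000000020)
 (.cons 20 (nat_lit 0xf05000000040000)
 (.cons 40 (nat_lit 0x1080000000)
 .nil)))))))))))))
noncomputable def a294 : Net := (.cons 40 (nat_lit 0xdb3647fa10)
 (.cons 20 (nat_lit 0x2ffec00000b9f3a)
 (.cons 10 (nat_lit 0x2c9000d20020200174)
 (.cons 5 (nat_lit 0x480806012010040180c)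
 (.cons 1 (nat_lit 0xa0080000040000400)
 (.cons 1 (nat_lit 0x140100000290002800)
 (.cons 1 (nat_lit 0x10a5200040908429000)
 (.cons 1 (nat_lit 0x4294240808129481280a)
 (.cons 1 (nat_lit 0x1024210050042528400)
 (.cons 5 (nat_lit 0x4008000120000000004)
 (.cons 10 (nat_lit 0x280000fa0000200174)
 (.cons 20 (nat_lit 0xa7fcc00000b973a)
 (.cons 40 (nat_lit 0xdb3acbfa20)
 .nil)))))))))))))
noncomputable def a295 : Net := (.cons 40 (nat_lit 0x1494000000)
 (.cons 20 (nat_lit 0x32c4000000c0040)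
 (.cons 10 (nat_lit 0x1c2000600000800000)
 (.cons 5 (nat_lit 0x60000000c0001203014)
 (.cons 1 (nat_lit 0x8000)
 (.cons 1 (nat_lit 0x50000000000000050000)
 (.cons 1 (nat_lit 0x20000000800000420084)
 (.cons 1 (nat_lit 0x50040000400000852908)
 (.cons 1 (nat_lit 0x400080800100508084)
 (.cons 5 (nat_lit 0x4000000080001203000)
 (.cons 10 (nat_lit 0x1c2000600000800000)
 (.cons 20 (nat_lit 0x3244000000c0040)
 (.cons 40 (nat_lit 0x1494000000)
 .nil)))))))))))))
noncomputable def a296 : Net := (.cons 40 (nat_lit 0x1190850000)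
 (.cons 20 (nat_lit 0x838080000040020)
 (.cons 10 (nat_lit 0x340001480013000000)
 (.cons 5 (nat_lit 0x2018000060000800014)
 (.cons 1 (nat_lit 0x840008000)
 (.cons 1 (nat_lit 0x5280050000)
 (.cons 1 (nat_lit 0x84000802100021484)
 (.cons 1 (nat_lit 0x48000405280050908)
 (.cons 1 (nat_lit 0x84010810840009484)
 (.cons 5 (nat_lit 0x18000020000000000)
 (.cons 10 (nat_lit 0x340001480011000020)
 (.cons 20 (nat_lit 0x8300800000c8000)
 (.cons 40 (nat_lit 0x1190850000)
 .nil)))))))))))))
noncomputable def a297 : Net := (.cons 40 (nat_lit 0x380000860)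
 (.cons 20 (nat_lit 0x555f0000006ccc0)
 (.cons 10 (nat_lit 0x5b0020c0034300298)
 (.cons 5 (nat_lit 0x780a000000080805004)
 (.cons 1 (nat_lit 0x2000000)
 (.cons 1 (nat_lit 0x400014000140)
 (.cons 1 (nat_lit 0x4090a0000a021080)
 (.cons 1 (nat_lit 0x5000a108421014042148)
 (.cons 1 (nat_lit 0x20000090a00042121000)
 (.cons 5 (nat_lit 0x5000000000000200000)
 (.cons 10 (nat_lit 0x1040000c0038000298)
 (.cons 20 (nat_lit 0x555f00000064cc0)
 (.cons 40 (nat_lit 0x380000840)
 .nil)))))))))))))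
noncomputable def a298 : Net := (.cons 40 (nat_lit 0x1000c21f20)
 (.cons 20 (nat_lit 0x3800800000ad280)
 (.cons 10 (nat_lit 0x1e00024a002ae00144)
 (.cons 5 (nat_lit 0x8038120100403c18)
 (.cons 1 (nat_lit 0x400)
 (.cons 1 (nat_lit 0x10000000000014040800)
 (.cons 1 (nat_lit 0x28000200002008029080)
 (.cons 1 (nat_lit 0x10000520004094012900)
 (.cons 1 (nat_lit 0x280a1204002000128484)
 (.cons 5 (nat_lit 0x8038000100004018)
 (.cons 10 (nat_lit 0x1e00024a0028600144)
 (.cons 20 (nat_lit 0x3800800000ad280)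
 (.cons 40 (nat_lit 0x1000c21f00)
 .nil)))))))))))))
noncomputable def a299 : Net := (.cons 40 (nat_lit 0x1b0c02a8a0)
 (.cons 20 (nat_lit 0x197a0000006c010)
 (.cons 10 (nat_lit 0x90020c0031200244)
 (.cons 5 (nat_lit 0x1018028160000800800)
 (.cons 1 (nat_lit 0x2000420)
 (.cons 1 (nat_lit 0x400294002940)
 (.cons 1 (nat_lit 0x4000a4090a021080)
 (.cons 1 (nat_lit 0x1000a020421294042940)
 (.cons 1 (nat_lit 0x24200a40802120420)
 (.cons 5 (nat_lit 0x1018020060000000000)
 (.cons 10 (nat_lit 0x20c0031200240)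
 (.cons 20 (nat_lit 0x11720000006c010)
 (.cons 40 (nat_lit 0x1b0c02a8a0)
 .nil)))))))))))))
noncomputable def a300 : Net := (.cons 40 (nat_lit 0x404040000)
 (.cons 20 (nat_lit 0x5400000020020)
 (.cons 10 (nat_lit 0x42001000002800000)
 (.cons 5 (nat_lit 0x4008018080000401014)
 (.cons 1 (nat_lit 0x800008000)
 (.cons 1 (nat_lit 0x50000000005000050000)
 (.cons 1 (nat_lit 0x20005080042000021484)
 (.cons 1 (nat_lit 0x50002108025000250908)
 (.cons 1 (nat_lit 0x405080240900009484)
 (.cons 5 (nat_lit 0x4008018080000400000)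
 (.cons 10 (nat_lit 0x42001000000800020)
 (.cons 20 (nat_lit 0x54000000a8000)
 (.cons 40 (nat_lit 0x404040000)
 .nil)))))))))))))
noncomputable def a301 : Net := (.cons 40 (nat_lit 0x1380840000)
 (.cons 20 (nat_lit 0xb4d0000000c0040)
 (.cons 10 (nat_lit 0x21a001400012000000)
 (.cons 5 (nat_lit 0x180101a0000a01000)
 (.cons 1 (nat_lit 0x8000)
 (.cons 1 (nat_lit 0x50000)
 (.cons 1 (nat_lit 0x5080840000020000)
 (.cons 1 (nat_lit 0x1010a100420000050800)
 (.cons 1 (nat_lit 0x1405080840000108000)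
 (.cons 5 (nat_lit 0x18010000000201000)
 (.cons 10 (nat_lit 0x21a001400010000000)
 (.cons 20 (nat_lit 0xb450000000c0040)
 (.cons 40 (nat_lit 0x1380840000)
 .nil)))))))))))))
noncomputable def a302 : Net := (.cons 40 (nat_lit 0x404040000)
 (.cons 20 (nat_lit 0x5400000020020)
 (.cons 10 (nat_lit 0x42001000002800000)
 (.cons 5 (nat_lit 0x4008018080000401014)
 (.cons 1 (nat_lit 0x800008000)
 (.cons 1 (nat_lit 0x50000000005000050000)
 (.cons 1 (nat_lit 0x20005080042000021484)
 (.cons 1 (nat_lit 0x50002108025000250908)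
 (.cons 1 (nat_lit 0x405080240900009484)
 (.cons 5 (nat_lit 0x4008018080000400000)
 (.cons 10 (nat_lit 0x42001000000800020)
 (.cons 20 (nat_lit 0x54000000a8000)
 (.cons 40 (nat_lit 0x404040000)
 .nil)))))))))))))
noncomputable def a303 : Net := (.cons 40 (nat_lit 0x1714870800)
 (.cons 20 (nat_lit 0x8d5280000070860)
 (.cons 10 (nat_lit 0x21a0014e0013000000)
 (.cons 5 (nat_lit 0x3018050160001a01416)
 (.cons 1 (nat_lit 0x840000400)
 (.cons 1 (nat_lit 0x10000500005280040800)
 (.cons 1 (nat_lit 0x28005200802900429085)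
 (.cons 1 (nat_lit 0x1010a50840528481294a)
 (.cons 1 (nat_lit 0x425010010840528485)
 (.cons 5 (nat_lit 0x30180600a0001206002)
 (.cons 10 (nat_lit 0x21a000c00011000020)
 (.cons 20 (nat_lit 0x8d52800000f8040)
 (.cons 40 (nat_lit 0x1714870800)
 .nil)))))))))))))
noncomputable def a304 : Net := (.cons 40 (nat_lit 0x380000860)
 (.cons 20 (nat_lit 0x555f0000006ccc0)
 (.cons 10 (nat_lit 0x5b0020c0034300298)
 (.cons 5 (nat_lit 0x780a000000080805004)
 (.cons 1 (nat_lit 0x2000000)
 (.cons 1 (nat_lit 0x400014000140)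
 (.cons 1 (nat_lit 0x4090a0000a021080)
 (.cons 1 (nat_lit 0x5000a108421014042148)
 (.cons 1 (nat_lit 0x20000090a00042121000)
 (.cons 5 (nat_lit 0x5000000000000200000)
 (.cons 10 (nat_lit 0x1040000c0038000298)
 (.cons 20 (nat_lit 0x555f00000064cc0)
 (.cons 40 (nat_lit 0x380000840)
 .nil)))))))))))))
noncomputable def a305 : Net := (.cons 40 (nat_lit 0xbb9e6b825c)
 (.cons 20 (nat_lit 0xed50200000a5e88)
 (.cons 10 (nat_lit 0x31a003440001d00008)
 (.cons 5 (nat_lit 0x2808078030000002018)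
 (.cons 1 (nat_lit 0x20000010000000400)
 (.cons 1 (nat_lit 0x140001420204002800)
 (.cons 1 (nat_lit 0x148001084010a001000)
 (.cons 1 (nat_lit 0x10948021480284002940)
 (.cons 1 (nat_lit 0x140101024014a108480)
 (.cons 5 (nat_lit 0x300004014050020001c)
 (.cons 10 (nat_lit 0x310003400021800018)
 (.cons 20 (nat_lit 0x64da000000a5a5c)
 (.cons 40 (nat_lit 0xbb9e599af8)
 .nil)))))))))))))
noncomputable def a306 : Net := (.cons 40 (nat_lit 0xb9be6f9ff4)
 (.cons 20 (nat_lit 0x880af0000080ff0)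
 (.cons 10 (nat_lit 0xe002670004900178)
 (.cons 5 (nat_lit 0x28040280b0281801018)
 (.cons 1 (nat_lit 0x10000000400)
 (.cons 1 (nat_lit 0x400401010a0000012800)
 (.cons 1 (nat_lit 0x20080210840000529020)
 (.cons 1 (nat_lit 0x501004204a0200a12940)
 (.cons 1 (nat_lit 0x20081200a00040428400)
 (.cons 5 (nat_lit 0x2006060180000800010)
 (.cons 10 (nat_lit 0x2480021000240001b8)
 (.cons 20 (nat_lit 0xb1a2200000c6ff0)
 (.cons 40 (nat_lit 0xb9befb9b94)
 .nil)))))))))))))
noncomputable def a307 : Net := (.cons 40 (nat_lit 0x404870800)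
 (.cons 20 (nat_lit 0x804400000040040)
 (.cons 10 (nat_lit 0x242001600013000200)
 (.cons 5 (nat_lit 0x4010010020001a04000)
 (.cons 1 (nat_lit 0x40000020)
 (.cons 1 (nat_lit 0x50000000000280000140)
 (.cons 1 (nat_lit 0x20004000800100401480)
 (.cons 1 (nat_lit 0x50008008400280850940)
 (.cons 1 (nat_lit 0x404080810040501420)
 (.cons 5 (nat_lit 0x4010010020001204000)
 (.cons 10 (nat_lit 0x242001600011000200)
 (.cons 20 (nat_lit 0x804400000040040)
 (.cons 40 (nat_lit 0x404870800)
 .nil)))))))))))))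
noncomputable def a308 : Net := (.cons 40 (nat_lit 0x1494030000)
 (.cons 20 (nat_lit 0x80d480000030000)
 (.cons 10 (nat_lit 0x242001ec0001000000)
 (.cons 5 (nat_lit 0x40180300e0000401000)
 (.cons 1 (nat_lit 0x40000000)
 (.cons 1 (nat_lit 0x50000000000280000000)
 (.cons 1 (nat_lit 0x20085000200100000000)
 (.cons 1 (nat_lit 0x5004a000401280200000)
 (.cons 1 (nat_lit 0x485080210040000000)
 (.cons 5 (nat_lit 0x4018000060000400000)
 (.cons 10 (nat_lit 0x242000e40001000000)
 (.cons 20 (nat_lit 0x805480000030000)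
 (.cons 40 (nat_lit 0x1494030000)
 .nil)))))))))))))
noncomputable def a309 : Net := (.cons 40 (nat_lit 0x210000000)
 (.cons 20 (nat_lit 0xc24000000068000)
 (.cons 10 (nat_lit 0x30a000000000800200)
 (.cons 5 (nat_lit 0x2018000140000405000)
 (.cons 1 (nat_lit 0x800000020)
 (.cons 1 (nat_lit 0x5000000140)
 (.cons 1 (nat_lit 0x4000002008001480)
 (.cons 1 (nat_lit 0x8120005010240940)
 (.cons 1 (nat_lit 0x404000000908001420)
 (.cons 5 (nat_lit 0x10000000000404000)
 (.cons 10 (nat_lit 0x202000000000800200)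
 (.cons 20 (nat_lit 0xc24000000068000)
 (.cons 40 (nat_lit 0x210000000)
 .nil)))))))))))))
noncomputable def a310 : Net := (.cons 40 (nat_lit 0x1684010000)
 (.cons 20 (nat_lit 0x29480000048000)
 (.cons 10 (nat_lit 0x40000640001800200)
 (.cons 5 (nat_lit 0x4008000160001004000)
 (.cons 1 (nat_lit 0x840000020)
 (.cons 1 (nat_lit 0x50000000005280000140)
 (.cons 1 (nat_lit 0x20085000202100401480)
 (.cons 1 (nat_lit 0x50042020405280840940)
 (.cons 1 (nat_lit 0x85080210940401420)
 (.cons 5 (nat_lit 0x4008000060001004000)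
 (.cons 10 (nat_lit 0x40000640001800200)
 (.cons 20 (nat_lit 0x21480000048000)
 (.cons 40 (nat_lit 0x1684010000)
 .nil)))))))))))))
noncomputable def a311 : Net := (.cons 40 (nat_lit 0x1290010000)
 (.cons 20 (nat_lit 0x828080000040040)
 (.cons 10 (nat_lit 0x340001400001000000)
 (.cons 5 (nat_lit 0x20180001e0001205002)
 (.cons 1 (nat_lit 0x40000000)
 (.cons 1 (nat_lit 0x280000000)
 (.cons 1 (nat_lit 0x84000000100400085)
 (.cons 1 (nat_lit 0x48020000280840842)
 (.cons 1 (nat_lit 0x84000010040500085)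
 (.cons 5 (nat_lit 0x18000020001205002)
 (.cons 10 (nat_lit 0x340001400001000000)
 (.cons 20 (nat_lit 0x820080000040040)
 (.cons 40 (nat_lit 0x1290010000)
 .nil)))))))))))))
noncomputable def a312 : Net := (.cons 40 (nat_lit 0x1494030000)
 (.cons 20 (nat_lit 0x80d480000030000)
 (.cons 10 (nat_lit 0x242001ec0001000000)
 (.cons 5 (nat_lit 0x40180300e0000401000)
 (.cons 1 (nat_lit 0x40000000)
 (.cons 1 (nat_lit 0x50000000000280000000)
 (.cons 1 (nat_lit 0x20085000200100000000)
 (.cons 1 (nat_lit 0x5004a000401280200000)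
 (.cons 1 (nat_lit 0x485080210040000000)
 (.cons 5 (nat_lit 0x4018000060000400000)
 (.cons 10 (nat_lit 0x242000e40001000000)
 (.cons 20 (nat_lit 0x805480000030000)
 (.cons 40 (nat_lit 0x1494030000)
 .nil)))))))))))))
noncomputable def a313 : Net := (.cons 40 (nat_lit 0x9a737b9b12)
 (.cons 20 (nat_lit 0xd36e90000079f58)
 (.cons 10 (nat_lit 0x395000f100106001b4)
 (.cons 5 (nat_lit 0x400e000180200c0500c)
 (.cons 1 (nat_lit 0x94000040000001)
 (.cons 1 (nat_lit 0x5280a0094802802)
 (.cons 1 (nat_lit 0x1420214850148409085)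
 (.cons 1 (nat_lit 0x50840529421294a1284a)
 (.cons 1 (nat_lit 0x420094840940109001)
 (.cons 5 (nat_lit 0x7004000180300005002)
 (.cons 10 (nat_lit 0x194000d000190001b4)
 (.cons 20 (nat_lit 0xdb3ec0000039f50)
 (.cons 40 (nat_lit 0x9a736b9f02)
 .nil)))))))))))))
noncomputable def a314 : Net := (.cons 40 (nat_lit 0x3dcc219a60)
 (.cons 20 (nat_lit 0x3f0d800000427d0)
 (.cons 10 (nat_lit 0xc4003d2001b400110)
 (.cons 5 (nat_lit 0x400402018034180501c)
 (.cons 1 (nat_lit 0x200040100004)
 (.cons 1 (nat_lit 0x1080a0084a4280a0080a)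
 (.cons 1 (nat_lit 0x21404014a52900401025)
 (.cons 1 (nat_lit 0x4084a1094a1280a4294a)
 (.cons 1 (nat_lit 0x21401014800940009024)
 (.cons 5 (nat_lit 0x400002000040120401c)
 (.cons 10 (nat_lit 0x1400152001b400114)
 (.cons 20 (nat_lit 0x3389000000427d0)
 (.cons 40 (nat_lit 0x3dcc1b8200)
 .nil)))))))))))))
noncomputable def a315 : Net := (.cons 40 (nat_lit 0x10000)
 (.cons 20 (nat_lit 0xc010000000e0840)
 (.cons 10 (nat_lit 0x208000400001800000)
 (.cons 5 (nat_lit 0x2018010020301203014)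
 (.cons 1 (nat_lit 0x40008000)
 (.cons 1 (nat_lit 0x280050000)
 (.cons 1 (nat_lit 0x5080000140420084)
 (.cons 1 (nat_lit 0xa100000284852108)
 (.cons 1 (nat_lit 0x5080012040508084)
 (.cons 5 (nat_lit 0x18010020301202000)
 (.cons 10 (nat_lit 0x208000400001800000)
 (.cons 20 (nat_lit 0xc010000000e0840)
 (.cons 40 (nat_lit 0x10000)
 .nil)))))))))))))
noncomputable def a316 : Net := (.cons 40 (nat_lit 0x1494030000)
 (.cons 20 (nat_lit 0x80d480000030000)
 (.cons 10 (nat_lit 0x242001ec0001000000)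
 (.cons 5 (nat_lit 0x40180300e0000401000)
 (.cons 1 (nat_lit 0x40000000)
 (.cons 1 (nat_lit 0x50000000000280000000)
 (.cons 1 (nat_lit 0x20085000200100000000)
 (.cons 1 (nat_lit 0x5004a000401280200000)
 (.cons 1 (nat_lit 0x485080210040000000)
 (.cons 5 (nat_lit 0x4018000060000400000)
 (.cons 10 (nat_lit 0x242000e40001000000)
 (.cons 20 (nat_lit 0x805480000030000)
 (.cons 40 (nat_lit 0x1494030000)
 .nil)))))))))))))
noncomputable def a317 : Net := (.cons 40 (nat_lit 0x1090040000)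
 (.cons 20 (nat_lit 0x109000000041040)
 (.cons 10 (nat_lit 0x1400002000200)
 (.cons 5 (nat_lit 0x80300e0101205000)
 (.cons 1 (nat_lit 0x20)
 (.cons 1 (nat_lit 0x940)
 (.cons 1 (nat_lit 0x5080840000401480)
 (.cons 1 (nat_lit 0x2100420004840940)
 (.cons 1 (nat_lit 0x5080840000501420)
 (.cons 5 (nat_lit 0x8010000001205000)
 (.cons 10 (nat_lit 0x1400000000200)
 (.cons 20 (nat_lit 0x101000000041040)
 (.cons 40 (nat_lit 0x1090040000)
 .nil)))))))))))))
noncomputable def a318 : Net := (.cons 40 (nat_lit 0x1380840000)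
 (.cons 20 (nat_lit 0xb4d0000000c0040)
 (.cons 10 (nat_lit 0x21a001400012000000)
 (.cons 5 (nat_lit 0x180101a0000a01000)
 (.cons 1 (nat_lit 0x8000)
 (.cons 1 (nat_lit 0x50000)
 (.cons 1 (nat_lit 0x5080840000020000)
 (.cons 1 (nat_lit 0x1010a100420000050800)
 (.cons 1 (nat_lit 0x1405080840000108000)
 (.cons 5 (nat_lit 0x18010000000201000)
 (.cons 10 (nat_lit 0x21a001400010000000)
 (.cons 20 (nat_lit 0xb450000000c0040)
 (.cons 40 (nat_lit 0x1380840000)
 .nil)))))))))))))
noncomputable def a319 : Net := (.cons 40 (nat_lit 0x1684000000)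
 (.cons 20 (nat_lit 0xd28400000001040)
 (.cons 10 (nat_lit 0x340000600000000020)
 (.cons 5 (nat_lit 0x4018000180100201014)
 (.cons 1 (nat_lit 0x8000)
 (.cons 1 (nat_lit 0x50000000000000050800)
 (.cons 1 (nat_lit 0x20004000800000021484)
 (.cons 1 (nat_lit 0x50008020400004050908)
 (.cons 1 (nat_lit 0x4080800000109484)
 (.cons 5 (nat_lit 0x4010000080000201000)
 (.cons 10 (nat_lit 0x340000600000000020)
 (.cons 20 (nat_lit 0xd20400000001040)
 (.cons 40 (nat_lit 0x1684000000)
 .nil)))))))))))))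
noncomputable def a320 : Net := (.cons 40 (nat_lit 0x1290010000)
 (.cons 20 (nat_lit 0x828080000040040)
 (.cons 10 (nat_lit 0x340001400001000000)
 (.cons 5 (nat_lit 0x20180001e0001205002)
 (.cons 1 (nat_lit 0x40000000)
 (.cons 1 (nat_lit 0x280000000)
 (.cons 1 (nat_lit 0x84000000100400085)
 (.cons 1 (nat_lit 0x48020000280840842)
 (.cons 1 (nat_lit 0x84000010040500085)
 (.cons 5 (nat_lit 0x18000020001205002)
 (.cons 10 (nat_lit 0x340001400001000000)
 (.cons 20 (nat_lit 0x820080000040040)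
 (.cons 40 (nat_lit 0x1290010000)
 .nil)))))))))))))
noncomputable def a321 : Net := (.cons 40 (nat_lit 0x10070000)
 (.cons 20 (nat_lit 0x50000000c0000)
 (.cons 10 (nat_lit 0x2001400003800000)
 (.cons 5 (nat_lit 0x8030060001002002)
 (.cons 1 (nat_lit 0x40008000)
 (.cons 1 (nat_lit 0x280050000)
 (.cons 1 (nat_lit 0x5080800100428085)
 (.cons 1 (nat_lit 0x2100400280852042)
 (.cons 1 (nat_lit 0x405080810140408085)
 (.cons 5 (nat_lit 0x8010020001002002)
 (.cons 10 (nat_lit 0x2001400001800000)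
 (.cons 20 (nat_lit 0x50000000c0000)
 (.cons 40 (nat_lit 0x10070000)
 .nil)))))))))))))
noncomputable def a322 : Net := (.cons 40 (nat_lit 0x404040000)
 (.cons 20 (nat_lit 0x5400000020020)
 (.cons 10 (nat_lit 0x42001000002800000)
 (.cons 5 (nat_lit 0x4008018080000401014)
 (.cons 1 (nat_lit 0x800008000)
 (.cons 1 (nat_lit 0x50000000005000050000)
 (.cons 1 (nat_lit 0x20005080042000021484)
 (.cons 1 (nat_lit 0x50002108025000250908)
 (.cons 1 (nat_lit 0x405080240900009484)
 (.cons 5 (nat_lit 0x4008018080000400000)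
 (.cons 10 (nat_lit 0x42001000000800020)
 (.cons 20 (nat_lit 0x54000000a8000)
 (.cons 40 (nat_lit 0x404040000)
 .nil)))))))))))))
noncomputable def a323 : Net := (.cons 40 (nat_lit 0x1684000000)
 (.cons 20 (nat_lit 0xd28400000001040)
 (.cons 10 (nat_lit 0x340000600000000020)
 (.cons 5 (nat_lit 0x4018000180100201014)
 (.cons 1 (nat_lit 0x8000)
 (.cons 1 (nat_lit 0x50000000000000050800)
 (.cons 1 (nat_lit 0x20004000800000021484)
 (.cons 1 (nat_lit 0x50008020400004050908)
 (.cons 1 (nat_lit 0x4080800000109484)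
 (.cons 5 (nat_lit 0x4010000080000201000)
 (.cons 10 (nat_lit 0x340000600000000020)
 (.cons 20 (nat_lit 0xd20400000001040)
 (.cons 40 (nat_lit 0x1684000000)
 .nil)))))))))))))
noncomputable def a324 : Net := (.cons 40 (nat_lit 0x1380840000)
 (.cons 20 (nat_lit 0xb4d0000000c0040)
 (.cons 10 (nat_lit 0x21a001400012000000)
 (.cons 5 (nat_lit 0x180101a0000a01000)
 (.cons 1 (nat_lit 0x8000)
 (.cons 1 (nat_lit 0x50000)
 (.cons 1 (nat_lit 0x5080840000020000)
 (.cons 1 (nat_lit 0x1010a100420000050800)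
 (.cons 1 (nat_lit 0x1405080840000108000)
 (.cons 5 (nat_lit 0x18010000000201000)
 (.cons 10 (nat_lit 0x21a001400010000000)
 (.cons 20 (nat_lit 0xb450000000c0040)
 (.cons 40 (nat_lit 0x1380840000)
 .nil)))))))))))))
noncomputable def a325 : Net := (.cons 40 (nat_lit 0x1714870800)
 (.cons 20 (nat_lit 0x8d5280000070860)
 (.cons 10 (nat_lit 0x21a0014e0013000000)
 (.cons 5 (nat_lit 0x3018050160001a01416)
 (.cons 1 (nat_lit 0x840000400)
 (.cons 1 (nat_lit 0x10000500005280040800)
 (.cons 1 (nat_lit 0x28005200802900429085)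
 (.cons 1 (nat_lit 0x1010a50840528481294a)
 (.cons 1 (nat_lit 0x425010010840528485)
 (.cons 5 (nat_lit 0x30180600a0001206002)
 (.cons 10 (nat_lit 0x21a000c00011000020)
 (.cons 20 (nat_lit 0x8d52800000f8040)
 (.cons 40 (nat_lit 0x1714870800)
 .nil)))))))))))))
noncomputable def a326 : Net := (.cons 40 (nat_lit 0x9e82c4a1e2)
 (.cons 20 (nat_lit 0x3338600000b0112)
 (.cons 10 (nat_lit 0x34400058002d1003da)
 (.cons 5 (nat_lit 0x6004020100680806806)
 (.cons 1 (nat_lit 0x10000100000000)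
 (.cons 1 (nat_lit 0x2802529400294000000)
 (.cons 1 (nat_lit 0x9085214812148101085)
 (.cons 1 (nat_lit 0x52902529424294212042)
 (.cons 1 (nat_lit 0x90a5010012008501485)
 (.cons 5 (nat_lit 0x6004020100680804802)
 (.cons 10 (nat_lit 0x3440005000194003ca)
 (.cons 20 (nat_lit 0x3338400000b0110)
 (.cons 40 (nat_lit 0x9e82e42140)
 .nil)))))))))))))
noncomputable def a327 : Net := (.cons 40 (nat_lit 0x10070000)
 (.cons 20 (nat_lit 0x50000000c0000)
 (.cons 10 (nat_lit 0x2001400003800000)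
 (.cons 5 (nat_lit 0x8030060001002002)
 (.cons 1 (nat_lit 0x40008000)
 (.cons 1 (nat_lit 0x280050000)
 (.cons 1 (nat_lit 0x5080800100428085)
 (.cons 1 (nat_lit 0x2100400280852042)
 (.cons 1 (nat_lit 0x405080810140408085)
 (.cons 5 (nat_lit 0x8010020001002002)
 (.cons 10 (nat_lit 0x2001400001800000)
 (.cons 20 (nat_lit 0x50000000c0000)
 (.cons 40 (nat_lit 0x10070000)
 .nil)))))))))))))
noncomputable def a328 : Net := (.cons 40 (nat_lit 0xa4a4cba524)
 (.cons 20 (nat_lit 0xf2a0200000a49e0)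
 (.cons 10 (nat_lit 0x204001d0003a200248)
 (.cons 5 (nat_lit 0x58000481c0381906018)
 (.cons 1 (nat_lit 0x10042000000)
 (.cons 1 (nat_lit 0x121405000a0284a00002)
 (.cons 1 (nat_lit 0x2108521004214a501485)
 (.cons 1 (nat_lit 0x409425210a1294202902)
 (.cons 1 (nat_lit 0x52140101401014a5)
 (.cons 5 (nat_lit 0x2000048180000606018)
 (.cons 10 (nat_lit 0x204001d0003a200240)
 (.cons 20 (nat_lit 0xf2a0000000a49e0)
 (.cons 40 (nat_lit 0xa4a4cb2504)
 .nil)))))))))))))
noncomputable def a329 : Net := (.cons 40 (nat_lit 0x1380840000)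
 (.cons 20 (nat_lit 0xb4d0000000c0040)
 (.cons 10 (nat_lit 0x21a001400012000000)
 (.cons 5 (nat_lit 0x180101a0000a01000)
 (.cons 1 (nat_lit 0x8000)
 (.cons 1 (nat_lit 0x50000)
 (.cons 1 (nat_lit 0x5080840000020000)
 (.cons 1 (nat_lit 0x1010a100420000050800)
 (.cons 1 (nat_lit 0x1405080840000108000)
 (.cons 5 (nat_lit 0x18010000000201000)
 (.cons 10 (nat_lit 0x21a001400010000000)
 (.cons 20 (nat_lit 0xb450000000c0040)
 (.cons 40 (nat_lit 0x1380840000)
 .nil)))))))))))))
noncomputable def a330 : Net := (.cons 40 (nat_lit 0x1380840000)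
 (.cons 20 (nat_lit 0xb4d0000000c0040)
 (.cons 10 (nat_lit 0x21a001400012000000)
 (.cons 5 (nat_lit 0x180101a0000a01000)
 (.cons 1 (nat_lit 0x8000)
 (.cons 1 (nat_lit 0x50000)
 (.cons 1 (nat_lit 0x5080840000020000)
 (.cons 1 (nat_lit 0x1010a100420000050800)
 (.cons 1 (nat_lit 0x1405080840000108000)
 (.cons 5 (nat_lit 0x18010000000201000)
 (.cons 10 (nat_lit 0x21a001400010000000)
 (.cons 20 (nat_lit 0xb450000000c0040)
 (.cons 40 (nat_lit 0x1380840000)
 .nil)))))))))))))
noncomputable def a331 : Net := (.cons 40 (nat_lit 0x210000000)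
 (.cons 20 (nat_lit 0xc24000000068000)
 (.cons 10 (nat_lit 0x30a000000000800200)
 (.cons 5 (nat_lit 0x2018000140000405000)
 (.cons 1 (nat_lit 0x800000020)
 (.cons 1 (nat_lit 0x5000000140)
 (.cons 1 (nat_lit 0x4000002008001480)
 (.cons 1 (nat_lit 0x8120005010240940)
 (.cons 1 (nat_lit 0x404000000908001420)
 (.cons 5 (nat_lit 0x10000000000404000)
 (.cons 10 (nat_lit 0x202000000000800200)
 (.cons 20 (nat_lit 0xc24000000068000)
 (.cons 40 (nat_lit 0x210000000)
 .nil)))))))))))))
noncomputable def a332 : Net := (.cons 40 (nat_lit 0xef79be9988)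
 (.cons 20 (nat_lit 0xc9fb40000036241)
 (.cons 10 (nat_lit 0x20f002a0002d800066)
 (.cons 5 (nat_lit 0x34150300b0400402018)
 (.cons 1 (nat_lit 0x1000000000000008000)
 (.cons 1 (nat_lit 0x2802500480280a50940)
 (.cons 1 (nat_lit 0x214a42148401004214a0)
 (.cons 1 (nat_lit 0x4094a5290a0280a50942)
 (.cons 1 (nat_lit 0x200a4214800002009480)
 (.cons 5 (nat_lit 0x1000030140400002010)
 (.cons 10 (nat_lit 0x1b0002a0002d000060)
 (.cons 20 (nat_lit 0x9ab80000036200)
 (.cons 40 (nat_lit 0xef79be1800)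
 .nil)))))))))))))
noncomputable def a333 : Net := (.cons 40 (nat_lit 0x614050000)
 (.cons 20 (nat_lit 0x204000000a0840)
 (.cons 10 (nat_lit 0x140001600003800000)
 (.cons 5 (nat_lit 0x6000000160300201000)
 (.cons 1 (nat_lit 0x40008000)
 (.cons 1 (nat_lit 0x50000000000280050000)
 (.cons 1 (nat_lit 0x20000000800140020000)
 (.cons 1 (nat_lit 0x50000020400284050000)
 (.cons 1 (nat_lit 0x80812040108000)
 (.cons 5 (nat_lit 0x4000000020300200000)
 (.cons 10 (nat_lit 0x140001600001800000)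
 (.cons 20 (nat_lit 0x204000000a0840)
 (.cons 40 (nat_lit 0x614050000)
 .nil)))))))))))))
noncomputable def a334 : Net := (.cons 40 (nat_lit 0xc951dec310)
 (.cons 20 (nat_lit 0x9d5b800000348ec)
 (.cons 10 (nat_lit 0x1c0002a000252002ab)
 (.cons 5 (nat_lit 0x201d0700b000000180e)
 (.cons 1 (nat_lit 0x400010000000001000)
 (.cons 1 (nat_lit 0x2800028480000202800)
 (.cons 1 (nat_lit 0x9004014842102521405)
 (.cons 1 (nat_lit 0x129420290a4084a4084a)
 (.cons 1 (nat_lit 0x9404210802100529025)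
 (.cons 5 (nat_lit 0x201c070140000403006)
 (.cons 10 (nat_lit 0x1c0002a00025200380)
 (.cons 20 (nat_lit 0x9d5b80000020008)
 (.cons 40 (nat_lit 0xc951d6c310)
 .nil)))))))))))))
noncomputable def a335 : Net := (.cons 40 (nat_lit 0x210000000)
 (.cons 20 (nat_lit 0xc24000000068000)
 (.cons 10 (nat_lit 0x30a000000000800200)
 (.cons 5 (nat_lit 0x2018000140000405000)
 (.cons 1 (nat_lit 0x800000020)
 (.cons 1 (nat_lit 0x5000000140)
 (.cons 1 (nat_lit 0x4000002008001480)
 (.cons 1 (nat_lit 0x8120005010240940)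
 (.cons 1 (nat_lit 0x404000000908001420)
 (.cons 5 (nat_lit 0x10000000000404000)
 (.cons 10 (nat_lit 0x202000000000800200)
 (.cons 20 (nat_lit 0xc24000000068000)
 (.cons 40 (nat_lit 0x210000000)
 .nil)))))))))))))
noncomputable def a336 : Net := (.cons 40 (nat_lit 0x1714870800)
 (.cons 20 (nat_lit 0x8d5280000070860)
 (.cons 10 (nat_lit 0x21a0014e0013000000)
 (.cons 5 (nat_lit 0x3018050160001a01416)
 (.cons 1 (nat_lit 0x840000400)
 (.cons 1 (nat_lit 0x10000500005280040800)
 (.cons 1 (nat_lit 0x28005200802900429085)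
 (.cons 1 (nat_lit 0x1010a50840528481294a)
 (.cons 1 (nat_lit 0x425010010840528485)
 (.cons 5 (nat_lit 0x30180600a0001206002)
 (.cons 10 (nat_lit 0x21a000c00011000020)
 (.cons 20 (nat_lit 0x8d52800000f8040)
 (.cons 40 (nat_lit 0x1714870800)
 .nil)))))))))))))
noncomputable def a337 : Net := (.cons 40 (nat_lit 0x10070000)
 (.cons 20 (nat_lit 0x50000000c0000)
 (.cons 10 (nat_lit 0x2001400003800000)
 (.cons 5 (nat_lit 0x8030060001002002)
 (.cons 1 (nat_lit 0x40008000)
 (.cons 1 (nat_lit 0x280050000)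
 (.cons 1 (nat_lit 0x5080800100428085)
 (.cons 1 (nat_lit 0x2100400280852042)
 (.cons 1 (nat_lit 0x405080810140408085)
 (.cons 5 (nat_lit 0x8010020001002002)
 (.cons 10 (nat_lit 0x2001400001800000)
 (.cons 20 (nat_lit 0x50000000c0000)
 (.cons 40 (nat_lit 0x10070000)
 .nil)))))))))))))
noncomputable def a338 : Net := (.cons 40 (nat_lit 0x1290000000)
 (.cons 20 (nat_lit 0x1490000000a0000)
 (.cons 10 (nat_lit 0x1400000800000)
 (.cons 5 (nat_lit 0x80301c0000401016)
 (.cons 1 (nat_lit 0x8000)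
 (.cons 1 (nat_lit 0x50000)
 (.cons 1 (nat_lit 0x5080800000020085)
 (.cons 1 (nat_lit 0x200210040000025014a)
 (.cons 1 (nat_lit 0x5080800100008085)
 (.cons 5 (nat_lit 0x8010080000400002)
 (.cons 10 (nat_lit 0x1400000800000)
 (.cons 20 (nat_lit 0x1410000000a0000)
 (.cons 40 (nat_lit 0x1290000000)
 .nil)))))))))))))
noncomputable def a339 : Net := (.cons 40 (nat_lit 0x1280070000)
 (.cons 20 (nat_lit 0x4c080000070000)
 (.cons 10 (nat_lit 0x42001400003000000)
 (.cons 5 (nat_lit 0x8000120000405014)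
 (.cons 1 (nat_lit 0x40000000)
 (.cons 1 (nat_lit 0x280000000)
 (.cons 1 (nat_lit 0x80000800108000084)
 (.cons 1 (nat_lit 0x2040000401290240108)
 (.cons 1 (nat_lit 0x480000810048000084)
 (.cons 5 (nat_lit 0x8000020000404000)
 (.cons 10 (nat_lit 0x42001400001000000)
 (.cons 20 (nat_lit 0x44080000070000)
 (.cons 40 (nat_lit 0x1280070000)
 .nil)))))))))))))
noncomputable def a340 : Net := (.cons 40 (nat_lit 0x1684000000)
 (.cons 20 (nat_lit 0xd28400000001040)
 (.cons 10 (nat_lit 0x340000600000000020)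
 (.cons 5 (nat_lit 0x4018000180100201014)
 (.cons 1 (nat_lit 0x8000)
 (.cons 1 (nat_lit 0x50000000000000050800)
 (.cons 1 (nat_lit 0x20004000800000021484)
 (.cons 1 (nat_lit 0x50008020400004050908)
 (.cons 1 (nat_lit 0x4080800000109484)
 (.cons 5 (nat_lit 0x4010000080000201000)
 (.cons 10 (nat_lit 0x340000600000000020)
 (.cons 20 (nat_lit 0xd20400000001040)
 (.cons 40 (nat_lit 0x1684000000)
 .nil)))))))))))))
noncomputable def a341 : Net := (.cons 40 (nat_lit 0x404870800)
 (.cons 20 (nat_lit 0x804400000040040)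
 (.cons 10 (nat_lit 0x242001600013000200)
 (.cons 5 (nat_lit 0x4010010020001a04000)
 (.cons 1 (nat_lit 0x40000020)
 (.cons 1 (nat_lit 0x50000000000280000140)
 (.cons 1 (nat_lit 0x20004000800100401480)
 (.cons 1 (nat_lit 0x50008008400280850940)
 (.cons 1 (nat_lit 0x404080810040501420)
 (.cons 5 (nat_lit 0x4010010020001204000)
 (.cons 10 (nat_lit 0x242001600011000200)
 (.cons 20 (nat_lit 0x804400000040040)
 (.cons 40 (nat_lit 0x404870800)
 .nil)))))))))))))
noncomputable def a342 : Net := (.cons 40 (nat_lit 0x1714870800)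
 (.cons 20 (nat_lit 0x8d5280000070860)
 (.cons 10 (nat_lit 0x21a0014e0013000000)
 (.cons 5 (nat_lit 0x3018050160001a01416)
 (.cons 1 (nat_lit 0x840000400)
 (.cons 1 (nat_lit 0x10000500005280040800)
 (.cons 1 (nat_lit 0x28005200802900429085)
 (.cons 1 (nat_lit 0x1010a50840528481294a)
 (.cons 1 (nat_lit 0x425010010840528485)
 (.cons 5 (nat_lit 0x30180600a0001206002)
 (.cons 10 (nat_lit 0x21a000c00011000020)
 (.cons 20 (nat_lit 0x8d52800000f8040)
 (.cons 40 (nat_lit 0x1714870800)
 .nil)))))))))))))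
noncomputable def a343 : Net := (.cons 40 (nat_lit 0xf9fba5c648)
 (.cons 20 (nat_lit 0xa4d7c00000e3b1c)
 (.cons 10 (nat_lit 0x1460006b003f800171)
 (.cons 5 (nat_lit 0x34070140d0281c00006)
 (.cons 1 (nat_lit 0x400000)
 (.cons 1 (nat_lit 0x12000408005080a00000)
 (.cons 1 (nat_lit 0x214a5214042908521424)
 (.cons 1 (nat_lit 0x40942508081210210848)
 (.cons 1 (nat_lit 0x28481004202800129400)
 (.cons 5 (nat_lit 0x38120001a0400002004)
 (.cons 10 (nat_lit 0x380003a4001e000178)
 (.cons 20 (nat_lit 0xadfe800000e1abc)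
 (.cons 40 (nat_lit 0xf9f78ddb00)
 .nil)))))))))))))
noncomputable def a344 : Net := (.cons 40 (nat_lit 0x6fb5ba5177)
 (.cons 20 (nat_lit 0x4db0f00000adc0c)
 (.cons 10 (nat_lit 0x9400054003e600122)
 (.cons 5 (nat_lit 0x81d0681c0681a02c0c)
 (.cons 1 (nat_lit 0x20000000800000000)
 (.cons 1 (nat_lit 0x4a101005000a10040)
 (.cons 1 (nat_lit 0x10a4280842002421080)
 (.cons 1 (nat_lit 0x1214a1084a5084a50948)
 (.cons 1 (nat_lit 0x280a1214a10948009080)
 (.cons 5 (nat_lit 0x280e0300c0781c00808)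
 (.cons 10 (nat_lit 0x13800280003c00026a)
 (.cons 20 (nat_lit 0x2f914000002d800)
 (.cons 40 (nat_lit 0x6fb9a5eb30)
 .nil)))))))))))))
noncomputable def a345 : Net := (.cons 40 (nat_lit 0x2280929d48)
 (.cons 20 (nat_lit 0xb767400000efb8c)
 (.cons 10 (nat_lit 0x212001840023e00195)
 (.cons 5 (nat_lit 0x1013020070000c0500e)
 (.cons 1 (nat_lit 0x24000000002000480)
 (.cons 1 (nat_lit 0x4a000000084810940)
 (.cons 1 (nat_lit 0x14850000001085210a0)
 (.cons 1 (nat_lit 0x1290a008021290a42148)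
 (.cons 1 (nat_lit 0x102401005000a001421)
 (.cons 5 (nat_lit 0x180000e0000200004)
 (.cons 10 (nat_lit 0x60000400234000d0)
 (.cons 20 (nat_lit 0xb7750000007ecc2)
 (.cons 40 (nat_lit 0x22802111e4)
 .nil)))))))))))))
noncomputable def a346 : Net := (.cons 40 (nat_lit 0x1a8c62adc2)
 (.cons 20 (nat_lit 0x19b400000918aa)
 (.cons 10 (nat_lit 0x164003f2002900012a)
 (.cons 5 (nat_lit 0x100c010180300c00010)
 (.cons 1 (nat_lit 0x200000002100000)
 (.cons 1 (nat_lit 0x485080a5094a00840)
 (.cons 1 (nat_lit 0x10a429485214a421485)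
 (.cons 1 (nat_lit 0x84a5090a5094a4090a)
 (.cons 1 (nat_lit 0x29001214a00142020085)
 (.cons 5 (nat_lit 0x100c010100200200010)
 (.cons 10 (nat_lit 0x164003f2002060001a)
 (.cons 20 (nat_lit 0x1936000009587a)
 (.cons 40 (nat_lit 0x1a8c72ad50)
 .nil)))))))))))))
noncomputable def a347 : Net := (.cons 40 (nat_lit 0x2022a8ac6)
 (.cons 20 (nat_lit 0x412000000ed9d5)
 (.cons 10 (nat_lit 0x1100026d003e600001)
 (.cons 5 (nat_lit 0x2004054150000704c14)
 (.cons 1 (nat_lit 0x5004000000101001)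
 (.cons 1 (nat_lit 0xa009084014202842)
 (.cons 1 (nat_lit 0x25010a4200a529485)
 (.cons 1 (nat_lit 0x4a021425014a1290a)
 (.cons 1 (nat_lit 0x25014212002000024)
 (.cons 5 (nat_lit 0x4040000000a04008)
 (.cons 10 (nat_lit 0x110000ae002640014c)
 (.cons 20 (nat_lit 0x410a0000000e16)
 (.cons 40 (nat_lit 0x202c61078)
 .nil)))))))))))))
noncomputable def a348 : Net := (.cons 40 (nat_lit 0x254c8d5508)
 (.cons 20 (nat_lit 0xecf5000000c27d0)
 (.cons 10 (nat_lit 0x2e9000f0000a30039a)
 (.cons 5 (nat_lit 0x1808018000580e0500a)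
 (.cons 1 (nat_lit 0x100000004a000080)
 (.cons 1 (nat_lit 0x5000a0080a0294202940)
 (.cons 1 (nat_lit 0x2102509405014a4010a5)
 (.cons 1 (nat_lit 0x5284a108420294a5294a)
 (.cons 1 (nat_lit 0x20025094000102000025)
 (.cons 5 (nat_lit 0x100800800070040501e)
 (.cons 10 (nat_lit 0xea00030002c8003ba)
 (.cons 20 (nat_lit 0xe8f5a000004a7f8)
 (.cons 40 (nat_lit 0x254cf55258)
 .nil)))))))))))))
noncomputable def a349 : Net := (.cons 40 (nat_lit 0x1b0eccb9f7)
 (.cons 20 (nat_lit 0x31a7700000c474a)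
 (.cons 10 (nat_lit 0x24000079000d000052)
 (.cons 5 (nat_lit 0x68040200a028180300a)
 (.cons 1 (nat_lit 0x4000000040109401)
 (.cons 1 (nat_lit 0x1200a500025080212942)
 (.cons 1 (nat_lit 0x29005214842100421485)
 (.cons 1 (nat_lit 0x1280250848528084294a)
 (.cons 1 (nat_lit 0x24084810000528081)
 (.cons 5 (nat_lit 0x6004020000201403010)
 (.cons 10 (nat_lit 0x22c00130002c0000c8)
 (.cons 20 (nat_lit 0x23a900000080e44)
 (.cons 40 (nat_lit 0x1b0e2c1210)
 .nil)))))))))))))
noncomputable def a350 : Net := (.cons 40 (nat_lit 0x1b884ea180)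
 (.cons 20 (nat_lit 0x723c400000f0d58)
 (.cons 10 (nat_lit 0x3e40020a002c00027d)
 (.cons 5 (nat_lit 0x6008050000200802004)
 (.cons 1 (nat_lit 0x200140000020)
 (.cons 1 (nat_lit 0x28025014a5294a00142)
 (.cons 1 (nat_lit 0x2100528085214a521485)
 (.cons 1 (nat_lit 0x128025014a5294a40942)
 (.cons 1 (nat_lit 0x210a0004200140029425)
 (.cons 5 (nat_lit 0x600805000020000000c)
 (.cons 10 (nat_lit 0x3e4002020008000360)
 (.cons 20 (nat_lit 0x7234400000f0c50)
 (.cons 40 (nat_lit 0x1b884ea180)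
 .nil)))))))))))))
noncomputable def a351 : Net := (.cons 40 (nat_lit 0x1684010000)
 (.cons 20 (nat_lit 0x29480000048000)
 (.cons 10 (nat_lit 0x40000640001800200)
 (.cons 5 (nat_lit 0x4008000160001004000)
 (.cons 1 (nat_lit 0x840000020)
 (.cons 1 (nat_lit 0x50000000005280000140)
 (.cons 1 (nat_lit 0x20085000202100401480)
 (.cons 1 (nat_lit 0x50042020405280840940)
 (.cons 1 (nat_lit 0x85080210940401420)
 (.cons 5 (nat_lit 0x4008000060001004000)
 (.cons 10 (nat_lit 0x40000640001800200)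
 (.cons 20 (nat_lit 0x21480000048000)
 (.cons 40 (nat_lit 0x1684010000)
 .nil)))))))))))))
noncomputable def a352 : Net := (.cons 40 (nat_lit 0x10070000)
 (.cons 20 (nat_lit 0x50000000c0000)
 (.cons 10 (nat_lit 0x2001400003800000)
 (.cons 5 (nat_lit 0x8030060001002002)
 (.cons 1 (nat_lit 0x40008000)
 (.cons 1 (nat_lit 0x280050000)
 (.cons 1 (nat_lit 0x5080800100428085)
 (.cons 1 (nat_lit 0x2100400280852042)
 (.cons 1 (nat_lit 0x405080810140408085)
 (.cons 5 (nat_lit 0x8010020001002002)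
 (.cons 10 (nat_lit 0x2001400001800000)
 (.cons 20 (nat_lit 0x50000000c0000)
 (.cons 40 (nat_lit 0x10070000)
 .nil)))))))))))))
noncomputable def a353 : Net := (.cons 40 (nat_lit 0x1380840000)
 (.cons 20 (nat_lit 0xb4d0000000c0040)
 (.cons 10 (nat_lit 0x21a001400012000000)
 (.cons 5 (nat_lit 0x180101a0000a01000)
 (.cons 1 (nat_lit 0x8000)
 (.cons 1 (nat_lit 0x50000)
 (.cons 1 (nat_lit 0x5080840000020000)
 (.cons 1 (nat_lit 0x1010a100420000050800)
 (.cons 1 (nat_lit 0x1405080840000108000)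
 (.cons 5 (nat_lit 0x18010000000201000)
 (.cons 10 (nat_lit 0x21a001400010000000)
 (.cons 20 (nat_lit 0xb450000000c0040)
 (.cons 40 (nat_lit 0x1380840000)
 .nil)))))))))))))
noncomputable def a354 : Net := (.cons 40 (nat_lit 0x1714870800)
 (.cons 20 (nat_lit 0x8d5280000070860)
 (.cons 10 (nat_lit 0x21a0014e0013000000)
 (.cons 5 (nat_lit 0x3018050160001a01416)
 (.cons 1 (nat_lit 0x840000400)
 (.cons 1 (nat_lit 0x10000500005280040800)
 (.cons 1 (nat_lit 0x28005200802900429085)
 (.cons 1 (nat_lit 0x1010a50840528481294a)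
 (.cons 1 (nat_lit 0x425010010840528485)
 (.cons 5 (nat_lit 0x30180600a0001206002)
 (.cons 10 (nat_lit 0x21a000c00011000020)
 (.cons 20 (nat_lit 0x8d52800000f8040)
 (.cons 40 (nat_lit 0x1714870800)
 .nil)))))))))))))
noncomputable def a355 : Net := (.cons 40 (nat_lit 0x68980e103b)
 (.cons 20 (nat_lit 0x1f8a400000f7c53)
 (.cons 10 (nat_lit 0x9e0030d003b50004b)
 (.cons 5 (nat_lit 0x8140200207c1407819)
 (.cons 1 (nat_lit 0x20000010000020001)
 (.cons 1 (nat_lit 0x101400084a0280850102)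
 (.cons 1 (nat_lit 0x29080094840100528084)
 (.cons 1 (nat_lit 0x109405094a4284210048)
 (.cons 1 (nat_lit 0x290a5080002848020421)
 (.cons 5 (nat_lit 0x3810020100300003004)
 (.cons 10 (nat_lit 0xbe0030c003e000206)
 (.cons 20 (nat_lit 0x5f82800000e2c50)
 (.cons 40 (nat_lit 0x6898a2d276)
 .nil)))))))))))))
noncomputable def a356 : Net := (.cons 40 (nat_lit 0x34f0c14d42)
 (.cons 20 (nat_lit 0x644e000000f3130)
 (.cons 10 (nat_lit 0x23003ef003380001f)
 (.cons 5 (nat_lit 0x6816000100000403000)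
 (.cons 1 (nat_lit 0x40002008400)
 (.cons 1 (nat_lit 0x1000a0294a0014210800)
 (.cons 1 (nat_lit 0x21005014a5000a521004)
 (.cons 1 (nat_lit 0x4084a4294a021424280a)
 (.cons 1 (nat_lit 0x29405004052002028001)
 (.cons 5 (nat_lit 0x601c040060000803006)
 (.cons 10 (nat_lit 0x122003f4002d800204)
 (.cons 20 (nat_lit 0x700ec00000b3102)
 (.cons 40 (nat_lit 0x34f03651c2)
 .nil)))))))))))))
noncomputable def a357 : Net := (.cons 40 (nat_lit 0x6938e3d37)
 (.cons 20 (nat_lit 0x567a8000002c6c9)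
 (.cons 10 (nat_lit 0x3d400100002960021e)
 (.cons 5 (nat_lit 0x701a04803040160001f)
 (.cons 1 (nat_lit 0x80000000040000000)
 (.cons 1 (nat_lit 0x2940000080280012000)
 (.cons 1 (nat_lit 0x14a40100509485214a4)
 (.cons 1 (nat_lit 0x9425200a1290a5084a)
 (.cons 1 (nat_lit 0x200840800520480284a4)
 (.cons 5 (nat_lit 0x2010018000400604012)
 (.cons 10 (nat_lit 0x2ce001000021600094)
 (.cons 20 (nat_lit 0x5069400000d5280)
 (.cons 40 (nat_lit 0x6939c4f02)
 .nil)))))))))))))
noncomputable def a358 : Net := (.cons 40 (nat_lit 0x230ca73d48)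
 (.cons 20 (nat_lit 0x8cf180000050784)
 (.cons 10 (nat_lit 0x64001c8003330020e)
 (.cons 5 (nat_lit 0x28190300b0440204c12)
 (.cons 1 (nat_lit 0x404000002802000080)
 (.cons 1 (nat_lit 0x80a000005284842940)
 (.cons 1 (nat_lit 0x210a500025290a5214a1)
 (.cons 1 (nat_lit 0x4214a00042529425294a)
 (.cons 1 (nat_lit 0x14a4200a12802121481)
 (.cons 5 (nat_lit 0x600002004048120401a)
 (.cons 10 (nat_lit 0x60001c00020200326)
 (.cons 20 (nat_lit 0x8ff1c00000800aa)
 (.cons 40 (nat_lit 0x230ca73d08)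
 .nil)))))))))))))
noncomputable def a359 : Net := (.cons 40 (nat_lit 0xbf6eefab22)
 (.cons 20 (nat_lit 0xf6f670000002b24)
 (.cons 10 (nat_lit 0x2a60023e0012e00302)
 (.cons 5 (nat_lit 0x401f03c130001201418)
 (.cons 1 (nat_lit 0x400080200000000004)
 (.cons 1 (nat_lit 0x5284a12940000000200a)
 (.cons 1 (nat_lit 0x294a4214842808521005)
 (.cons 1 (nat_lit 0x5284a42942108421294a)
 (.cons 1 (nat_lit 0x21481004212808500081)
 (.cons 5 (nat_lit 0x401c070020200200000)
 (.cons 10 (nat_lit 0x308002be0012e002d0)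
 (.cons 20 (nat_lit 0x55fa40000002324)
 (.cons 40 (nat_lit 0xbf6e6baa00)
 .nil)))))))))))))
noncomputable def a360 : Net := (.cons 40 (nat_lit 0x1494030000)
 (.cons 20 (nat_lit 0x80d480000030000)
 (.cons 10 (nat_lit 0x242001ec0001000000)
 (.cons 5 (nat_lit 0x40180300e0000401000)
 (.cons 1 (nat_lit 0x40000000)
 (.cons 1 (nat_lit 0x50000000000280000000)
 (.cons 1 (nat_lit 0x20085000200100000000)
 (.cons 1 (nat_lit 0x5004a000401280200000)
 (.cons 1 (nat_lit 0x485080210040000000)
 (.cons 5 (nat_lit 0x4018000060000400000)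
 (.cons 10 (nat_lit 0x242000e40001000000)
 (.cons 20 (nat_lit 0x805480000030000)
 (.cons 40 (nat_lit 0x1494030000)
 .nil)))))))))))))
noncomputable def a361 : Net := (.cons 40 (nat_lit 0x10000)
 (.cons 20 (nat_lit 0xc010000000e0840)
 (.cons 10 (nat_lit 0x208000400001800000)
 (.cons 5 (nat_lit 0x2018010020301203014)
 (.cons 1 (nat_lit 0x40008000)
 (.cons 1 (nat_lit 0x280050000)
 (.cons 1 (nat_lit 0x5080000140420084)
 (.cons 1 (nat_lit 0xa100000284852108)
 (.cons 1 (nat_lit 0x5080012040508084)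
 (.cons 5 (nat_lit 0x18010020301202000)
 (.cons 10 (nat_lit 0x208000400001800000)
 (.cons 20 (nat_lit 0xc010000000e0840)
 (.cons 40 (nat_lit 0x10000)
 .nil)))))))))))))
noncomputable def a362 : Net := (.cons 40 (nat_lit 0x210030800)
 (.cons 20 (nat_lit 0x45000000000040)
 (.cons 10 (nat_lit 0x2001400001000020)
 (.cons 5 (nat_lit 0x8030160000200014)
 (.cons 1 (nat_lit 0x40008000)
 (.cons 1 (nat_lit 0x280050000)
 (.cons 1 (nat_lit 0x5080000100029484)
 (.cons 1 (nat_lit 0x2002108000280050908)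
 (.cons 1 (nat_lit 0x405080010040109484)
 (.cons 5 (nat_lit 0x8010020000200000)
 (.cons 10 (nat_lit 0x2001400001000020)
 (.cons 20 (nat_lit 0x45000000000040)
 (.cons 40 (nat_lit 0x210030800)
 .nil)))))))))))))
noncomputable def a363 : Net := (.cons 40 (nat_lit 0x1280070000)
 (.cons 20 (nat_lit 0x4c080000070000)
 (.cons 10 (nat_lit 0x42001400003000000)
 (.cons 5 (nat_lit 0x8000120000405014)
 (.cons 1 (nat_lit 0x40000000)
 (.cons 1 (nat_lit 0x280000000)
 (.cons 1 (nat_lit 0x80000800108000084)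
 (.cons 1 (nat_lit 0x2040000401290240108)
 (.cons 1 (nat_lit 0x480000810048000084)
 (.cons 5 (nat_lit 0x8000020000404000)
 (.cons 10 (nat_lit 0x42001400001000000)
 (.cons 20 (nat_lit 0x44080000070000)
 (.cons 40 (nat_lit 0x1280070000)
 .nil)))))))))))))
noncomputable def a364 : Net := (.cons 40 (nat_lit 0x404870800)
 (.cons 20 (nat_lit 0x804400000040040)
 (.cons 10 (nat_lit 0x242001600013000200)
 (.cons 5 (nat_lit 0x4010010020001a04000)
 (.cons 1 (nat_lit 0x40000020)
 (.cons 1 (nat_lit 0x50000000000280000140)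
 (.cons 1 (nat_lit 0x20004000800100401480)
 (.cons 1 (nat_lit 0x50008008400280850940)
 (.cons 1 (nat_lit 0x404080810040501420)
 (.cons 5 (nat_lit 0x4010010020001204000)
 (.cons 10 (nat_lit 0x242001600011000200)
 (.cons 20 (nat_lit 0x804400000040040)
 (.cons 40 (nat_lit 0x404870800)
 .nil)))))))))))))
noncomputable def a365 : Net := (.cons 40 (nat_lit 0x614050000)
 (.cons 20 (nat_lit 0x204000000a0840)
 (.cons 10 (nat_lit 0x140001600003800000)
 (.cons 5 (nat_lit 0x6000000160300201000)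
 (.cons 1 (nat_lit 0x40008000)
 (.cons 1 (nat_lit 0x50000000000280050000)
 (.cons 1 (nat_lit 0x20000000800140020000)
 (.cons 1 (nat_lit 0x50000020400284050000)
 (.cons 1 (nat_lit 0x80812040108000)
 (.cons 5 (nat_lit 0x4000000020300200000)
 (.cons 10 (nat_lit 0x140001600001800000)
 (.cons 20 (nat_lit 0x204000000a0840)
 (.cons 40 (nat_lit 0x614050000)
 .nil)))))))))))))
noncomputable def a366 : Net := (.cons 40 (nat_lit 0x1380840000)
 (.cons 20 (nat_lit 0xb4d0000000c0040)
 (.cons 10 (nat_lit 0x21a001400012000000)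
 (.cons 5 (nat_lit 0x180101a0000a01000)
 (.cons 1 (nat_lit 0x8000)
 (.cons 1 (nat_lit 0x50000)
 (.cons 1 (nat_lit 0x5080840000020000)
 (.cons 1 (nat_lit 0x1010a100420000050800)
 (.cons 1 (nat_lit 0x1405080840000108000)
 (.cons 5 (nat_lit 0x18010000000201000)
 (.cons 10 (nat_lit 0x21a001400010000000)
 (.cons 20 (nat_lit 0xb450000000c0040)
 (.cons 40 (nat_lit 0x1380840000)
 .nil)))))))))))))
noncomputable def a367 : Net := (.cons 40 (nat_lit 0x1494030000)
 (.cons 20 (nat_lit 0x80d480000030000)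
 (.cons 10 (nat_lit 0x242001ec0001000000)
 (.cons 5 (nat_lit 0x40180300e0000401000)
 (.cons 1 (nat_lit 0x40000000)
 (.cons 1 (nat_lit 0x50000000000280000000)
 (.cons 1 (nat_lit 0x20085000200100000000)
 (.cons 1 (nat_lit 0x5004a000401280200000)
 (.cons 1 (nat_lit 0x485080210040000000)
 (.cons 5 (nat_lit 0x4018000060000400000)
 (.cons 10 (nat_lit 0x242000e40001000000)
 (.cons 20 (nat_lit 0x805480000030000)
 (.cons 40 (nat_lit 0x1494030000)
 .nil)))))))))))))
noncomputable def a368 : Net := (.cons 40 (nat_lit 0x9bb2539e20)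
 (.cons 20 (nat_lit 0x97c500000ea732)
 (.cons 10 (nat_lit 0x34b001d2000f900172)
 (.cons 5 (nat_lit 0x48040601e0301801816)
 (.cons 1 (nat_lit 0x20000000000000400)
 (.cons 1 (nat_lit 0x140000005000012802)
 (.cons 1 (nat_lit 0x21080000802102429005)
 (.cons 1 (nat_lit 0x12140109085214a12902)
 (.cons 1 (nat_lit 0x21421000050102428405)
 (.cons 5 (nat_lit 0x4802000000101800010)
 (.cons 10 (nat_lit 0x302001d2000f8001b4)
 (.cons 20 (nat_lit 0x11fc400000ea732)
 (.cons 40 (nat_lit 0x9bb2539e00)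
 .nil)))))))))))))
noncomputable def a369 : Net := (.cons 40 (nat_lit 0xa4a4cba524)
 (.cons 20 (nat_lit 0xf2a0200000a49e0)
 (.cons 10 (nat_lit 0x204001d0003a200248)
 (.cons 5 (nat_lit 0x58000481c0381906018)
 (.cons 1 (nat_lit 0x10042000000)
 (.cons 1 (nat_lit 0x121405000a0284a00002)
 (.cons 1 (nat_lit 0x2108521004214a501485)
 (.cons 1 (nat_lit 0x409425210a1294202902)
 (.cons 1 (nat_lit 0x52140101401014a5)
 (.cons 5 (nat_lit 0x2000048180000606018)
 (.cons 10 (nat_lit 0x204001d0003a200240)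
 (.cons 20 (nat_lit 0xf2a0000000a49e0)
 (.cons 40 (nat_lit 0xa4a4cb2504)
 .nil)))))))))))))
noncomputable def a370 : Net := (.cons 40 (nat_lit 0x1684000000)
 (.cons 20 (nat_lit 0xd28400000001040)
 (.cons 10 (nat_lit 0x340000600000000020)
 (.cons 5 (nat_lit 0x4018000180100201014)
 (.cons 1 (nat_lit 0x8000)
 (.cons 1 (nat_lit 0x50000000000000050800)
 (.cons 1 (nat_lit 0x20004000800000021484)
 (.cons 1 (nat_lit 0x50008020400004050908)
 (.cons 1 (nat_lit 0x4080800000109484)
 (.cons 5 (nat_lit 0x4010000080000201000)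
 (.cons 10 (nat_lit 0x340000600000000020)
 (.cons 20 (nat_lit 0xd20400000001040)
 (.cons 40 (nat_lit 0x1684000000)
 .nil)))))))))))))
noncomputable def a371 : Net := (.cons 40 (nat_lit 0x404040000)
 (.cons 20 (nat_lit 0x5400000020020)
 (.cons 10 (nat_lit 0x42001000002800000)
 (.cons 5 (nat_lit 0x4008018080000401014)
 (.cons 1 (nat_lit 0x800008000)
 (.cons 1 (nat_lit 0x50000000005000050000)
 (.cons 1 (nat_lit 0x20005080042000021484)
 (.cons 1 (nat_lit 0x50002108025000250908)
 (.cons 1 (nat_lit 0x405080240900009484)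
 (.cons 5 (nat_lit 0x4008018080000400000)
 (.cons 10 (nat_lit 0x42001000000800020)
 (.cons 20 (nat_lit 0x54000000a8000)
 (.cons 40 (nat_lit 0x404040000)
 .nil)))))))))))))
noncomputable def a372 : Net := (.cons 40 (nat_lit 0x1380840000)
 (.cons 20 (nat_lit 0xb4d0000000c0040)
 (.cons 10 (nat_lit 0x21a001400012000000)
 (.cons 5 (nat_lit 0x180101a0000a01000)
 (.cons 1 (nat_lit 0x8000)
 (.cons 1 (nat_lit 0x50000)
 (.cons 1 (nat_lit 0x5080840000020000)
 (.cons 1 (nat_lit 0x1010a100420000050800)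
 (.cons 1 (nat_lit 0x1405080840000108000)
 (.cons 5 (nat_lit 0x18010000000201000)
 (.cons 10 (nat_lit 0x21a001400010000000)
 (.cons 20 (nat_lit 0xb450000000c0040)
 (.cons 40 (nat_lit 0x1380840000)
 .nil)))))))))))))
noncomputable def a373 : Net := (.cons 40 (nat_lit 0x1290000000)
 (.cons 20 (nat_lit 0x1490000000a0000)
 (.cons 10 (nat_lit 0x1400000800000)
 (.cons 5 (nat_lit 0x80301c0000401016)
 (.cons 1 (nat_lit 0x8000)
 (.cons 1 (nat_lit 0x50000)
 (.cons 1 (nat_lit 0x5080800000020085)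
 (.cons 1 (nat_lit 0x200210040000025014a)
 (.cons 1 (nat_lit 0x5080800100008085)
 (.cons 5 (nat_lit 0x8010080000400002)
 (.cons 10 (nat_lit 0x1400000800000)
 (.cons 20 (nat_lit 0x1410000000a0000)
 (.cons 40 (nat_lit 0x1290000000)
 .nil)))))))))))))
noncomputable def a374 : Net := (.cons 40 (nat_lit 0x10070000)
 (.cons 20 (nat_lit 0x50000000c0000)
 (.cons 10 (nat_lit 0x2001400003800000)
 (.cons 5 (nat_lit 0x8030060001002002)
 (.cons 1 (nat_lit 0x40008000)
 (.cons 1 (nat_lit 0x280050000)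
 (.cons 1 (nat_lit 0x5080800100428085)
 (.cons 1 (nat_lit 0x2100400280852042)
 (.cons 1 (nat_lit 0x405080810140408085)
 (.cons 5 (nat_lit 0x8010020001002002)
 (.cons 10 (nat_lit 0x2001400001800000)
 (.cons 20 (nat_lit 0x50000000c0000)
 (.cons 40 (nat_lit 0x10070000)
 .nil)))))))))))))
noncomputable def a375 : Net := (.cons 40 (nat_lit 0x1280070000)
 (.cons 20 (nat_lit 0x4c080000070000)
 (.cons 10 (nat_lit 0x42001400003000000)
 (.cons 5 (nat_lit 0x8000120000405014)
 (.cons 1 (nat_lit 0x40000000)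
 (.cons 1 (nat_lit 0x280000000)
 (.cons 1 (nat_lit 0x80000800108000084)
 (.cons 1 (nat_lit 0x2040000401290240108)
 (.cons 1 (nat_lit 0x480000810048000084)
 (.cons 5 (nat_lit 0x8000020000404000)
 (.cons 10 (nat_lit 0x42001400001000000)
 (.cons 20 (nat_lit 0x44080000070000)
 (.cons 40 (nat_lit 0x1280070000)
 .nil)))))))))))))
noncomputable def a376 : Net := (.cons 40 (nat_lit 0x210000000)
 (.cons 20 (nat_lit 0xc24000000068000)
 (.cons 10 (nat_lit 0x30a000000000800200)
 (.cons 5 (nat_lit 0x2018000140000405000)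
 (.cons 1 (nat_lit 0x800000020)
 (.cons 1 (nat_lit 0x5000000140)
 (.cons 1 (nat_lit 0x4000002008001480)
 (.cons 1 (nat_lit 0x8120005010240940)
 (.cons 1 (nat_lit 0x404000000908001420)
 (.cons 5 (nat_lit 0x10000000000404000)
 (.cons 10 (nat_lit 0x202000000000800200)
 (.cons 20 (nat_lit 0xc24000000068000)
 (.cons 40 (nat_lit 0x210000000)
 .nil)))))))))))))
noncomputable def a377 : Net := (.cons 40 (nat_lit 0x404870800)
 (.cons 20 (nat_lit 0x804400000040040)
 (.cons 10 (nat_lit 0x242001600013000200)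
 (.cons 5 (nat_lit 0x4010010020001a04000)
 (.cons 1 (nat_lit 0x40000020)
 (.cons 1 (nat_lit 0x50000000000280000140)
 (.cons 1 (nat_lit 0x20004000800100401480)
 (.cons 1 (nat_lit 0x50008008400280850940)
 (.cons 1 (nat_lit 0x404080810040501420)
 (.cons 5 (nat_lit 0x4010010020001204000)
 (.cons 10 (nat_lit 0x242001600011000200)
 (.cons 20 (nat_lit 0x804400000040040)
 (.cons 40 (nat_lit 0x404870800)
 .nil)))))))))))))
noncomputable def a378 : Net := (.cons 40 (nat_lit 0x614050000)
 (.cons 20 (nat_lit 0x204000000a0840)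
 (.cons 10 (nat_lit 0x140001600003800000)
 (.cons 5 (nat_lit 0x6000000160300201000)
 (.cons 1 (nat_lit 0x40008000)
 (.cons 1 (nat_lit 0x50000000000280050000)
 (.cons 1 (nat_lit 0x20000000800140020000)
 (.cons 1 (nat_lit 0x50000020400284050000)
 (.cons 1 (nat_lit 0x80812040108000)
 (.cons 5 (nat_lit 0x4000000020300200000)
 (.cons 10 (nat_lit 0x140001600001800000)
 (.cons 20 (nat_lit 0x204000000a0840)
 (.cons 40 (nat_lit 0x614050000)
 .nil)))))))))))))
noncomputable def a379 : Net := (.cons 40 (nat_lit 0x7c12814a9d)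
 (.cons 20 (nat_lit 0xed77000000d1224)
 (.cons 10 (nat_lit 0x25400118001f1002e9)
 (.cons 5 (nat_lit 0x4810008090081805c01)
 (.cons 1 (nat_lit 0x404000000800408020)
 (.cons 1 (nat_lit 0x4290a000001000a52040)
 (.cons 1 (nat_lit 0x294a5010252848529484)
 (.cons 1 (nat_lit 0x5284a0084a5084a50908)
 (.cons 1 (nat_lit 0x280002908521481084a1)
 (.cons 5 (nat_lit 0x4800020040601805008)
 (.cons 10 (nat_lit 0x26000092002fa000c2)
 (.cons 20 (nat_lit 0xfd67000000d14b0)
 (.cons 40 (nat_lit 0x7c0c11b102)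
 .nil)))))))))))))
noncomputable def a380 : Net := (.cons 40 (nat_lit 0x365ae4d18)
 (.cons 20 (nat_lit 0x2528700000aab21)
 (.cons 10 (nat_lit 0x2af0017700280000e5)
 (.cons 5 (nat_lit 0x2c020700a0300e0240d)
 (.cons 1 (nat_lit 0x400004000802000001)
 (.cons 1 (nat_lit 0x10808028401004a50002)
 (.cons 1 (nat_lit 0x29004290a020085284a4)
 (.cons 1 (nat_lit 0x5200a129425090252848)
 (.cons 1 (nat_lit 0x9405004840100401420)
 (.cons 5 (nat_lit 0x28060100a0701e0600e)
 (.cons 10 (nat_lit 0x2320001800020000f6)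
 (.cons 20 (nat_lit 0x274e4000005a300)
 (.cons 40 (nat_lit 0x36cda924e)
 .nil)))))))))))))
noncomputable def a381 : Net := (.cons 40 (nat_lit 0xef6ff75f24)
 (.cons 20 (nat_lit 0xc5c7e00000f3561)
 (.cons 10 (nat_lit 0x12e0016f0032400230)
 (.cons 5 (nat_lit 0x2c000780602c0204805)
 (.cons 1 (nat_lit 0x8000000000000000000)
 (.cons 1 (nat_lit 0x100004080a1000000000)
 (.cons 1 (nat_lit 0x210a1210242800100005)
 (.cons 1 (nat_lit 0x5204a1214a1010200002)
 (.cons 1 (nat_lit 0x10a0090a50940500084)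
 (.cons 5 (nat_lit 0x2814008020280800000)
 (.cons 10 (nat_lit 0x19c0006a0026a00220)
 (.cons 20 (nat_lit 0xe5e1000000f3d68)
 (.cons 40 (nat_lit 0xef6f7fd4d8)
 .nil)))))))))))))
noncomputable def a382 : Net := (.cons 40 (nat_lit 0xa75297908e)
 (.cons 20 (nat_lit 0xedf86000008f5fa)
 (.cons 10 (nat_lit 0x138003700036e00008)
 (.cons 5 (nat_lit 0x480c0240e0481002810)
 (.cons 1 (nat_lit 0x20000010040000001)
 (.cons 1 (nat_lit 0x120420004a408000014a)
 (.cons 1 (nat_lit 0x29485010842900001085)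
 (.cons 1 (nat_lit 0x109420210a121000094a)
 (.cons 1 (nat_lit 0x4a5200012842529001)
 (.cons 5 (nat_lit 0x481c0000e0400000814)
 (.cons 10 (nat_lit 0x334003380027200008)
 (.cons 20 (nat_lit 0x6ef8a000008f57a)
 (.cons 40 (nat_lit 0xa75297908e)
 .nil)))))))))))))
noncomputable def a383 : Net := (.cons 40 (nat_lit 0x838176bbc8)
 (.cons 20 (nat_lit 0x7de1000000481c3)
 (.cons 10 (nat_lit 0x500002a002f00030d)
 (.cons 5 (nat_lit 0xc180600e0500906c0f)
 (.cons 1 (nat_lit 0x8000000010040400000)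
 (.cons 1 (nat_lit 0x12100000020080a02848)
 (.cons 1 (nat_lit 0x214802900521005214a5)
 (.cons 1 (nat_lit 0x528421200a1200a5094a)
 (.cons 1 (nat_lit 0x148029084294a029024)
 (.cons 5 (nat_lit 0x38080600a050040501e)
 (.cons 10 (nat_lit 0x2480002800390000ca)
 (.cons 20 (nat_lit 0x7de000000028702)
 (.cons 40 (nat_lit 0x838160601c)
 .nil)))))))))))))
noncomputable def a384 : Net := (.cons 40 (nat_lit 0xedc7347cd5)
 (.cons 20 (nat_lit 0x45271000009f054)
 (.cons 10 (nat_lit 0x10c0033b003a40028b)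
 (.cons 5 (nat_lit 0x1c02048190601d06805)
 (.cons 1 (nat_lit 0x100000)
 (.cons 1 (nat_lit 0x2400000000a02000)
 (.cons 1 (nat_lit 0x20024280010802421481)
 (.cons 1 (nat_lit 0x501485004a5014a10842)
 (.cons 1 (nat_lit 0x29004200802900101404)
 (.cons 5 (nat_lit 0x68040680c0000e0400a)
 (.cons 10 (nat_lit 0x2ac00364001ac0024a)
 (.cons 20 (nat_lit 0xe4e8a000008f290)
 (.cons 40 (nat_lit 0xedd9dc65ac)
 .nil)))))))))))))
noncomputable def a385 : Net := (.cons 40 (nat_lit 0x9ee24c4d6a)
 (.cons 20 (nat_lit 0xaf7920000086276)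
 (.cons 10 (nat_lit 0x231001a8002d600028)
 (.cons 5 (nat_lit 0x5c01008190700502c0c)
 (.cons 1 (nat_lit 0x420000010000100004)
 (.cons 1 (nat_lit 0x50942020020080a0000a)
 (.cons 1 (nat_lit 0x294a4014042100409025)
 (.cons 1 (nat_lit 0x5294a108085210a10842)
 (.cons 1 (nat_lit 0x94a0294252108121405)
 (.cons 5 (nat_lit 0x1400012020100380c)
 (.cons 10 (nat_lit 0x58000e8003c60014a)
 (.cons 20 (nat_lit 0x3b0f000000e72c4)
 (.cons 40 (nat_lit 0x9ee4d7444a)
 .nil)))))))))))))
noncomputable def a386 : Net := (.cons 40 (nat_lit 0x65c51d506c)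
 (.cons 20 (nat_lit 0x8467e000008b80f)
 (.cons 10 (nat_lit 0x314001d30026400123)
 (.cons 5 (nat_lit 0x100d024040000a01805)
 (.cons 1 (nat_lit 0x800028000)
 (.cons 1 (nat_lit 0x142028005014050040)
 (.cons 1 (nat_lit 0x2008401400210a5284a5)
 (.cons 1 (nat_lit 0x4094a1284a5094252842)
 (.cons 1 (nat_lit 0x2008008401090a521401)
 (.cons 5 (nat_lit 0x500c010000000003800)
 (.cons 10 (nat_lit 0x31400194002400019a)
 (.cons 20 (nat_lit 0xc4a7e0000003924)
 (.cons 40 (nat_lit 0x65c51c526c)
 .nil)))))))))))))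
noncomputable def a387 : Net := (.cons 40 (nat_lit 0xec9e690a1c)
 (.cons 20 (nat_lit 0xa2f45000000274a)
 (.cons 10 (nat_lit 0x37b000760001c002a9)
 (.cons 5 (nat_lit 0xd0001d0400c05804)
 (.cons 1 (nat_lit 0x28000000200000000000)
 (.cons 1 (nat_lit 0x5000a020405000000000)
 (.cons 1 (nat_lit 0x28025090802140501081)
 (.cons 1 (nat_lit 0x5004212900508024090a)
 (.cons 1 (nat_lit 0x28421000210148400485)
 (.cons 5 (nat_lit 0x10120400e06000)
 (.cons 10 (nat_lit 0x350001920001c00210)
 (.cons 20 (nat_lit 0x4674c0000002146)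
 (.cons 40 (nat_lit 0xec9e0a028c)
 .nil)))))))))))))
noncomputable def a388 : Net := (.cons 40 (nat_lit 0x10a679e7ff)
 (.cons 20 (nat_lit 0x8407c0000095731)
 (.cons 10 (nat_lit 0x262000880009c0032a)
 (.cons 5 (nat_lit 0x6000030301103006)
 (.cons 1 (nat_lit 0x8000000000040000000)
 (.cons 1 (nat_lit 0x52842009000080002008)
 (.cons 1 (nat_lit 0x21084094a00108401424)
 (.cons 1 (nat_lit 0x5290a109401290a0294a)
 (.cons 1 (nat_lit 0x810148009484210a0)
 (.cons 5 (nat_lit 0x6020060100802014)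
 (.cons 10 (nat_lit 0x22000a600124002a0)
 (.cons 20 (nat_lit 0x942380000095638)
 (.cons 40 (nat_lit 0x10a6002656)
 .nil)))))))))))))
noncomputable def a389 : Net := (.cons 40 (nat_lit 0x8e6b6a0db6)
 (.cons 20 (nat_lit 0x89342000000c83c)
 (.cons 10 (nat_lit 0x1000129000e000145)
 (.cons 5 (nat_lit 0x441c048000401c0680a)
 (.cons 1 (nat_lit 0x8001080002000000000)
 (.cons 1 (nat_lit 0x5204a500005000000040)
 (.cons 1 (nat_lit 0x214a4200a02808020480)
 (.cons 1 (nat_lit 0x5294a520485090012942)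
 (.cons 1 (nat_lit 0x94a5080a42802520005)
 (.cons 5 (nat_lit 0xc040140401006002)
 (.cons 10 (nat_lit 0x2000118000e00020a)
 (.cons 20 (nat_lit 0x85170000000c93c)
 (.cons 40 (nat_lit 0x8e6b680f22)
 .nil)))))))))))))
noncomputable def a390 : Net := (.cons 40 (nat_lit 0x1494030000)
 (.cons 20 (nat_lit 0x80d480000030000)
 (.cons 10 (nat_lit 0x242001ec0001000000)
 (.cons 5 (nat_lit 0x40180300e0000401000)
 (.cons 1 (nat_lit 0x40000000)
 (.cons 1 (nat_lit 0x50000000000280000000)
 (.cons 1 (nat_lit 0x20085000200100000000)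
 (.cons 1 (nat_lit 0x5004a000401280200000)
 (.cons 1 (nat_lit 0x485080210040000000)
 (.cons 5 (nat_lit 0x4018000060000400000)
 (.cons 10 (nat_lit 0x242000e40001000000)
 (.cons 20 (nat_lit 0x805480000030000)
 (.cons 40 (nat_lit 0x1494030000)
 .nil)))))))))))))
noncomputable def a391 : Net := (.cons 40 (nat_lit 0x614050000)
 (.cons 20 (nat_lit 0x204000000a0840)
 (.cons 10 (nat_lit 0x140001600003800000)
 (.cons 5 (nat_lit 0x6000000160300201000)
 (.cons 1 (nat_lit 0x40008000)
 (.cons 1 (nat_lit 0x50000000000280050000)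
 (.cons 1 (nat_lit 0x20000000800140020000)
 (.cons 1 (nat_lit 0x50000020400284050000)
 (.cons 1 (nat_lit 0x80812040108000)
 (.cons 5 (nat_lit 0x4000000020300200000)
 (.cons 10 (nat_lit 0x140001600001800000)
 (.cons 20 (nat_lit 0x204000000a0840)
 (.cons 40 (nat_lit 0x614050000)
 .nil)))))))))))))
noncomputable def a392 : Net := (.cons 40 (nat_lit 0x404040000)
 (.cons 20 (nat_lit 0x5400000020020)
 (.cons 10 (nat_lit 0x42001000002800000)
 (.cons 5 (nat_lit 0x4008018080000401014)
 (.cons 1 (nat_lit 0x800008000)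
 (.cons 1 (nat_lit 0x50000000005000050000)
 (.cons 1 (nat_lit 0x20005080042000021484)
 (.cons 1 (nat_lit 0x50002108025000250908)
 (.cons 1 (nat_lit 0x405080240900009484)
 (.cons 5 (nat_lit 0x4008018080000400000)
 (.cons 10 (nat_lit 0x42001000000800020)
 (.cons 20 (nat_lit 0x54000000a8000)
 (.cons 40 (nat_lit 0x404040000)
 .nil)))))))))))))
noncomputable def a393 : Net := (.cons 40 (nat_lit 0x404870800)
 (.cons 20 (nat_lit 0x804400000040040)
 (.cons 10 (nat_lit 0x242001600013000200)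
 (.cons 5 (nat_lit 0x4010010020001a04000)
 (.cons 1 (nat_lit 0x40000020)
 (.cons 1 (nat_lit 0x50000000000280000140)
 (.cons 1 (nat_lit 0x20004000800100401480)
 (.cons 1 (nat_lit 0x50008008400280850940)
 (.cons 1 (nat_lit 0x404080810040501420)
 (.cons 5 (nat_lit 0x4010010020001204000)
 (.cons 10 (nat_lit 0x242001600011000200)
 (.cons 20 (nat_lit 0x804400000040040)
 (.cons 40 (nat_lit 0x404870800)
 .nil)))))))))))))
noncomputable def ns0 : List Net := [a0, a1, a2, a3]
noncomputable def ws : List (List ℕ) :=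
  [W (nat_lit 0x602006018080100101007018070140700803),
  W (nat_lit 0x8050140800c010200301405),
  W (nat_lit 0x100502003008080140401403),
  W (nat_lit 0x340c0280c),
  W (nat_lit 0xa0280c),
  W (nat_lit 0x3809),
  W (nat_lit 0x2c0b),
  W (nat_lit 0xe02c0a),
  W (nat_lit 0x3c16060180441403c160440f04c1505410),
  W (nat_lit 0x4c1203c0f0601504410040130481805412),
  W (nat_lit 0x481405011040130601604c170580f),
  W (nat_lit 0x44180601304c1804016044170401503c13044140440f),
  W (nat_lit 0x200741b0781e080200801c07c1d0741a),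
  W (nat_lit 0x1d06c190641c078200681a),
  W (nat_lit 0x781b0781a07c1e0681e080190801c0701e),
  W (nat_lit 0x2409822),
  W (nat_lit 0x8c22),
  W (nat_lit 0xa828),
  W (nat_lit 0x210641105817),
  W (nat_lit 0x2b09c210640f044130540a),
  W (nat_lit 0x2104c1505c0b),
  W (nat_lit 0x2b09c0f04c0a00c0b),
  W (nat_lit 0x841903c14),
  W (nat_lit 0x9c210640f04418),
  W (nat_lit 0x1903c1105813),
  W (nat_lit 0x2b0841903c17),
  W (nat_lit 0x2b0841903c0f),
  W (nat_lit 0xac21),
  W (nat_lit 0x2708419),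
  W (nat_lit 0xac270841305803),
  W (nat_lit 0x2b064110740a00c0b),
  W (nat_lit 0x1144511044),
  W (nat_lit 0x11844),
  W (nat_lit 0x4a1284812048),
  W (nat_lit 0x481204912049),
  W (nat_lit 0x1244711c4a),
  W (nat_lit 0x4a12848),
  W (nat_lit 0x144511404d1344c134521484c1405213452),
  W (nat_lit 0x1344c134521344f144511384b13c521344c1344c),
  W (nat_lit 0x13c4d12c5012c4b144511384f130501384e),
  W (nat_lit 0x1344f13c4f138511444e13850),
  W (nat_lit 0x5a150561585915453158561605816858),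
  W (nat_lit 0x1505a15c541505715c531585815058),
  W (nat_lit 0x5415c53168571685a1605814c58),
  W (nat_lit 0x10c43),
  W (nat_lit 0x16c5f15c4b1385112443),
  W (nat_lit 0x13c51),
  W (nat_lit 0x17c5712c4e),
  W (nat_lit 0x5f13451),
  W (nat_lit 0x1745713455),
  W (nat_lit 0x16c5f),
  W (nat_lit 0x16c5f15c4b1544b),
  W (nat_lit 0x16c4b1544b),
  W (nat_lit 0x17c5d15c4b1544b),
  W (nat_lit 0x5f1744b1544b),
  W (nat_lit 0x16c5f),
  W (nat_lit 0x5b17c5d),
  W (nat_lit 0x5b1745114047),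
  W (nat_lit 0x5b17c5d15c4b1544b),
  W (nat_lit 0x5d12c4d13c51),
  W (nat_lit 0x16c5f1744f13445),
  W (nat_lit 0x202001),
  W (nat_lit 0x1c0202001),
  W (nat_lit 0x1c0102002),
  W (nat_lit 0x21c0501487214052108520c8621c830148821884),
  W (nat_lit 0x21085018832148701483014842148720c0621884),
  W (nat_lit 0x220850180621c0521c832188701484),
  W (nat_lit 0x21c8320c0622005),
  W (nat_lit 0x8b2348c230902248c),
  W (nat_lit 0x2408922c8d2288e22c8f2288f),
  W (nat_lit 0x8a22c8f2288e2288c228902308f2288f),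
  W (nat_lit 0x25095),
  W (nat_lit 0x2448920c85),
  W (nat_lit 0x9724c91),
  W (nat_lit 0x25c9122401),
  W (nat_lit 0x25c9122001),
  W (nat_lit 0x401),
  W (nat_lit 0x25c9321488),
  W (nat_lit 0x9724c8921488),
  W (nat_lit 0x8921487),
  W (nat_lit 0x9724c8921487),
  W (nat_lit 0x400405020020180201403008080040801806),
  W (nat_lit 0x80080301c0101c010040300c0100404008080040801008),
  W (nat_lit 0x2b0ae2acab),
  W (nat_lit 0x2b0ad2b0ae),
  W (nat_lit 0x2b0ad2acab2b4ac),
  W (nat_lit 0x2ccb2),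
  W (nat_lit 0x2c0b32c0b2),
  W (nat_lit 0x5b1745713451),
  W (nat_lit 0x5d15c4b14449),
  W (nat_lit 0x2ecba2ecb92f0bc),
  W (nat_lit 0xbc2f0ba2f0bc),
  W (nat_lit 0x2fcbf2e4b9),
  W (nat_lit 0x2fcba2f8c02f8b9),
  W (nat_lit 0x2e8be2f8b9),
  W (nat_lit 0x300ba300b9),
  W (nat_lit 0xc8310c6320c4310c1304c8310c1310c7),
  W (nat_lit 0xc231cc3320c431cc131cc6320c2),
  W (nat_lit 0xc331cc431cc3304c1310c5310c5),
  W (nat_lit 0x334ca),
  W (nat_lit 0x328cd32cca),
  W (nat_lit 0x2ecbb),
  W (nat_lit 0xd133cc92fcc1),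
  W (nat_lit 0x344c12f4ba),
  W (nat_lit 0xd1324ba),
  W (nat_lit 0x344c9),
  W (nat_lit 0x324c1),
  W (nat_lit 0x33cc9),
  W (nat_lit 0x324c12f4bd),
  W (nat_lit 0x11444118431144311444),
  W (nat_lit 0x45110441184411443),
  W (nat_lit 0x38ce6398e4),
  W (nat_lit 0xe5394e338ce6),
  W (nat_lit 0x390e6398e3),
  W (nat_lit 0xe739ceb),
  W (nat_lit 0xe83a4ec3a4e8),
  W (nat_lit 0x2b0840f03c0b),
  W (nat_lit 0xac27084170440b),
  W (nat_lit 0x9c2106410),
  W (nat_lit 0xac270840f04c17),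
  W (nat_lit 0xf83c8f53d4f23e0f43e0f23ccf2),
  W (nat_lit 0xf23d8f33d4f43c8f33c4f33ccf13d0f5),
  W (nat_lit 0x3d0f43d8f23dcf73c4f7),
  W (nat_lit 0x3c4f43c4f53c8f43c8f53d4f43e0f83e0f2),
  W (nat_lit 0x3f8fb3e4ff3fcff3f0fc3e8ff3f1003f0fe400fb),
  W (nat_lit 0x3ecff3f8f93f0fc3fcfe3e8fc),
  W (nat_lit 0x3fcfe3e8fe400fb3e8fd400fb3e4fc400fe3f0fa),
  W (nat_lit 0x3f5003f4ff3e4fb3e4fc),
  W (nat_lit 0x10740501405084110641904409064090841902),
  W (nat_lit 0x41108419044190240d0140d0241d03),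
  W (nat_lit 0x10141d014150840d0641902),
  W (nat_lit 0x42d0a4350c),
  W (nat_lit 0x10d42d0a),
  W (nat_lit 0x43d11425013f0fd),
  W (nat_lit 0x445093e4fd),
  W (nat_lit 0x44509404fd3fcf1),
  W (nat_lit 0x10f444fb3ecf1),
  W (nat_lit 0x43d11404fb3ecf1),
  W (nat_lit 0x109404f93f4fc),
  W (nat_lit 0x10f425013ecfb),
  W (nat_lit 0x10f42501),
  W (nat_lit 0x43d11425013ecfb),
  W (nat_lit 0xac2b0ad2b0ad),
  W (nat_lit 0xad2b4ad2b4ac),
  W (nat_lit 0x4a12649928),
  W (nat_lit 0x4952749926),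
  W (nat_lit 0x9c21044140540a),
  W (nat_lit 0x2b09c110500b),
  W (nat_lit 0x9c19044140540b),
  W (nat_lit 0x4b52f4c52e),
  W (nat_lit 0x1314b52d),
  W (nat_lit 0x12f4b92e),
  W (nat_lit 0x4d5374d537),
  W (nat_lit 0x4d535),
  W (nat_lit 0x1354e12f),
  W (nat_lit 0x13b4e5374dd2f),
  W (nat_lit 0x4dd37),
  W (nat_lit 0x13b4cd354e12d),
  W (nat_lit 0x4ed2d),
  W (nat_lit 0x4e12f),
  W (nat_lit 0x4a125),
  W (nat_lit 0x49d2549d25),
  W (nat_lit 0x9724405),
  W (nat_lit 0x932440621883),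
  W (nat_lit 0x9724488),
  W (nat_lit 0x5415154550),
  W (nat_lit 0x5394e53d4f),
  W (nat_lit 0x53d5253d52),
  W (nat_lit 0x5494e5494d),
  W (nat_lit 0x5555a),
  W (nat_lit 0x55553),
  W (nat_lit 0x1555354d),
  W (nat_lit 0x15b54d4d),
  W (nat_lit 0x15b55d4e),
  W (nat_lit 0x5354d),
  W (nat_lit 0x20020140102005),
  W (nat_lit 0x1670056800968),
  W (nat_lit 0x168005670056700802),
  W (nat_lit 0x5a0025a001),
  W (nat_lit 0x5b96c),
  W (nat_lit 0x16a5b96c),
  W (nat_lit 0x2b05c1500c0b),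
  W (nat_lit 0x9c130541802c04),
  W (nat_lit 0x2b0841904c1800c0b),
  W (nat_lit 0x1903c1104c1502803),
  W (nat_lit 0x2b04c17),
  W (nat_lit 0x2b09c1904c18),
  W (nat_lit 0x2b09c21),
  W (nat_lit 0x270841904c18),
  W (nat_lit 0x17c5e9735f97e5dd7a5e9735d57860980609735dd755ed825f180),
  W (nat_lit 0x1815fd7e5ed7e5ed745f5815fd765f9785e5815f97e5e9815dd815e9745fd74),
  W (nat_lit 0x5d17a60575601755dd7460180601735ed775d57d),
  W (nat_lit 0x5f57d5e977601745ed785f1775d5795d9765ed805e9745d1805ed74),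
  W (nat_lit 0x61d8360d83621856258961188625836218362983),
  W (nat_lit 0x18462186619866258660d886198962588),
  W (nat_lit 0x18a6218a61d86621856258960d8a60d83),
  W (nat_lit 0x6358d6358c),
  W (nat_lit 0x2acab2acab),
  W (nat_lit 0x2b8ab2b8ab),
  W (nat_lit 0x2b8ab2b4ab2acae2b8ae),
  W (nat_lit 0x5714447),
  W (nat_lit 0x15c511344a),
  W (nat_lit 0x16c5f1744b13449),
  W (nat_lit 0x16c57),
  W (nat_lit 0x5b17c4f14447),
  W (nat_lit 0x5b1744b14051),
  W (nat_lit 0x16c5f),
  W (nat_lit 0x66da0681a4665a4679a3695a268d9d685a56959b689996899e669a56659b),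
  W (nat_lit 0x19c6899a6919b681a6681a2679a4685a366da268da36959e6659b),
  W (nat_lit 0x6699f675a568da06699a66da6671a26999e6959967d9f68d9a),
  W (nat_lit 0x6adab),
  W (nat_lit 0x6adaa6adaa),
  W (nat_lit 0x6c1b06c1ae),
  W (nat_lit 0x398e3394e3),
  W (nat_lit 0x390e4394e4),
  W (nat_lit 0x38ce6398e4),
  W (nat_lit 0x1b56e1b46d1b6),
  W (nat_lit 0x6d5b76d5b4),
  W (nat_lit 0x1b76cdb66d1b6),
  W (nat_lit 0x6f5bb),
  W (nat_lit 0x1b96f9bc),
  W (nat_lit 0xc9304ba2f4bf),
  W (nat_lit 0xc92f4bf),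
  W (nat_lit 0x344c9),
  W (nat_lit 0xcf324c1),
  W (nat_lit 0x33cc12f4bd),
  W (nat_lit 0x1ca33cc1724d071cc2724cf33dc9725c7340c2),
  W (nat_lit 0x1c7340c1728c2341c9721c9720d0341ca),
  W (nat_lit 0x71dc933dc8721c9724d0305c7729c8308cf),
  W (nat_lit 0x73dd2741cd),
  W (nat_lit 0x741d2739d0741ce),
  W (nat_lit 0x751d5751d4),
  W (nat_lit 0x2f0ba2f0b9),
  W (nat_lit 0x2ecbb2ecb92f0ba),
  W (nat_lit 0x2ecba2e8bc),
  W (nat_lit 0x769db),
  W (nat_lit 0x769dc769da),
  W (nat_lit 0x1df779e2),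
  W (nat_lit 0x821dc81),
  W (nat_lit 0x8279481),
  W (nat_lit 0x8279c81),
  W (nat_lit 0x827a481),
  W (nat_lit 0x1dc75),
  W (nat_lit 0x79475),
  W (nat_lit 0x79c75),
  W (nat_lit 0x7a475),
  W (nat_lit 0x7ac75),
  W (nat_lit 0x1e97a1ea1dde91ddea7a0771dde7),
  W (nat_lit 0x7a47879de91e078799e879477795e979c78),
  W (nat_lit 0x1e67a1e67a1e6799e979de6799e6),
  W (nat_lit 0xbc1ecbb),
  W (nat_lit 0xbb1ecbc),
  W (nat_lit 0x1d5fd7b5fe7fc7c1d9ff7b47b7b5fe1d9fd),
  W (nat_lit 0x1ec7b7fc7b8007c7f47b7f8751d4757f6001d87c),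
  W (nat_lit 0x1fe7b9ee802001d6007b8751f1ee1d9ff7f47c),
  W (nat_lit 0x1f1ed1f0757f6007b5fe800767b87c1d9fe7b875),
  W (nat_lit 0x20880e08822048160181208),
  W (nat_lit 0x81a088120780a048220282204),
  W (nat_lit 0x83209),
  W (nat_lit 0x1fb795ed),
  W (nat_lit 0x7ede5),
  W (nat_lit 0x7e5fb),
  W (nat_lit 0x7e9f8),
  W (nat_lit 0x7f8777a9fd7a478),
  W (nat_lit 0x7f5e9799fe795ea),
  W (nat_lit 0x1ee001ddea7fc7c7a478),
  W (nat_lit 0x21785e19),
  W (nat_lit 0x86e17),
  W (nat_lit 0x15c4b13851),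
  W (nat_lit 0x5b1745712c51),
  W (nat_lit 0x5f1745713c51),
  W (nat_lit 0x1344f),
  W (nat_lit 0x88a278962889a268a22888a228922288e2289a22),
  W (nat_lit 0x89e248862189624892268a224),
  W (nat_lit 0x89a2888a25892228a22188623),
  W (nat_lit 0x88625896228a2268a2218a2228a226),
  W (nat_lit 0x22f8a62d88621),
  W (nat_lit 0x22f8a62b8b622),
  W (nat_lit 0x2298b621),
  W (nat_lit 0x8be298ae22),
  W (nat_lit 0x88621),
  W (nat_lit 0x5b17c4f1344a),
  W (nat_lit 0x8ee3b),
  W (nat_lit 0x22f8ae2189a27),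
  W (nat_lit 0x22f8a62d88e28),
  W (nat_lit 0x8a62d8862389627),
  W (nat_lit 0x8be2b88621),
  W (nat_lit 0x8a62d88621),
  W (nat_lit 0x2298ae2d88621),
  W (nat_lit 0x22988621),
  W (nat_lit 0x23b88e238a22588a2688a3c89a268a2248f23c),
  W (nat_lit 0x89e228962289e2489a248922589e248862889622),
  W (nat_lit 0x88e218f2238ee2489e268a22488a2889622),
  W (nat_lit 0x2509464e),
  W (nat_lit 0x24e94251),
  W (nat_lit 0x25294e51),
  W (nat_lit 0x9565295251),
  W (nat_lit 0x94a5495651),
  W (nat_lit 0x83609),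
  W (nat_lit 0x20d82603),
  W (nat_lit 0x128481204a1204812048),
  W (nat_lit 0x12448128471244712448),
  W (nat_lit 0x1244911c4a120481244711c47),
  W (nat_lit 0x99a6398e62),
  W (nat_lit 0x99262),
  W (nat_lit 0x98e66),
  W (nat_lit 0x9ae6a),
  W (nat_lit 0x3d0f73c8f23e0f33c4f1),
  W (nat_lit 0x3c8f53c8f63c4f1),
  W (nat_lit 0x3d8f73ccf63e0f53d4f4),
  W (nat_lit 0x3c4f83e0f63dcf23d4f7),
  W (nat_lit 0x9c2709ca759c6749be729d274),
  W (nat_lit 0x2749d2749c6769ca759c674),
  W (nat_lit 0x9d6729da769c6719d6709da719d270),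
  W (nat_lit 0x2749c66f9d26f9c66f9ca739d6739d6739c674),
  W (nat_lit 0x3d6749c8f69c673),
  W (nat_lit 0x3d8f19ccf23d674),
  W (nat_lit 0x3da743d673),
  W (nat_lit 0x284a0282),
  W (nat_lit 0x282a0a80),
  W (nat_lit 0xa2286),
  W (nat_lit 0x3e283a08f7a0684),
  W (nat_lit 0x4b5314bd2e4c132),
  W (nat_lit 0x4c92d4c12e4c52f),
  W (nat_lit 0x4b5324c12d4c52e4b92f),
  W (nat_lit 0x290a468e),
  W (nat_lit 0x4c132a3e924c52fa4690),
  W (nat_lit 0x5e1785cd775dd775e174),
  W (nat_lit 0x5fd765d1755d5805d973),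
  W (nat_lit 0x5e17b5d57c5dd76),
  W (nat_lit 0x609745dd7360578),
  W (nat_lit 0x5dd7ca6d7b5e29c),
  W (nat_lit 0x545505455153d5254952),
  W (nat_lit 0x5414d53d515414e53d52),
  W (nat_lit 0x5394f53550),
  W (nat_lit 0xa8aa6a92a2),
  W (nat_lit 0xa8aa3),
  W (nat_lit 0xaa6a8),
  W (nat_lit 0x5354fa8d5053aa4),
  W (nat_lit 0x2b084190540b),
  W (nat_lit 0x2b0841706c09),
  W (nat_lit 0x9c1306009),
  W (nat_lit 0x2b03c1104c0b),
  W (nat_lit 0x640f04c15),
  W (nat_lit 0xac27084190541b),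
  W (nat_lit 0x2103c1105418),
  W (nat_lit 0x841903c1105417),
  W (nat_lit 0x9c21),
  W (nat_lit 0x1903c0f),
  W (nat_lit 0xac27),
  W (nat_lit 0xac2703c0f),
  W (nat_lit 0xaf2b1ad2c0aeeb6b0eb5b0ebfb12bcac2b6af6bdae6c4af2baabec6adac3),
  W (nat_lit 0xacab0b02c0aeac6aeab6adabbb1ac0ac2b0afab4acabaaeec5aceb9b0eafb1ab0),
  W (nat_lit 0xadab6b16b6aeab4b02b8b06c6ae2b9acabdaeac6b1abeafab7aeec5ae2b5aeabcb06beac6b1b16bbb0abfaeac5),
  W (nat_lit 0xad2b9b0ebeadeafacabfb16beb0ab2b06c0abec4b16bab1ab2b0eb6aeac2aeeb0),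
  W (nat_lit 0xabeb6b1ab2b06c6afac3b16b8aceb6afebdaeec0b0abcae6beb16b4b02b8b12b0af6c1ad2c6b02b7af6bcb02c2b0ab0),
  W (nat_lit 0xb36cbb2ec7b1ec9b3ecdb22ccb3ec7b3ec8b22cdb32d0b36ca),
  W (nat_lit 0xb36cfb22c8b32c7b26ccb26d0b2aceb2ac8),
  W (nat_lit 0xb36d0b32cfb2acdb36c7b1ecdb26cdb42d0b3acc),
  W (nat_lit 0xb3ec9b3eccb3ec9b1ec9b42c9b2ecab2ac8),
  W (nat_lit 0x2d8b46d6b46d1b56d4b46d6b4ad4),
  W (nat_lit 0x2d5b62d8b46d6b4ed3b46d8b5ad2b56d7b5ed4),
  W (nat_lit 0xb52d1b5ed6b4ed8b62d6b5ed1b4ed5b62d6),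
  W (nat_lit 0xb72dcb7adc),
  W (nat_lit 0x1d47b),
  W (nat_lit 0x293a3e8d),
  W (nat_lit 0xa3e91a40751d6911da901d68e1da8e),
  W (nat_lit 0x2911d68d1d6921d68fa4a901da92a4291a4076),
  W (nat_lit 0xb9ee5),
  W (nat_lit 0xaaea1),
  W (nat_lit 0x2aba9ea1),
  W (nat_lit 0xa8ea31e6a5a8c79a86a1),
  W (nat_lit 0x2a1a92a5a86a1a907aa8ea6a84791e6a3),
  W (nat_lit 0xa8ea5a887aa86a61eaa6a92a6a887a1eaa5),
  W (nat_lit 0xbcaf3),
  W (nat_lit 0x2b09c2103c1305c0a),
  W (nat_lit 0x84190441605c03),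
  W (nat_lit 0x210641105817),
  W (nat_lit 0xac1904c16),
  W (nat_lit 0x2fcbdefdbeafcbe6f7be6f9bdefa),
  W (nat_lit 0x2fabeaf8bfaf8bfafcbeaf8beefdbe2f9),
  W (nat_lit 0xbeaf7bdefbbeefebeafcbf2fa),
  W (nat_lit 0xbff01c1304),
  W (nat_lit 0xc0f02c0303),
  W (nat_lit 0xc1304c0302),
  W (nat_lit 0x304c0303),
  W (nat_lit 0xbff06c2f0ac1f09c1f06c2b0ac2affc1709c030cc0306),
  W (nat_lit 0xc3309c1709c1effc2309c230bc1f05c1f09c230ac1b00c2b06),
  W (nat_lit 0xc1affc1707c2b07c3305c270bbff06),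
  W (nat_lit 0xc0309bff08c2f06c030ac1b0cc2b0ac2b00c2708)]
noncomputable def ns : List Net := [a0, a1, a2, a3, a4, a5, a6, a7, a8, a9, a10, a11, a12, a13, a14, a15, a16, a17, a18, a19, a20, a21, a22, a23, a24, a25, a26, a27, a28, a29, a30, a31, a32, a33, a34, a35, a36, a37, a38, a39, a40, a41, a42, a43, a44, a45, a46, a47, a48, a49, a50, a51, a52, a53, a54, a55, a56, a57, a58, a59, a60, a61, a62, a63, a64, a65, a66, a67, a68, a69, a70, a71, a72, a73, a74, a75, a76, a77, a78, a79, a80, a81, a82, a83, a84, a85, a86, a87, a88, a89, a90, a91, a92, a93, a94, a95, a96, a97, a98, a99, a100, a101, a102, a103, a104, a105, a106, a107, a108, a109, a110, a111, a112, a113, a114, a115, a116, a117, a118, a119, a120, a121, a122, a123, a124, a125, a126, a127, a128, a129, a130, a131, a132, a133, a134, a135, a136, a137, a138, a139, a140, a141, a142, a143, a144, a145, a146, a147, a148, a149, a150, a151, a152, a153, a154, a155, a156, a157, a158, a159, a160, a161, a162, a163,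 a164, a165, a166, a167, a168, a169, a170, a171, a172, a173, a174, a175, a176, a177, a178, a179, a180, a181, a182, a183, a184, a185, a186, a187, a188, a189, a190, a191, a192, a193, a194, a195, a196, a197, a198, a199, a200, a201, a202, a203, a204, a205, a206, a207, a208, a209, a210, a211, a212, a213, a214, a215, a216, a217, a218, a219, a220, a221, a222, a223, a224, a225, a226, a227, a228, a229, a230, a231, a232, a233, a234, a235, a236, a237, a238, a239, a240, a241, a242, a243, a244, a245, a246, a247, a248, a249, a250, a251, a252, a253, a254, a255, a256, a257, a258, a259, a260, a261, a262, a263, a264, a265, a266, a267, a268, a269, a270, a271, a272, a273, a274, a275, a276, a277, a278, a279, a280, a281, a282, a283, a284, a285, a286, a287, a288, a289, a290, a291, a292, a293, a294, a295, a296, a297, a298, a299, a300, a301, a302, a303, a304, a305, a306, a307, a308, a309, a310, a311, a312, a313, a314, a315, a316, a317, a318, a319, a320, a321, a322, a323, a324,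 a325, a326, a327, a328, a329, a330, a331, a332, a333, a334, a335, a336, a337, a338, a339, a340, a341, a342, a343, a344, a345, a346, a347, a348, a349, a350, a351, a352, a353, a354, a355, a356, a357, a358, a359, a360, a361, a362, a363, a364, a365, a366, a367, a368, a369, a370, a371, a372, a373, a374, a375, a376, a377, a378, a379, a380, a381, a382, a383, a384, a385, a386, a387, a388, a389, a390, a391, a392, a393]
noncomputable def D : List (ℕ × List ℕ) := app [] (mkDefs ws 4)
noncomputable def chk : List (List ℕ × List ℕ) → Bool := P.relsB ns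
noncomputable def C_ps : List PcG :=
  [⟨[44], 2, W (nat_lit 0x1043d), [[46], [48], [50], W (nat_lit 0xf435), W (nat_lit 0x3f0f437), W (nat_lit 0x84410f439), W (nat_lit 0x9c3f0f43b), [60], [62], [64], [38], [32]]⟩,
  ⟨[46], 2, [48], [[48], W (nat_lit 0x330cc33), W (nat_lit 0x410fc3b0e437), W (nat_lit 0x84270fc3d0ec390dc35), [58], W (nat_lit 0x843f0f43b0dc35), W (nat_lit 0x84271043d), [64], W (nat_lit 0x8427), [32], W (nat_lit 0x271043f)]⟩,
  ⟨[48], 2, [], [W (nat_lit 0xcc330cc33), W (nat_lit 0x270ec39), W (nat_lit 0x842710437), W (nat_lit 0x843f0f43b0dc35), W (nat_lit 0x2109c3f0ec37), W (nat_lit 0x84270fc3d), W (nat_lit 0x8427), W (nat_lit 0x84271043f), W (nat_lit 0x271043f), W (nat_lit 0x9c41)]⟩,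
  ⟨[50], 5, [], [W (nat_lit 0x84271043d0ec390dc35), W (nat_lit 0x9c410f43b0dc35), [54], W (nat_lit 0x84270ec37), W (nat_lit 0x2109c3d), [32], W (nat_lit 0x2109c41), [64], W (nat_lit 0x1043f)]⟩,
  ⟨[52], 2, [32], [W (nat_lit 0xf437), W (nat_lit 0x2110439), W (nat_lit 0x9c3b), [60], W (nat_lit 0x410fc3d), [64], W (nat_lit 0x271043d), [32]]⟩,
  ⟨[54], 2, W (nat_lit 0x2109c41), [W (nat_lit 0x2109c410f439), W (nat_lit 0x410fc3b), [64], W (nat_lit 0x410fc3d), [60], W (nat_lit 0x271043d), [32]]⟩,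
  ⟨[56], 2, [64], [W (nat_lit 0x84410f43b), [60], [62], [64], W (nat_lit 0x271043d), [32]]⟩,
  ⟨[58], 2, W (nat_lit 0x8427), [[60], W (nat_lit 0x410fc3d), [64], W (nat_lit 0x271043d), W (nat_lit 0x211043d)]⟩,
  ⟨[60], 2, [], [[62], [64], [38], [32]]⟩,
  ⟨[62], 2, [], [[64], [38], [32]]⟩,
  ⟨[64], 2, [], [[38], [32]]⟩,
  ⟨[38], 2, [], [[32]]⟩,
  ⟨[32], 2, [], []⟩]
noncomputable def zE0 : List (ℕ × List ℕ) :=
  [(0, [46]),
  (2, W (nat_lit 0x330cc2f)),
  (4, [44]),
  (6, W (nat_lit 0xfc370d42d))]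
noncomputable def C_v0 : Lev :=
  ⟨64, 5, sg (W (nat_lit 0x40100403)), [[8], [10], [12]], 0, 3⟩
noncomputable def C_v1 : Lev :=
  ⟨65, 4, sg (W (nat_lit 0x2c09)), [[14], [16], [18], [20], [22]], 3, 5⟩
noncomputable def C_v2 : Lev :=
  ⟨0, 64, sg (W (nat_lit 0x3c1303c17054130440f)), [[24], [26], [28], [30]], 8, 4⟩
noncomputable def C_v3 : Lev :=
  ⟨2, 2, sg [24], [[32], [34], [36]], 12, 3⟩
noncomputable def C_v4 : Lev :=
  ⟨5, 2, sg [32], [[38], [40]], 15, 2⟩
noncomputable def C_v5 : Lev :=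
  ⟨6, 2, sg [38], [[42]], 17, 1⟩
noncomputable def C_v6 : Lev :=
  ⟨12, 2, sg [42], [], 18, 0⟩
noncomputable def C_vs7 : List Lev :=
  []
noncomputable def C_vs6 : List Lev :=
  C_v6 :: C_vs7
noncomputable def C_vs5 : List Lev :=
  C_v5 :: C_vs6
noncomputable def C_vs4 : List Lev :=
  C_v4 :: C_vs5
noncomputable def C_vs3 : List Lev :=
  C_v3 :: C_vs4
noncomputable def C_vs2 : List Lev :=
  C_v2 :: C_vs3
noncomputable def C_vs1 : List Lev :=
  C_v1 :: C_vs2
noncomputable def C_vs : List Lev :=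
  C_v0 :: C_vs1
noncomputable def C0_ps : List PcG :=
  [⟨[66], 2, [96], [[96], W (nat_lit 0x1cc711bc671946318c63), W (nat_lit 0x731bc6d1a465), W (nat_lit 0x1cc571ac6919c65), [106], W (nat_lit 0x1cc711bc69), [110], [112], W (nat_lit 0x1cc711bc6d), [114], [86]]⟩,
  ⟨[96], 2, W (nat_lit 0x7315c6f1ac69), [W (nat_lit 0x7315c6f1ac6918c6318c63), W (nat_lit 0x711b46b1a465), W (nat_lit 0x1cc6d1a467), W (nat_lit 0x1cc711bc69), W (nat_lit 0x7315c6f1b46b), [112], W (nat_lit 0x1cc711bc6d), W (nat_lit 0x7315c6d), [86], [114]]⟩,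
  ⟨[98], 5, [], [W (nat_lit 0x711b46919c65), W (nat_lit 0x6f1ac65), W (nat_lit 0x731b465), W (nat_lit 0x1cc711bc67), [86], W (nat_lit 0x1cc711bc6d), [110], [112], W (nat_lit 0x7315c71)]⟩,
  ⟨[100], 2, W (nat_lit 0x15c6f), [W (nat_lit 0x1c467), W (nat_lit 0x7315c6f1b469), W (nat_lit 0x15c711bc6b), W (nat_lit 0x7315c6d), [110], [112], [86], [114]]⟩,
  ⟨[102], 2, W (nat_lit 0x571c46f), [W (nat_lit 0x15c711b469), W (nat_lit 0x7315c6f1b46b), [108], W (nat_lit 0x7315c6f), [112], [114], [86]]⟩,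
  ⟨[104], 2, W (nat_lit 0x1cc571c46d), [W (nat_lit 0x1cc6b), [108], W (nat_lit 0x7315c6f), [112], [86], [114]]⟩,
  ⟨[106], 2, W (nat_lit 0x571c46d), [W (nat_lit 0x7315c6d), [110], W (nat_lit 0x7315c71), [86], [114]]⟩,
  ⟨[108], 2, [], [[110], [112], [86], [114]]⟩,
  ⟨[110], 2, [], [[112], [86], [114]]⟩,
  ⟨[112], 2, [], [[86], [114]]⟩,
  ⟨[86], 2, [], [[114]]⟩,
  ⟨[114], 2, [], []⟩]
noncomputable def zE5 : List (ℕ × List ℕ) :=
  [(68, W (nat_lit 0x731c46d19c6518c6318c63))]
noncomputable def C0_v0 : Lev :=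
  ⟨64, 5, sg (W (nat_lit 0x4511443)), [[70], [72]], 31, 2⟩
noncomputable def C0_v1 : Lev :=
  ⟨65, 4, sg (W (nat_lit 0x12447)), [[74], [76], [78], [80]], 33, 4⟩
noncomputable def C0_v2 : Lev :=
  ⟨0, 32, sg (W (nat_lit 0x1344b1444f1344b)), [[82], [84], [86], [88]], 37, 4⟩
noncomputable def C0_v3 : Lev :=
  ⟨2, 2, sg [86], [[90], [92], [94]], 41, 3⟩
noncomputable def C0_v4 : Lev :=
  ⟨5, 2, sg [92], [[90], [94]], 44, 0⟩
noncomputable def C0_v5 : Lev :=
  ⟨6, 2, sg [94], [[90]], 44, 0⟩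
noncomputable def C0_v6 : Lev :=
  ⟨12, 2, sg [90], [], 44, 0⟩
noncomputable def C0_vs7 : List Lev :=
  []
noncomputable def C0_vs6 : List Lev :=
  C0_v6 :: C0_vs7
noncomputable def C0_vs5 : List Lev :=
  C0_v5 :: C0_vs6
noncomputable def C0_vs4 : List Lev :=
  C0_v4 :: C0_vs5
noncomputable def C0_vs3 : List Lev :=
  C0_v3 :: C0_vs4
noncomputable def C0_vs2 : List Lev :=
  C0_v2 :: C0_vs3
noncomputable def C0_vs1 : List Lev :=
  C0_v1 :: C0_vs2
noncomputable def C0_vs : List Lev :=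
  C0_v0 :: C0_vs1
noncomputable def Kq_ps : List PcG :=
  [⟨[152], 2, [154], [[154], W (nat_lit 0x29ca32840127405), [158], [0], W (nat_lit 0xa72840127c9d), W (nat_lit 0x28ca1), [164], [168], W (nat_lit 0xa7294a3), W (nat_lit 0xa9294a3)]⟩,
  ⟨[154], 2, [], [[4], [0], W (nat_lit 0xa72840127c9d), [156], W (nat_lit 0xa528ca1), [168], W (nat_lit 0xa9294a3), W (nat_lit 0xa929ca3), [162]]⟩,
  ⟨[4], 2, W (nat_lit 0x2a4a3), [[156], W (nat_lit 0xa72949f), [0], [160], W (nat_lit 0xa929ca3), W (nat_lit 0xa929ca5), [168], [166]]⟩,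
  ⟨[156], 2, W (nat_lit 0xa528ca1), [W (nat_lit 0x2a4a72949f), W (nat_lit 0xa528c01), W (nat_lit 0xa929ca1), [162], W (nat_lit 0xa929ca5), [166], [168]]⟩,
  ⟨[158], 2, W (nat_lit 0x2a4a528ca1), [W (nat_lit 0x29c01), [160], W (nat_lit 0xa929ca3), [164], [168], [166]]⟩,
  ⟨[0], 2, [160], [[160], [162], W (nat_lit 0xa929ca5), [166], [168]]⟩,
  ⟨[160], 2, [], [[162], [164], [166], [168]]⟩,
  ⟨[162], 2, [], [[164], [166], [168]]⟩,
  ⟨[164], 2, [], [[166], [168]]⟩,
  ⟨[166], 2, [], [[168]]⟩,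
  ⟨[168], 2, [], []⟩]
noncomputable def zE15 : List (ℕ × List ℕ) :=
  [(6, [152])]
noncomputable def Kq_v0 : Lev :=
  ⟨65, 4, sg (W (nat_lit 0x100401)), [[130], [132], [5], [134]], 61, 3⟩
noncomputable def Kq_v1 : Lev :=
  ⟨0, 32, sg (W (nat_lit 0x832148321c0621483)), [[136], [138], [140], [142]], 64, 4⟩
noncomputable def Kq_v2 : Lev :=
  ⟨2, 2, sg [136], [[144], [146], [148]], 68, 3⟩
noncomputable def Kq_v3 : Lev :=
  ⟨5, 2, sg [144], [[146], [148]], 71, 0⟩
noncomputable def Kq_v4 : Lev :=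
  ⟨6, 2, sg [146], [[150]], 71, 1⟩
noncomputable def Kq_v5 : Lev :=
  ⟨12, 2, sg [150], [], 72, 0⟩
noncomputable def Kq_vs6 : List Lev :=
  []
noncomputable def Kq_vs5 : List Lev :=
  Kq_v5 :: Kq_vs6
noncomputable def Kq_vs4 : List Lev :=
  Kq_v4 :: Kq_vs5
noncomputable def Kq_vs3 : List Lev :=
  Kq_v3 :: Kq_vs4
noncomputable def Kq_vs2 : List Lev :=
  Kq_v2 :: Kq_vs3
noncomputable def Kq_vs1 : List Lev :=
  Kq_v1 :: Kq_vs2
noncomputable def Kq_vs : List Lev :=
  Kq_v0 :: Kq_vs1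
noncomputable def zm20 : ℕ :=
  (nat_lit 0x1f0020e5647d6977bf)
noncomputable def cKq_F : List (List ℕ × ℕ × ℕ) :=
  [([0], zm20, zm20)]
noncomputable def cKqG_v0 : Lev :=
  ⟨0, 64, sg (W (nat_lit 0x500407004070040700c0101c05)), [[170], [172]], 81, 2⟩
noncomputable def cKqG_v1 : Lev :=
  ⟨6, 20, sg (W (nat_lit 0xab2b4ab2b4ab2b4ab)), [[174], [176], [178]], 83, 3⟩
noncomputable def cKqG_v2 : Lev :=
  ⟨2, 4, sg (W (nat_lit 0x2c4af)), [[180], [182]], 86, 2⟩
noncomputable def cKqG_v3 : Lev :=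
  ⟨5, 2, sg [180], [[182]], 88, 0⟩
noncomputable def cKqG_v4 : Lev :=
  ⟨12, 2, sg [182], [], 88, 0⟩
noncomputable def cKqG_vs5 : List Lev :=
  []
noncomputable def cKqG_vs4 : List Lev :=
  cKqG_v4 :: cKqG_vs5
noncomputable def cKqG_vs3 : List Lev :=
  cKqG_v3 :: cKqG_vs4
noncomputable def cKqG_vs2 : List Lev :=
  cKqG_v2 :: cKqG_vs3
noncomputable def cKqG_vs1 : List Lev :=
  cKqG_v1 :: cKqG_vs2
noncomputable def cKqG_vs : List Lev :=
  cKqG_v0 :: cKqG_vs1
noncomputable def cKq_x : List (ℕ × List ℕ) :=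
  [((nat_lit 0), [(nat_lit 0xffffffffffffffff)]),
  ((nat_lit 0), [(nat_lit 0x821a8a6599264)]),
  ((nat_lit 0), [(nat_lit 0x802000204)])]
noncomputable def zE24 : List (ℕ × List ℕ) :=
  [(180, W (nat_lit 0x9724c91)),
  (182, [150])]
noncomputable def cKq_G : Gl :=
  ⟨P, ns, (app D zE24), (diag [[118]]), [], [], memM (app D zE24) [[0], [4], [6]], true⟩
noncomputable def cKq_s : St :=
  ⟨(mkS P.n cKqG_vs cKq_x), [[0], [2], [4], [6]], [], mapL Prod.snd cKq_F, memM (app D zE24) [[0], [4], [6]], []⟩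
noncomputable def zt26 : ST :=
  (.orb 0 (.and 1 0 (.br 0 [W (nat_lit 0x24c910188522002), W (nat_lit 0x2448920c8521c02), W (nat_lit 0x2448522002)] (W (nat_lit 0x4010140100c0500c01)) [(0, [])] (.cons (.orb 0 (.dif 0 4 (.br 0 [W (nat_lit 0x25c9324401), W (nat_lit 0x24489)] (W (nat_lit 0x40300401)) [(6, [])] (.cons (.orb 0 (.and 0 7 (.br 0 [W (nat_lit 0x9324489)] [0] [(2, [])] (.cons .fnd
 .nil))))
 .nil))))
 .nil))))
noncomputable def K0_ps : List PcG :=
  [⟨[186], 2, [210], [[210], [214], [216], W (nat_lit 0xe137cc936cd935cd5), W (nat_lit 0x37cdb), [220], [224], W (nat_lit 0xdf374c9), W (nat_lit 0xe1374c9)]⟩,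
  ⟨[210], 2, W (nat_lit 0x384c9), [[216], W (nat_lit 0xe137cc936cd935cd5), [212], W (nat_lit 0xdd324db), [224], W (nat_lit 0xe1374c9), W (nat_lit 0xe137cc9), [200]]⟩,
  ⟨[212], 2, W (nat_lit 0xdd324db), [W (nat_lit 0x384df374d7), W (nat_lit 0xdd324d9), W (nat_lit 0xe137cdb), W (nat_lit 0xe137cc9), [220], [224], [222]]⟩,
  ⟨[214], 2, W (nat_lit 0x384df374db), [W (nat_lit 0x37cd9), W (nat_lit 0xe137cdb), [200], W (nat_lit 0xe137cdd), [222], [224]]⟩,
  ⟨[216], 2, [218], [[218], W (nat_lit 0xe137cc9), [220], [224], [222]]⟩,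
  ⟨[218], 2, [], [[200], [220], [222], [224]]⟩,
  ⟨[200], 2, [], [[220], [222], [224]]⟩,
  ⟨[220], 2, [], [[222], [224]]⟩,
  ⟨[222], 2, [], [[224]]⟩,
  ⟨[224], 2, [], []⟩]
noncomputable def zE30 : List (ℕ × List ℕ) :=
  [(184, [216])]
noncomputable def K0_v0 : Lev :=
  ⟨65, 4, sg (W (nat_lit 0xbb2ecbb)), [[185], [188], [190]], 90, 2⟩
noncomputable def K0_v1 : Lev :=
  ⟨0, 16, sg (W (nat_lit 0x2e8bd2e8bf2f4ba)), [[192], [194], [196], [198]], 92, 4⟩
noncomputable def K0_v2 : Lev :=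
  ⟨2, 2, sg [192], [[200], [202], [204]], 96, 3⟩
noncomputable def K0_v3 : Lev :=
  ⟨5, 2, sg [200], [[206], [208]], 99, 2⟩
noncomputable def K0_v4 : Lev :=
  ⟨6, 2, sg [206], [[208]], 101, 0⟩
noncomputable def K0_v5 : Lev :=
  ⟨12, 2, sg [208], [], 101, 0⟩
noncomputable def K0_vs6 : List Lev :=
  []
noncomputable def K0_vs5 : List Lev :=
  K0_v5 :: K0_vs6
noncomputable def K0_vs4 : List Lev :=
  K0_v4 :: K0_vs5
noncomputable def K0_vs3 : List Lev :=
  K0_v3 :: K0_vs4
noncomputable def K0_vs2 : List Lev :=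
  K0_v2 :: K0_vs3
noncomputable def K0_vs1 : List Lev :=
  K0_v1 :: K0_vs2
noncomputable def K0_vs : List Lev :=
  K0_v0 :: K0_vs1
noncomputable def zm35 : ℕ :=
  (nat_lit 0x1f0020e5647d6977bf)
noncomputable def cK0_F : List (List ℕ × ℕ × ℕ) :=
  [([0], zm35, zm35)]
noncomputable def cK0G_v0 : Lev :=
  ⟨0, 64, sg (W (nat_lit 0x4310c4510c43114431144311443)), [[226], [228]], 109, 2⟩
noncomputable def cK0G_v1 : Lev :=
  ⟨6, 10, sg (W (nat_lit 0x394e3394e3)), [[230], [232], [234]], 111, 3⟩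
noncomputable def cK0G_v2 : Lev :=
  ⟨2, 4, sg (W (nat_lit 0x3a4e7)), [[236], [238]], 114, 2⟩
noncomputable def cK0G_v3 : Lev :=
  ⟨5, 2, sg [238], [[236]], 116, 0⟩
noncomputable def cK0G_v4 : Lev :=
  ⟨12, 2, sg [236], [], 116, 0⟩
noncomputable def cK0G_vs5 : List Lev :=
  []
noncomputable def cK0G_vs4 : List Lev :=
  cK0G_v4 :: cK0G_vs5
noncomputable def cK0G_vs3 : List Lev :=
  cK0G_v3 :: cK0G_vs4
noncomputable def cK0G_vs2 : List Lev :=
  cK0G_v2 :: cK0G_vs3
noncomputable def cK0G_vs1 : List Lev :=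
  cK0G_v1 :: cK0G_vs2
noncomputable def cK0G_vs : List Lev :=
  cK0G_v0 :: cK0G_vs1
noncomputable def cK0_x : List (ℕ × List ℕ) :=
  [((nat_lit 0), [(nat_lit 0xffffffffffffffff)]),
  ((nat_lit 0), [(nat_lit 0x82000a4580060)]),
  ((nat_lit 0), [(nat_lit 0x802000204)])]
noncomputable def zE39 : List (ℕ × List ℕ) :=
  [(236, [208]),
  (238, W (nat_lit 0xd133cc9))]
noncomputable def cK0_G : Gl :=
  ⟨P, ns, (app D zE39), (diag [[118]]), [], [], memM (app D zE39) [[184], [186]], true⟩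
noncomputable def cK0_s : St :=
  ⟨(mkS P.n cK0G_vs cK0_x), [[66], [68]], [], mapL Prod.snd cK0_F, memM (app D zE39) [[184], [186]], []⟩
noncomputable def zt41 : ST :=
  (.orb 0 (.and 1 0 (.br 0 [W (nat_lit 0x324c12e8c12ecbb), W (nat_lit 0x33cc12e8bf2f4bc)] (W (nat_lit 0x100c0100c0100c01)) [(0, [])] (.cons (.orb 0 (.dif 0 4 (.br 0 [W (nat_lit 0x33cc9), W (nat_lit 0x344ba2f4bf2ecbb)] (W (nat_lit 0x300403)) [(6, [])] (.cons (.orb 0 (.and 0 7 (.br 0 [W (nat_lit 0x344cf324c1)] [0] [(2, [])] (.cons .fnd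
 .nil))))
 .nil))))
 .nil))))
noncomputable def K4_ps : List PcG :=
  [⟨[274], 2, W (nat_lit 0x48d2147d1d3c519), [W (nat_lit 0x123474f146515), W (nat_lit 0x48d2147d1b46517), W (nat_lit 0x4851f474f1), W (nat_lit 0x48d2147cf146d19), W (nat_lit 0x4851f47519), [284], [286], [290], [288]]⟩,
  ⟨[276], 2, W (nat_lit 0x4851f), [W (nat_lit 0x121474f146517), [240], W (nat_lit 0x48d1f474f146d19), W (nat_lit 0x12348519), W (nat_lit 0x47d1d), [286], [288], [290]]⟩,
  ⟨[278], 2, W (nat_lit 0x4851f3c51b), [W (nat_lit 0x48d21474f146d19), [240], W (nat_lit 0x4851b), W (nat_lit 0x4851d), [286], [290], [288]]⟩,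
  ⟨[280], 2, W (nat_lit 0x47d1d), [W (nat_lit 0x12347d1b), W (nat_lit 0x47cf1), [284], [286], [290], [288]]⟩,
  ⟨[282], 2, W (nat_lit 0x48d1d), [W (nat_lit 0x48cf1), W (nat_lit 0x1234851d), [286], [290], [288]]⟩,
  ⟨[240], 2, [284], [[284], [286], [290], [288]]⟩,
  ⟨[284], 2, W (nat_lit 0x1234851f), [[286], [288], [290]]⟩,
  ⟨[286], 2, [], [[288], [290]]⟩,
  ⟨[288], 2, [], [[290]]⟩,
  ⟨[290], 2, [], []⟩]
noncomputable def zE45 : List (ℕ × List ℕ) :=
  [(242, [278]),
  (244, [276]),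
  (246, [274])]
noncomputable def K4_v0 : Lev :=
  ⟨65, 2, sg [240], [[248], [250], [252], [254]], 120, 4⟩
noncomputable def K4_v1 : Lev :=
  ⟨0, 32, sg (W (nat_lit 0xf93ecf93fcfd3ecf9)), [[256], [258], [260], [262]], 124, 4⟩
noncomputable def K4_v2 : Lev :=
  ⟨2, 2, sg [256], [[264], [266], [268]], 128, 3⟩
noncomputable def K4_v3 : Lev :=
  ⟨5, 2, sg [264], [[270], [272]], 131, 2⟩
noncomputable def K4_v4 : Lev :=
  ⟨6, 2, sg [272], [[270]], 133, 0⟩
noncomputable def K4_v5 : Lev :=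
  ⟨12, 2, sg [270], [], 133, 0⟩
noncomputable def K4_vs6 : List Lev :=
  []
noncomputable def K4_vs5 : List Lev :=
  K4_v5 :: K4_vs6
noncomputable def K4_vs4 : List Lev :=
  K4_v4 :: K4_vs5
noncomputable def K4_vs3 : List Lev :=
  K4_v3 :: K4_vs4
noncomputable def K4_vs2 : List Lev :=
  K4_v2 :: K4_vs3
noncomputable def K4_vs1 : List Lev :=
  K4_v1 :: K4_vs2
noncomputable def K4_vs : List Lev :=
  K4_v0 :: K4_vs1
noncomputable def zm50 : ℕ :=
  (nat_lit 0x1fcc4a78368c3a3ef4)
noncomputable def cK4_F : List (List ℕ × ℕ × ℕ) :=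
  [([0], zm50, zm50)]
noncomputable def cK4G_v0 : Lev :=
  ⟨0, 64, sg (W (nat_lit 0x500407004070040700c0101c05)), [[170], [172]], 81, 2⟩
noncomputable def cK4G_v1 : Lev :=
  ⟨33, 10, sg (W (nat_lit 0xab2acab2b4ab)), [[292], [294]], 142, 2⟩
noncomputable def cK4G_v2 : Lev :=
  ⟨16, 8, sg (W (nat_lit 0x49d2549d25)), [[296], [298]], 144, 2⟩
noncomputable def cK4G_v3 : Lev :=
  ⟨2, 2, sg [296], [[298]], 146, 0⟩
noncomputable def cK4G_v4 : Lev :=
  ⟨5, 2, sg [298], [], 146, 0⟩
noncomputable def cK4G_vs5 : List Lev :=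
  []
noncomputable def cK4G_vs4 : List Lev :=
  cK4G_v4 :: cK4G_vs5
noncomputable def cK4G_vs3 : List Lev :=
  cK4G_v3 :: cK4G_vs4
noncomputable def cK4G_vs2 : List Lev :=
  cK4G_v2 :: cK4G_vs3
noncomputable def cK4G_vs1 : List Lev :=
  cK4G_v1 :: cK4G_vs2
noncomputable def cK4G_vs : List Lev :=
  cK4G_v0 :: cK4G_vs1
noncomputable def cK4_x : List (ℕ × List ℕ) :=
  [((nat_lit 0), [(nat_lit 0xffffffffffffffff)]),
  ((nat_lit 0), [(nat_lit 0xb465000210000000)]),
  ((nat_lit 0), [(nat_lit 0x8212084011000)])]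
noncomputable def zE54 : List (ℕ × List ℕ) :=
  [(296, W (nat_lit 0x10f44501)),
  (298, W (nat_lit 0x44509))]
noncomputable def cK4_G : Gl :=
  ⟨P, ns, (app D zE54), (diag [[124]]), [], [], memM (app D zE54) [[240], [242], [244], [246]], true⟩
noncomputable def cK4_s : St :=
  ⟨(mkS P.n cK4G_vs cK4_x), [[0], [2], [4], [6]], [], mapL Prod.snd cK4_F, memM (app D zE54) [[240], [242], [244], [246]], []⟩
noncomputable def zt56 : ST :=
  (.orb 0 (.dif 0 1 (.br 0 [W (nat_lit 0x111424f93ecf1), W (nat_lit 0x1093fcfa), W (nat_lit 0x43cfb3ecf1), W (nat_lit 0x425013f500)] (W (nat_lit 0x50040101c0500c01)) [(0, [])] (.cons (.orb 0 (.and 0 4 (.br 0 [W (nat_lit 0x43d09), W (nat_lit 0x43d013f4f1)] (W (nat_lit 0xc01)) [(33, [])] (.cons (.orb 0 (.dif 0 7 (.br 0 [W (nat_lit 0x44501)] [0] [(16, [])] (.cons .fnd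
 .nil))))
 .nil))))
 .nil))))
noncomputable def Ky_ps : List PcG :=
  [⟨[316], 2, W (nat_lit 0x1474b545), [[302], [318], [320], [300], W (nat_lit 0x51d2d51543), [322], [326]]⟩,
  ⟨[318], 2, [320], [[302], [320], W (nat_lit 0x51d2d51543), [324], [300], [326]]⟩,
  ⟨[302], 2, [320], [[320], [322], [300], [324], [326]]⟩,
  ⟨[320], 2, [], [[322], [324], [300], [326]]⟩,
  ⟨[322], 2, [326], [[324], [300], [326]]⟩,
  ⟨[324], 2, [326], [[300], [326]]⟩,
  ⟨[300], 2, [326], [[326]]⟩,
  ⟨[326], 2, [], []⟩]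
noncomputable def zE60 : List (ℕ × List ℕ) :=
  [(304, [316])]
noncomputable def Ky_v0 : Lev :=
  ⟨65, 4, sg (W (nat_lit 0x4bd2d)), [[306], [308], [310]], 149, 3⟩
noncomputable def Ky_v1 : Lev :=
  ⟨0, 16, sg (W (nat_lit 0x1354cd374d533)), [[312], [314]], 152, 2⟩
noncomputable def Ky_v2 : Lev :=
  ⟨2, 2, sg [312], [[314]], 154, 0⟩
noncomputable def Ky_v3 : Lev :=
  ⟨6, 2, sg [314], [], 154, 0⟩
noncomputable def Ky_vs4 : List Lev :=
  []
noncomputable def Ky_vs3 : List Lev :=
  Ky_v3 :: Ky_vs4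
noncomputable def Ky_vs2 : List Lev :=
  Ky_v2 :: Ky_vs3
noncomputable def Ky_vs1 : List Lev :=
  Ky_v1 :: Ky_vs2
noncomputable def Ky_vs : List Lev :=
  Ky_v0 :: Ky_vs1
noncomputable def zm65 : ℕ :=
  (nat_lit 0x1002085407141410b)
noncomputable def cKy_F : List (List ℕ × ℕ × ℕ) :=
  [([0], zm65, zm65)]
noncomputable def cKyG_v0 : Lev :=
  ⟨0, 64, sg (W (nat_lit 0x500407004070040700c0101c05)), [[170], [172]], 81, 2⟩
noncomputable def cKyG_v1 : Lev :=
  ⟨33, 10, sg (W (nat_lit 0xab2acab2b4ab)), [[292], [294]], 142, 2⟩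
noncomputable def cKyG_v2 : Lev :=
  ⟨15, 8, sg (W (nat_lit 0x12549d2749525)), [[328], [330]], 160, 2⟩
noncomputable def cKyG_v3 : Lev :=
  ⟨12, 2, sg [330], [[328]], 162, 0⟩
noncomputable def cKyG_v4 : Lev :=
  ⟨6, 2, sg [328], [], 162, 0⟩
noncomputable def cKyG_vs5 : List Lev :=
  []
noncomputable def cKyG_vs4 : List Lev :=
  cKyG_v4 :: cKyG_vs5
noncomputable def cKyG_vs3 : List Lev :=
  cKyG_v3 :: cKyG_vs4
noncomputable def cKyG_vs2 : List Lev :=
  cKyG_v2 :: cKyG_vs3
noncomputable def cKyG_vs1 : List Lev :=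
  cKyG_v1 :: cKyG_vs2
noncomputable def cKyG_vs : List Lev :=
  cKyG_v0 :: cKyG_vs1
noncomputable def cKy_x : List (ℕ × List ℕ) :=
  [((nat_lit 0), [(nat_lit 0xffffffffffffffff)]),
  ((nat_lit 0), [(nat_lit 0xb465000210000000)]),
  ((nat_lit 0), [(nat_lit 0x8020508244),
   (nat_lit 0x802080020)]),
  ((nat_lit 0), [(nat_lit 0x4)]),
  ((nat_lit 0), [(nat_lit 0x80000000)])]
noncomputable def cKy_G : Gl :=
  ⟨P, ns, (app D []), (diag [[122]]), [], [], memM (app D []) [[300], [302], [304]], true⟩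
noncomputable def cKy_s : St :=
  ⟨(mkS P.n cKyG_vs cKy_x), [[0], [2], [4], [6]], [], mapL Prod.snd cKy_F, memM (app D []) [[300], [302], [304]], []⟩
noncomputable def zt69 : ST :=
  (.orb 0 (.and 1 0 (.br 0 [W (nat_lit 0x4e5334e12d), W (nat_lit 0x1394cd354dd2e)] (W (nat_lit 0x40100c0100c01)) [(0, [])] (.cons (.orb 0 (.dif 0 4 (.br 0 [W (nat_lit 0x4ed334d52d), W (nat_lit 0x4e5334d52d)] (W (nat_lit 0x10040100c01)) [(33, [])] (.cons (.orb 0 (.orb 1 (.img [0] 0 (.and 2 0 (.br 0 [W (nat_lit 0x4ed39)] [0] [(15, [])] (.cons (.orb 0 (.img [0] 0 (.br 0 [] [] [(12, [])] (.cons (.orb 0 (.img [0] 0 (.br 0 [] [] [(6, [])] (.cons .fnd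
 .nil))))
 .nil))))
 .nil))))))
 .nil))))
 .nil))))
noncomputable def A0_ps : List PcG :=
  [⟨[336], 2, [348], [[348], W (nat_lit 0x595635854f), W (nat_lit 0x5955f), [332], W (nat_lit 0x14d58d61), [352], [356]]⟩,
  ⟨[348], 2, [], [W (nat_lit 0x5954f), [350], [352], [354], [332], [356]]⟩,
  ⟨[334], 2, [350], [[350], W (nat_lit 0x14d58d61), [332], [354], [356]]⟩,
  ⟨[350], 2, [], [[352], [354], [332], [356]]⟩,
  ⟨[352], 2, [356], [[354], [332], [356]]⟩,
  ⟨[354], 2, [356], [[332], [356]]⟩,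
  ⟨[332], 2, [356], [[356]]⟩,
  ⟨[356], 2, [], []⟩]
noncomputable def A0_v0 : Lev :=
  ⟨0, 16, sg (W (nat_lit 0x14f53d5153d4d)), [[338], [340], [342], [344]], 165, 4⟩
noncomputable def A0_v1 : Lev :=
  ⟨2, 2, sg [338], [[340], [342], [344]], 169, 0⟩
noncomputable def A0_v2 : Lev :=
  ⟨5, 2, sg [342], [[340], [344]], 169, 0⟩
noncomputable def A0_v3 : Lev :=
  ⟨6, 2, sg [340], [[346]], 169, 1⟩
noncomputable def A0_v4 : Lev :=
  ⟨12, 2, sg [346], [], 170, 0⟩
noncomputable def A0_vs5 : List Lev :=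
  []
noncomputable def A0_vs4 : List Lev :=
  A0_v4 :: A0_vs5
noncomputable def A0_vs3 : List Lev :=
  A0_v3 :: A0_vs4
noncomputable def A0_vs2 : List Lev :=
  A0_v2 :: A0_vs3
noncomputable def A0_vs1 : List Lev :=
  A0_v1 :: A0_vs2
noncomputable def A0_vs : List Lev :=
  A0_v0 :: A0_vs1
noncomputable def zm76 : ℕ :=
  (nat_lit 0x1f10996b1cc7170bdf)
noncomputable def cA0_F : List (List ℕ × ℕ × ℕ) :=
  [([0], zm76, zm76)]
noncomputable def cA0G_v0 : Lev :=
  ⟨0, 32, sg (W (nat_lit 0x1407004070140101c05)), [[0], [358]], 175, 1⟩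
noncomputable def cA0G_v1 : Lev :=
  ⟨15, 8, sg (W (nat_lit 0x40159c01)), [[360], [362], [364]], 176, 3⟩
noncomputable def cA0G_v2 : Lev :=
  ⟨2, 2, sg [362], [[366], [368]], 179, 2⟩
noncomputable def cA0G_v3 : Lev :=
  ⟨5, 2, sg [368], [[366]], 181, 0⟩
noncomputable def cA0G_v4 : Lev :=
  ⟨12, 2, sg [366], [], 181, 0⟩
noncomputable def cA0G_vs5 : List Lev :=
  []
noncomputable def cA0G_vs4 : List Lev :=
  cA0G_v4 :: cA0G_vs5
noncomputable def cA0G_vs3 : List Lev :=
  cA0G_v3 :: cA0G_vs4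
noncomputable def cA0G_vs2 : List Lev :=
  cA0G_v2 :: cA0G_vs3
noncomputable def cA0G_vs1 : List Lev :=
  cA0G_v1 :: cA0G_vs2
noncomputable def cA0G_vs : List Lev :=
  cA0G_v0 :: cA0G_vs1
noncomputable def cA0_x : List (ℕ × List ℕ) :=
  [((nat_lit 0), [(nat_lit 0x20e5647d6977bf)]),
  ((nat_lit 0), [(nat_lit 0x8008882108040)])]
noncomputable def zE80 : List (ℕ × List ℕ) :=
  [(360, [342]),
  (362, W (nat_lit 0x15b55d53)),
  (364, W (nat_lit 0x55d53))]
noncomputable def cA0_G : Gl :=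
  ⟨P, ns, (app D zE80), (diag [[120]]), [], [], memM (app D zE80) [[332], [334], [336]], true⟩
noncomputable def cA0_s : St :=
  ⟨(mkS P.n cA0G_vs cA0_x), [[0], [4], [6]], [], mapL Prod.snd cA0_F, memM (app D zE80) [[332], [334], [336]], []⟩
noncomputable def zt82 : ST :=
  (.orb 0 (.and 0 1 (.br 0 [W (nat_lit 0x15754d4d53d52), W (nat_lit 0x56d5555d5353d52), W (nat_lit 0x15555d535354f)] (W (nat_lit 0xc010040500c01)) [(0, [])] (.cons (.orb 0 (.dif 0 4 (.br 0 [W (nat_lit 0x15b55557)] [0] [(15, [])] (.cons .fnd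
 .nil))))
 .nil))))
noncomputable def cK8_F : List (List ℕ × ℕ × ℕ) :=
  []
noncomputable def cK8G_v0 : Lev :=
  ⟨0, 64, sg (W (nat_lit 0x500407004070040700c0101c05)), [[170], [172]], 81, 2⟩
noncomputable def cK8G_v1 : Lev :=
  ⟨5, 20, sg (W (nat_lit 0x2b4ab2b4ab2b4ab)), [[402], [404], [406]], 197, 3⟩
noncomputable def cK8G_v2 : Lev :=
  ⟨2, 4, sg (W (nat_lit 0x19765597)), [[402], [404]], 200, 0⟩
noncomputable def cK8G_v3 : Lev :=
  ⟨6, 2, sg [404], [[402]], 200, 0⟩
noncomputable def cK8G_v4 : Lev :=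
  ⟨12, 2, sg [402], [], 200, 0⟩
noncomputable def cK8G_vs5 : List Lev :=
  []
noncomputable def cK8G_vs4 : List Lev :=
  cK8G_v4 :: cK8G_vs5
noncomputable def cK8G_vs3 : List Lev :=
  cK8G_v3 :: cK8G_vs4
noncomputable def cK8G_vs2 : List Lev :=
  cK8G_v2 :: cK8G_vs3
noncomputable def cK8G_vs1 : List Lev :=
  cK8G_v1 :: cK8G_vs2
noncomputable def cK8G_vs : List Lev :=
  cK8G_v0 :: cK8G_vs1
noncomputable def cK8_x : List (ℕ × List ℕ) :=
  [((nat_lit 0xf), [(nat_lit 0xffffffffffffffff)]),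
  ((nat_lit 0x800000000000000000000000000006000000000000000000000), [(nat_lit 0x821a8a6599264),
   (nat_lit 0x4b92940000000000)]),
  ((nat_lit 0x800000000000000000000000000000000000000000000000000), [(nat_lit 0x8000008204)]),
  ((nat_lit 0x400000000000000000000000000000000000000000000000000), [(nat_lit 0x100040)]),
  ((nat_lit 0x200000000000000000000000000000000000000000000000000), [(nat_lit 0x2000000000000)]),
  ((nat_lit 0), [(nat_lit 0x4000000),
   (nat_lit 0x1000000000000),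
   (nat_lit 0x800000000000000),
   (nat_lit 0x80000000),
   (nat_lit 0x1000000000000000)])]
noncomputable def cK8_G : Gl :=
  ⟨P, ns, (app D []), (diag [[126]]), [], [], memM (app D []) [[370], [372], [374], [376], [378], [380], [382], [384]], true⟩
noncomputable def cK8_s : St :=
  ⟨(mkS P.n cK8G_vs cK8_x), [[0], [2], [4], [6]], [], mapL Prod.snd cK8_F, memM (app D []) [[370], [372], [374], [376], [378], [380], [382], [384]], []⟩
noncomputable def zt89 : ST :=
  (.orb 0 (.br 0 [W (nat_lit 0x62574), W (nat_lit 0x6418b60d73), W (nat_lit 0x19061d79)] (W (nat_lit 0x500c010040500c01)) [(1, [4]), (5, W (nat_lit 0x1c01)), (6, W (nat_lit 0x1c03)), (0, [])] (.cons (.orb 0 (.orb 1 (.img [0] 0 (.and 2 0 (.br 0 [W (nat_lit 0x6419162d8462573), [394]] (W (nat_lit 0x40100c0100401)) [(10, W (nat_lit 0x2acab))] (.cons (.orb 0 (.and 5 0 (.dif 0 3 (.br 0 [W (nat_lit 0x1906458b)] [0] [(4, [407])] (.cons (.orb 0 (.br 0 [[399]] [0] [(11, [])] (.cons (.orb 0 (.img [0] 0 (.br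 0 [] [] [(27, [402])] (.cons (.orb 1 (.img [0] 0 (.and 16 0 (.mis 0))))
 .nil))))
 .nil)))
 .nil)))))
 .nil))))))
 (.cons (.orb 1 (.img [0] 0 (.orb 0 (.and 1 0 (.br 0 [W (nat_lit 0x60d83)] [0] [(0, W (nat_lit 0x2b997)), (4, [172]), (11, W (nat_lit 0x2b8ac)), (24, W (nat_lit 0x2acab))] (.cons (.orb 0 (.and 3 0 (.dif 0 3 (.br 0 [W (nat_lit 0x6458b)] [0] [(14, [406])] (.cons (.orb 0 (.br 0 [[399]] [0] [(23, [404])] (.cons (.orb 0 (.img [0] 0 (.br 0 [] [] [(24, [])] (.cons (.orb 4 (.img [0] 15 (.dif 1 0 (.mis 0))))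
 .nil))))
 .nil)))
 .nil)))))
 (.cons (.orb 0 (.and 3 0 (.dif 0 3 (.br 0 [W (nat_lit 0x6458b60d83)] [0] [(14, [])] (.cons (.orb 0 (.br 0 [[399]] [0] [(28, [])] (.cons (.orb 0 (.img [0] 0 (.br 0 [] [] [(17, [402])] (.cons (.orb 3 (.img [0] 0 (.and 7 0 (.mis 0))))
 .nil))))
 .nil)))
 .nil)))))
 (.cons (.orb 0 (.and 3 0 (.dif 0 3 (.br 0 [W (nat_lit 0x1906458b60d83)] [0] [(50, W (nat_lit 0x65d97))] (.cons (.orb 0 (.br 0 [W (nat_lit 0x19060d83)] [0] [(33, [404])] (.cons (.orb 0 (.img [0] 0 (.br 0 [] [] [(0, [402])] (.cons (.img [0] 14 (.orb 1 (.and 1 0 (.mis 0))))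
 .nil))))
 .nil)))
 .nil)))))
 (.cons (.orb 0 (.and 3 0 (.dif 0 3 (.br 0 [W (nat_lit 0x6458b60d83)] [0] [(50, W (nat_lit 0x65d97))] (.cons (.orb 0 (.br 0 [W (nat_lit 0x19060d83)] [0] [(21, [])] (.cons (.orb 0 (.img [0] 0 (.br 0 [] [] [(4, [])] (.cons (.img [0] 9 (.orb 2 (.and 1 0 (.mis 0))))
 .nil))))
 .nil)))
 .nil)))))
 .nil)))))))))
 (.cons (.orb 1 (.img [0] 0 (.orb 0 (.and 1 0 (.br 0 [W (nat_lit 0x18b60d83), W (nat_lit 0x19062d8361d79)] (W (nat_lit 0x300403)) [(10, W (nat_lit 0x2acae)), (23, [172])] (.cons (.orb 0 (.and 3 0 (.dif 0 3 (.br 0 [W (nat_lit 0x1906458b60d83)] [0] [(24, [406])] (.cons (.orb 0 (.br 0 [W (nat_lit 0x19060d83)] [0] [(4, [404])] (.cons (.orb 0 (.img [0] 0 (.br 0 [] [] [(32, [402])] (.cons (.img [0] 14 (.orb 1 (.and 1 0 (.mis 0))))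
 .nil))))
 .nil)))
 .nil)))))
 (.cons (.orb 0 (.and 3 0 (.dif 0 3 (.br 0 [W (nat_lit 0x18b60d83)] [0] [(18, [407])] (.cons (.orb 0 (.br 0 [W (nat_lit 0x19160d83)] [0] [(0, [404])] (.cons (.orb 0 (.img [0] 0 (.br 0 [] [] [(50, [])] (.cons (.orb 0 (.img [0] 0 (.and 5 0 (.mis 0))))
 .nil))))
 .nil)))
 .nil)))))
 .nil)))))))
 (.cons (.orb 0 (.orb 1 (.img [0] 0 (.and 2 0 (.br 0 [W (nat_lit 0x6458b), W (nat_lit 0x62d8462573)] (W (nat_lit 0xc0300c0100c03)) [(5, [])] (.cons (.orb 0 (.dif 0 2 (.br 0 [W (nat_lit 0x6458b)] [0] [(2, [])] (.cons (.orb 0 (.br 0 [[399]] [0] [(6, [])] (.cons (.orb 0 (.img [0] 0 (.br 0 [] [] [(12, [])] (.cons .fnd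
 .nil))))
 .nil)))
 .nil))))
 .nil))))))
 .nil))))))
noncomputable def K8_v0 : Lev :=
  ⟨64, 4, sg (W (nat_lit 0x5e573)), [[386], [388], [390], [392]], 189, 4⟩
noncomputable def K8_v1 : Lev :=
  ⟨0, 8, sg (W (nat_lit 0x60d8361d83)), [[394], [396], [398]], 193, 3⟩
noncomputable def K8_v2 : Lev :=
  ⟨2, 2, sg [394], [[399], [400]], 196, 1⟩
noncomputable def K8_v3 : Lev :=
  ⟨5, 2, sg [400], [[399]], 197, 0⟩
noncomputable def K8_v4 : Lev :=
  ⟨6, 2, sg [399], [], 197, 0⟩
noncomputable def K8_vs5 : List Lev :=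
  []
noncomputable def K8_vs4 : List Lev :=
  K8_v4 :: K8_vs5
noncomputable def K8_vs3 : List Lev :=
  K8_v3 :: K8_vs4
noncomputable def K8_vs2 : List Lev :=
  K8_v2 :: K8_vs3
noncomputable def K8_vs1 : List Lev :=
  K8_v1 :: K8_vs2
noncomputable def K8_vs : List Lev :=
  K8_v0 :: K8_vs1
noncomputable def K8_ps : List PcG :=
  [⟨[370], 2, W (nat_lit 0x5ed79), [W (nat_lit 0x6057d5ed75), W (nat_lit 0x5f577), W (nat_lit 0x5fd79), W (nat_lit 0x5fd7b), W (nat_lit 0x5fd7d), [382], [384]]⟩,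
  ⟨[372], 2, W (nat_lit 0x6057f5f579), [W (nat_lit 0x6057f5f577), W (nat_lit 0x5fd79), W (nat_lit 0x5fd7b), W (nat_lit 0x5fd7d), [382], [384]]⟩,
  ⟨[374], 2, W (nat_lit 0x5fd79), [[376], W (nat_lit 0x5fd7b), W (nat_lit 0x5fd7d), [382], [384]]⟩,
  ⟨[376], 2, [], [[378], [380], [382], [384]]⟩,
  ⟨[378], 2, [], [[380], [382], [384]]⟩,
  ⟨[380], 2, [], [[382], [384]]⟩,
  ⟨[382], 2, [], [[384]]⟩,
  ⟨[384], 2, [], []⟩]
noncomputable def vK80_E : List (ℕ × List CE) :=
  [(3, [])]
noncomputable def vK80_R : List (List ℕ) :=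
  [[],
  [370]]
noncomputable def zcj100 : List (List (List ℕ)) :=
  [[W (nat_lit 0x6057d5ed75), W (nat_lit 0x5f577), W (nat_lit 0x5fd79), W (nat_lit 0x5fd7b), W (nat_lit 0x5fd7d), [382], [384]],
  [[372], W (nat_lit 0x6057f5f577), W (nat_lit 0x5fd79), W (nat_lit 0x5fd7b), W (nat_lit 0x5fd7d), [382], [384]],
  [W (nat_lit 0x6057f5f575), [374], [376], W (nat_lit 0x5fd7b), W (nat_lit 0x5fd7d), [382], [384]],
  [W (nat_lit 0x5fd75), [374], [376], [378], [380], [382], [384]],
  [W (nat_lit 0x5fd75), W (nat_lit 0x5fd77), [376], [378], [380], [382], [384]],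
  [W (nat_lit 0x5fd75), W (nat_lit 0x5fd77), [376], [378], [380], [382], [384]],
  [[372], [374], [376], [378], [380], [382], [384]],
  [[372], [374], [376], [378], [380], [382], [384]]]
noncomputable def vK81_E : List (ℕ × List CE) :=
  [(3, []),
  (3, [])]
noncomputable def vK81_R : List (List ℕ) :=
  [[],
  [372],
  [370],
  W (nat_lit 0x5d573)]
noncomputable def zcj108 : List (List (List ℕ)) :=
  [[W (nat_lit 0x5f577), W (nat_lit 0x5fd79), W (nat_lit 0x5fd7b), W (nat_lit 0x5fd7d), [382], [384]],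
  [W (nat_lit 0x6057f5f577), W (nat_lit 0x5fd79), W (nat_lit 0x5fd7b), W (nat_lit 0x5fd7d), [382], [384]],
  [[374], [376], W (nat_lit 0x5fd7b), W (nat_lit 0x5fd7d), [382], [384]],
  [[374], [376], [378], [380], [382], [384]],
  [W (nat_lit 0x5fd77), [376], [378], [380], [382], [384]],
  [W (nat_lit 0x5fd77), [376], [378], [380], [382], [384]],
  [[374], [376], [378], [380], [382], [384]],
  [[374], [376], [378], [380], [382], [384]]]
noncomputable def vK82_E : List (ℕ × List CE) :=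
  [(3, []),
  (3, []),
  (3, []),
  (3, [])]
noncomputable def vK82_R : List (List ℕ) :=
  [[],
  [374],
  [372],
  W (nat_lit 0x5dd75),
  [370],
  W (nat_lit 0x5dd73),
  W (nat_lit 0x5d573),
  W (nat_lit 0x1775d573)]
noncomputable def zcj116 : List (List (List ℕ)) :=
  [[W (nat_lit 0x5fd79), W (nat_lit 0x5fd7b), W (nat_lit 0x5fd7d), [382], [384]],
  [W (nat_lit 0x5fd79), W (nat_lit 0x5fd7b), W (nat_lit 0x5fd7d), [382], [384]],
  [[376], W (nat_lit 0x5fd7b), W (nat_lit 0x5fd7d), [382], [384]],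
  [[376], [378], [380], [382], [384]],
  [[376], [378], [380], [382], [384]],
  [[376], [378], [380], [382], [384]],
  [[376], [378], [380], [382], [384]],
  [[376], [378], [380], [382], [384]]]
noncomputable def vK83_E : List (ℕ × List CE) :=
  [(3, []),
  (3, []),
  (3, []),
  (3, []),
  (3, []),
  (3, []),
  (3, []),
  (3, [])]
noncomputable def vK83_R : List (List ℕ) :=
  [[],
  [376],
  [374],
  W (nat_lit 0x5e577),
  [372],
  W (nat_lit 0x5e575),
  W (nat_lit 0x5dd75),
  W (nat_lit 0x1795dd75),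
  [370],
  W (nat_lit 0x5e573),
  W (nat_lit 0x5dd73),
  W (nat_lit 0x1795dd73),
  W (nat_lit 0x5d573),
  W (nat_lit 0x1795d573),
  W (nat_lit 0x1775d573),
  W (nat_lit 0x5e5775d573)]
noncomputable def zcj124 : List (List (List ℕ)) :=
  [[W (nat_lit 0x5fd7b), W (nat_lit 0x5fd7d), [382], [384]],
  [W (nat_lit 0x5fd7b), W (nat_lit 0x5fd7d), [382], [384]],
  [W (nat_lit 0x5fd7b), W (nat_lit 0x5fd7d), [382], [384]],
  [[378], [380], [382], [384]],
  [[378], [380], [382], [384]],
  [[378], [380], [382], [384]],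
  [[378], [380], [382], [384]],
  [[378], [380], [382], [384]]]
noncomputable def vK84_E : List (ℕ × List CE) :=
  [(3, []),
  (3, []),
  (3, []),
  (3, []),
  (1, [ceD, ⟨false, [370], 0, W (nat_lit 0x1815fd7d)⟩]),
  (1, [ceD, ⟨false, [370], 0, W (nat_lit 0x6057d)⟩]),
  (1, [ceD, ⟨false, [370], 0, [384]⟩]),
  (1, [ceD, ⟨false, [370], 0, W (nat_lit 0x6057f)⟩]),
  (1, [ceD, ⟨false, [372], 0, W (nat_lit 0x1815fd7d)⟩]),
  (1, [ceD, ⟨false, [372], 0, W (nat_lit 0x6057d)⟩]),
  (1, [ceD, ⟨false, [372], 0, [382]⟩]),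
  (1, [ceD, ⟨false, [372], 0, []⟩]),
  (1, [ceD, ⟨false, [370], 0, W (nat_lit 0x1815fd7d)⟩]),
  (1, [ceD, ⟨false, [370], 0, W (nat_lit 0x6057d)⟩]),
  (1, [ceD, ⟨false, [370], 0, [384]⟩]),
  (1, [ceD, ⟨false, [370], 0, W (nat_lit 0x6057f)⟩])]
noncomputable def vK84_R : List (List ℕ) :=
  [[],
  [378],
  [376],
  W (nat_lit 0x5ed79),
  [374],
  W (nat_lit 0x5ed77),
  W (nat_lit 0x5e577),
  W (nat_lit 0x17b5e577),
  [372],
  W (nat_lit 0x5e575),
  W (nat_lit 0x5dd75),
  W (nat_lit 0x1795dd75),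
  [370],
  W (nat_lit 0x5e573),
  W (nat_lit 0x5dd73),
  W (nat_lit 0x1795dd73),
  W (nat_lit 0x5d573),
  W (nat_lit 0x1795d573),
  W (nat_lit 0x1775d573),
  W (nat_lit 0x5e5775d573)]
noncomputable def zcj132 : List (List (List ℕ)) :=
  [[W (nat_lit 0x5fd7d), [382], [384]],
  [W (nat_lit 0x5fd7d), [382], [384]],
  [W (nat_lit 0x5fd7d), [382], [384]],
  [[380], [382], [384]],
  [[380], [382], [384]],
  [[380], [382], [384]],
  [[380], [382], [384]],
  [[380], [382], [384]]]
noncomputable def vK85_E : List (ℕ × List CE) :=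
  [(3, []),
  (3, []),
  (3, []),
  (3, []),
  (1, [ceD, ⟨false, [370], 0, []⟩]),
  (1, [ceD, ⟨false, [370], 0, [382]⟩]),
  (1, [ceD, ⟨false, [370], 0, [382]⟩]),
  (1, [ceD, ⟨false, [370], 0, []⟩]),
  (1, [ceD, ⟨false, [374], 0, W (nat_lit 0x6057f)⟩]),
  (1, [ceD, ⟨false, [374], 0, W (nat_lit 0x6057f)⟩]),
  (1, [ceD, ⟨false, [372], 0, W (nat_lit 0x6057f)⟩]),
  (1, [ceD, ⟨false, [372], 0, [384]⟩]),
  (1, [ceD, ⟨false, [374], 0, []⟩]),
  (1, [ceD, ⟨false, [374], 0, []⟩]),
  (1, [ceD, ⟨false, [370], 0, []⟩]),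
  (1, [ceD, ⟨false, [370], 0, [382]⟩]),
  (3, []),
  (3, []),
  (3, []),
  (3, [])]
noncomputable def vK85_R : List (List ℕ) :=
  [[],
  [380],
  [378],
  W (nat_lit 0x5f57b),
  [376],
  W (nat_lit 0x5f579),
  W (nat_lit 0x5ed79),
  W (nat_lit 0x17d5ed79),
  [374],
  W (nat_lit 0x5ed77),
  W (nat_lit 0x5e577),
  W (nat_lit 0x17b5e577),
  [372],
  W (nat_lit 0x5e575),
  W (nat_lit 0x5dd75),
  W (nat_lit 0x1795dd75),
  [370],
  W (nat_lit 0x5e573),
  W (nat_lit 0x5dd73),
  W (nat_lit 0x1795dd73),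
  W (nat_lit 0x5d573),
  W (nat_lit 0x17d5d573),
  W (nat_lit 0x1795d573),
  W (nat_lit 0x5f5795d573),
  W (nat_lit 0x1775d573),
  W (nat_lit 0x5f5775d573),
  W (nat_lit 0x5e5775d573),
  W (nat_lit 0x17d5e5775d573)]
noncomputable def zcj140 : List (List (List ℕ)) :=
  [[[382], [384]],
  [[382], [384]],
  [[382], [384]],
  [[382], [384]],
  [[382], [384]],
  [[382], [384]],
  [[382], [384]],
  [[382], [384]]]
noncomputable def vK86_E : List (ℕ × List CE) :=
  [(3, []),
  (1, [ceD, ⟨false, [370], 0, []⟩]),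
  (1, [ceD, ⟨false, [370], 0, []⟩]),
  (3, []),
  (1, [ceD, ⟨false, [370], 0, []⟩]),
  (1, [ceD, ⟨false, [374], 0, []⟩]),
  (1, [ceD, ⟨false, [374], 0, []⟩]),
  (1, [ceD, ⟨false, [370], 0, []⟩]),
  (1, [ceD, ⟨false, [378], 0, []⟩]),
  (1, [ceD, ⟨false, [374], 0, []⟩]),
  (1, [ceD, ⟨false, [378], 0, []⟩]),
  (1, [ceD, ⟨false, [374], 0, []⟩]),
  (1, [ceD, ⟨false, [376], 0, []⟩]),
  (1, [ceD, ⟨false, [372], 0, []⟩]),
  (1, [ceD, ⟨false, [376], 0, []⟩]),
  (1, [ceD, ⟨false, [376], 0, []⟩]),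
  (1, [ceD, ⟨false, [376], 0, []⟩]),
  (1, [ceD, ⟨false, [370], 0, []⟩]),
  (1, [ceD, ⟨false, [376], 0, []⟩]),
  (1, [ceD, ⟨false, [376], 0, []⟩]),
  (3, []),
  (1, [ceD, ⟨false, [374], 0, [384]⟩]),
  (3, []),
  (1, [ceD, ⟨false, [374], 0, [384]⟩]),
  (1, [ceD, ⟨false, [378], 0, []⟩]),
  (1, [ceD, ⟨false, [374], 0, [384]⟩]),
  (1, [ceD, ⟨false, [378], 0, []⟩]),
  (1, [ceD, ⟨false, [374], 0, [384]⟩])]
noncomputable def vK86_R : List (List ℕ) :=
  [[],
  [382],
  [380],
  [378],
  W (nat_lit 0x5f57b),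
  W (nat_lit 0x17f5f57b),
  [376],
  W (nat_lit 0x5f579),
  W (nat_lit 0x5ed79),
  W (nat_lit 0x17d5ed79),
  [374],
  W (nat_lit 0x5ed77),
  W (nat_lit 0x5e577),
  W (nat_lit 0x17b5e577),
  [372],
  W (nat_lit 0x5e575),
  W (nat_lit 0x5dd75),
  W (nat_lit 0x1795dd75),
  [370],
  W (nat_lit 0x5e573),
  W (nat_lit 0x5dd73),
  W (nat_lit 0x1795dd73),
  W (nat_lit 0x5d573),
  W (nat_lit 0x17f5d573),
  W (nat_lit 0x17d5d573),
  W (nat_lit 0x1795d573),
  W (nat_lit 0x5fd795d573),
  W (nat_lit 0x5f5795d573),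
  W (nat_lit 0x1775d573),
  W (nat_lit 0x5f5775d573),
  W (nat_lit 0x5e5775d573),
  W (nat_lit 0x17d5e5775d573)]
noncomputable def zcj148 : List (List (List ℕ)) :=
  [[[384]],
  [[384]],
  [[384]],
  [[384]],
  [[384]],
  [[384]],
  [[384]],
  [[384]]]
noncomputable def vK87_E : List (ℕ × List CE) :=
  [(3, []),
  (3, []),
  (3, []),
  (3, []),
  (3, []),
  (3, []),
  (3, []),
  (3, []),
  (3, []),
  (3, []),
  (1, [ceD, ⟨false, [390], 0, []⟩]),
  (1, [ceD, ⟨false, [390], 0, []⟩]),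
  (1, [ceD, ⟨false, [390], 0, []⟩]),
  (1, [ceD, ⟨false, [390], 0, []⟩]),
  (3, []),
  (3, []),
  (3, []),
  (3, []),
  (3, []),
  (3, []),
  (3, []),
  (3, []),
  (1, [ceD, ⟨false, [374], 0, []⟩]),
  (1, [ceD, ⟨false, [374], 0, []⟩]),
  (3, []),
  (1, [ceD, ⟨false, [374], 0, []⟩]),
  (1, [ceD, ⟨false, [374], 0, []⟩]),
  (3, []),
  (1, [ceD, ⟨false, [374], 0, []⟩]),
  (1, [ceD, ⟨false, [390], 0, []⟩]),
  (1, [ceD, ⟨false, [374], 0, []⟩]),
  (1, [ceD, ⟨false, [390], 0, []⟩])]
noncomputable def vK87_R : List (List ℕ) :=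
  [[],
  [384],
  [382],
  W (nat_lit 0x6057f),
  [380],
  W (nat_lit 0x6057d),
  [378],
  W (nat_lit 0x6057b),
  W (nat_lit 0x5f57b),
  W (nat_lit 0x1815f57b),
  W (nat_lit 0x17f5f57b),
  W (nat_lit 0x6057f5f57b),
  [376],
  W (nat_lit 0x60579),
  W (nat_lit 0x5f579),
  W (nat_lit 0x1815f579),
  W (nat_lit 0x5ed79),
  W (nat_lit 0x1815ed79),
  W (nat_lit 0x17d5ed79),
  W (nat_lit 0x6057d5ed79),
  [374],
  W (nat_lit 0x5ed77),
  W (nat_lit 0x5e577),
  W (nat_lit 0x17b5e577),
  [372],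
  W (nat_lit 0x60575),
  W (nat_lit 0x5e575),
  W (nat_lit 0x1815e575),
  W (nat_lit 0x5dd75),
  W (nat_lit 0x1815dd75),
  W (nat_lit 0x1795dd75),
  W (nat_lit 0x605795dd75),
  [370],
  W (nat_lit 0x60573),
  W (nat_lit 0x5e573),
  W (nat_lit 0x1815e573),
  W (nat_lit 0x5dd73),
  W (nat_lit 0x1815dd73),
  W (nat_lit 0x1795dd73),
  W (nat_lit 0x605795dd73),
  W (nat_lit 0x5d573),
  W (nat_lit 0x17f5d573),
  W (nat_lit 0x17d5d573),
  W (nat_lit 0x6057d5d573),
  W (nat_lit 0x1795d573),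
  W (nat_lit 0x5fd795d573),
  W (nat_lit 0x5f5795d573),
  W (nat_lit 0x1815f5795d573),
  W (nat_lit 0x1775d573),
  W (nat_lit 0x5f5775d573),
  W (nat_lit 0x5e5775d573),
  W (nat_lit 0x17d5e5775d573)]
noncomputable def zm158 : ℕ :=
  (nat_lit 0x1002085407141410b)
noncomputable def cY0_F : List (List ℕ × ℕ × ℕ) :=
  [([0], zm158, zm158)]
noncomputable def cY0G_v0 : Lev :=
  ⟨0, 64, sg (W (nat_lit 0x4310c4510c43114431144311443)), [[226], [228]], 109, 2⟩
noncomputable def cY0G_v1 : Lev :=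
  ⟨64, 5, sg (W (nat_lit 0x38ce338ce3)), [[434], [436], [438]], 213, 3⟩
noncomputable def cY0G_v2 : Lev :=
  ⟨2, 4, sg (W (nat_lit 0x1b56cdb5)), [[440], [442], [444]], 216, 3⟩
noncomputable def cY0G_v3 : Lev :=
  ⟨6, 2, sg [442], [[446], [448]], 219, 2⟩
noncomputable def cY0G_v4 : Lev :=
  ⟨12, 2, sg [446], [[448]], 221, 0⟩
noncomputable def cY0G_v5 : Lev :=
  ⟨15, 2, sg [448], [], 221, 0⟩
noncomputable def cY0G_vs6 : List Lev :=
  []
noncomputable def cY0G_vs5 : List Lev :=
  cY0G_v5 :: cY0G_vs6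
noncomputable def cY0G_vs4 : List Lev :=
  cY0G_v4 :: cY0G_vs5
noncomputable def cY0G_vs3 : List Lev :=
  cY0G_v3 :: cY0G_vs4
noncomputable def cY0G_vs2 : List Lev :=
  cY0G_v2 :: cY0G_vs3
noncomputable def cY0G_vs1 : List Lev :=
  cY0G_v1 :: cY0G_vs2
noncomputable def cY0G_vs : List Lev :=
  cY0G_v0 :: cY0G_vs1
noncomputable def cY0_x : List (ℕ × List ℕ) :=
  [((nat_lit 0), [(nat_lit 0xffffffffffffffff)]),
  ((nat_lit 0), [(nat_lit 0x1f0000000000000000)]),
  ((nat_lit 0), [(nat_lit 0x2000001204)]),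
  ((nat_lit 0), [(nat_lit 0x100040)]),
  ((nat_lit 0), []),
  ((nat_lit 0), [(nat_lit 0x2000000)])]
noncomputable def cY0_G : Gl :=
  ⟨P, ns, (app D []), (diag [[122]]), [], [], memM (app D []) [[408], [410], [412], [414], [416], [418], [420]], true⟩
noncomputable def cY0_s : St :=
  ⟨(mkS P.n cY0G_vs cY0_x), [[66], [68]], [], mapL Prod.snd cY0_F, memM (app D []) [[408], [410], [412], [414], [416], [418], [420]], []⟩
noncomputable def zt162 : ST :=
  (.orb 0 (.and 1 0 (.br 0 [W (nat_lit 0x1b169dab), W (nat_lit 0x1ad6ad9c), [422]] (W (nat_lit 0x30040500c01)) [(0, [])] (.cons (.orb 0 (.and 0 4 (.br 0 [] [] [(64, [])] (.cons (.orb 0 (.br 0 [[428], W (nat_lit 0x1ad69da96ad99)] (W (nat_lit 0xc01)) [(2, [])] (.cons (.orb 0 (.br 0 [[432]] [0] [(6, [])] (.cons (.img [0] 2 (.br 0 [] [] [(12, [])] (.cons (.orb 0 (.img [0] 0 (.br 0 [] [] [(15, [])] (.cons .fnd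
 .nil))))
 .nil)))
 .nil)))
 .nil)))
 .nil))))
 .nil))))
noncomputable def Y0_v0 : Lev :=
  ⟨65, 4, sg (W (nat_lit 0x66d99)), [[422], [424], [426]], 207, 3⟩
noncomputable def Y0_v1 : Lev :=
  ⟨0, 8, sg (W (nat_lit 0x1ab6a5a7)), [[428], [430]], 210, 2⟩
noncomputable def Y0_v2 : Lev :=
  ⟨2, 2, sg [428], [[432]], 212, 1⟩
noncomputable def Y0_v3 : Lev :=
  ⟨6, 2, sg [432], [], 213, 0⟩
noncomputable def Y0_vs4 : List Lev :=
  []
noncomputable def Y0_vs3 : List Lev :=
  Y0_v3 :: Y0_vs4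
noncomputable def Y0_vs2 : List Lev :=
  Y0_v2 :: Y0_vs3
noncomputable def Y0_vs1 : List Lev :=
  Y0_v1 :: Y0_vs2
noncomputable def Y0_vs : List Lev :=
  Y0_v0 :: Y0_vs1
noncomputable def Y0_ps : List PcG :=
  [⟨[408], 2, [414], [W (nat_lit 0x1a568d9b), W (nat_lit 0x1a568d9d), [414], [416], W (nat_lit 0x695a3), [420]]⟩,
  ⟨[410], 2, W (nat_lit 0x695a1), [[412], W (nat_lit 0x6959f), [416], [418], [420]]⟩,
  ⟨[412], 2, W (nat_lit 0x695a1), [W (nat_lit 0x6959f), [416], [418], [420]]⟩,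
  ⟨[414], 2, [], [[416], [418], [420]]⟩,
  ⟨[416], 2, [], [[418], [420]]⟩,
  ⟨[418], 2, [], [[420]]⟩,
  ⟨[420], 2, [], []⟩]
noncomputable def vY00_E : List (ℕ × List CE) :=
  [(3, [])]
noncomputable def vY00_R : List (List ℕ) :=
  [[],
  [408]]
noncomputable def zcj173 : List (List (List ℕ)) :=
  [[W (nat_lit 0x1a568d9b), W (nat_lit 0x1a568d9d), [414], [416], W (nat_lit 0x695a3), [420]],
  [[410], [412], W (nat_lit 0x6959f), [416], [418], [420]],
  [[410], [412], W (nat_lit 0x6959f), [416], [418], [420]],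
  [W (nat_lit 0x6959b), W (nat_lit 0x6959d), [414], [416], [418], [420]],
  [[410], [412], [414], [416], [418], [420]],
  [[410], [412], [414], [416], [418], [420]],
  [[410], [412], [414], [416], [418], [420]]]
noncomputable def vY01_E : List (ℕ × List CE) :=
  [(3, []),
  (3, [])]
noncomputable def vY01_R : List (List ℕ) :=
  [[],
  [410],
  [408],
  W (nat_lit 0x66d99)]
noncomputable def zcj181 : List (List (List ℕ)) :=
  [[W (nat_lit 0x1a568d9d), [414], [416], W (nat_lit 0x695a3), [420]],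
  [[412], W (nat_lit 0x6959f), [416], [418], [420]],
  [[412], W (nat_lit 0x6959f), [416], [418], [420]],
  [W (nat_lit 0x6959d), [414], [416], [418], [420]],
  [[412], [414], [416], [418], [420]],
  [[412], [414], [416], [418], [420]],
  [[412], [414], [416], [418], [420]]]
noncomputable def vY02_E : List (ℕ × List CE) :=
  [(3, []),
  (3, []),
  (3, []),
  (3, [])]
noncomputable def vY02_R : List (List ℕ) :=
  [[],
  [412],
  [410],
  W (nat_lit 0x6759b),
  [408],
  W (nat_lit 0x67599),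
  W (nat_lit 0x66d99),
  W (nat_lit 0x19d66d99)]
noncomputable def zcj189 : List (List (List ℕ)) :=
  [[[414], [416], W (nat_lit 0x695a3), [420]],
  [W (nat_lit 0x6959f), [416], [418], [420]],
  [W (nat_lit 0x6959f), [416], [418], [420]],
  [[414], [416], [418], [420]],
  [[414], [416], [418], [420]],
  [[414], [416], [418], [420]],
  [[414], [416], [418], [420]]]
noncomputable def vY03_E : List (ℕ × List CE) :=
  [(3, []),
  (3, []),
  (3, []),
  (3, []),
  (3, []),
  (3, []),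
  (3, []),
  (3, [])]
noncomputable def vY03_R : List (List ℕ) :=
  [[],
  [414],
  [412],
  W (nat_lit 0x67d9d),
  [410],
  W (nat_lit 0x67d9b),
  W (nat_lit 0x6759b),
  W (nat_lit 0x19f6759b),
  [408],
  W (nat_lit 0x67d99),
  W (nat_lit 0x67599),
  W (nat_lit 0x19f67599),
  W (nat_lit 0x66d99),
  W (nat_lit 0x19f66d99),
  W (nat_lit 0x19d66d99),
  W (nat_lit 0x67d9d66d99)]
noncomputable def zcj197 : List (List (List ℕ)) :=
  [[[416], W (nat_lit 0x695a3), [420]],
  [[416], [418], [420]],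
  [[416], [418], [420]],
  [[416], [418], [420]],
  [[416], [418], [420]],
  [[416], [418], [420]],
  [[416], [418], [420]]]
noncomputable def vY04_E : List (ℕ × List CE) :=
  [(3, []),
  (3, []),
  (3, []),
  (3, []),
  (3, []),
  (3, []),
  (3, []),
  (3, []),
  (3, []),
  (3, []),
  (3, []),
  (3, []),
  (3, []),
  (3, []),
  (3, []),
  (3, [])]
noncomputable def vY04_R : List (List ℕ) :=
  [[],
  [416],
  [414],
  W (nat_lit 0x6859f),
  [412],
  W (nat_lit 0x6859d),
  W (nat_lit 0x67d9d),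
  W (nat_lit 0x1a167d9d),
  [410],
  W (nat_lit 0x6859b),
  W (nat_lit 0x67d9b),
  W (nat_lit 0x1a167d9b),
  W (nat_lit 0x6759b),
  W (nat_lit 0x1a16759b),
  W (nat_lit 0x19f6759b),
  W (nat_lit 0x6859f6759b),
  [408],
  W (nat_lit 0x68599),
  W (nat_lit 0x67d99),
  W (nat_lit 0x1a167d99),
  W (nat_lit 0x67599),
  W (nat_lit 0x1a167599),
  W (nat_lit 0x19f67599),
  W (nat_lit 0x6859f67599),
  W (nat_lit 0x66d99),
  W (nat_lit 0x1a166d99),
  W (nat_lit 0x19f66d99),
  W (nat_lit 0x6859f66d99),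
  W (nat_lit 0x19d66d99),
  W (nat_lit 0x6859d66d99),
  W (nat_lit 0x67d9d66d99),
  W (nat_lit 0x1a167d9d66d99)]
noncomputable def zcj205 : List (List (List ℕ)) :=
  [[W (nat_lit 0x695a3), [420]],
  [[418], [420]],
  [[418], [420]],
  [[418], [420]],
  [[418], [420]],
  [[418], [420]],
  [[418], [420]]]
noncomputable def vY05_E : List (ℕ × List CE) :=
  [(3, []),
  (3, []),
  (3, []),
  (3, []),
  (1, [ceD, ⟨false, [408], 0, [420]⟩]),
  (1, [ceD, ⟨false, [408], 0, [420]⟩]),
  (1, [ceD, ⟨false, [408], 0, [420]⟩]),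
  (1, [ceD, ⟨false, [408], 0, [420]⟩]),
  (1, [ceD, ⟨false, [408], 0, [420]⟩]),
  (1, [ceD, ⟨false, [408], 0, [420]⟩]),
  (1, [ceD, ⟨false, [408], 0, [420]⟩]),
  (1, [ceD, ⟨false, [408], 0, [420]⟩]),
  (3, []),
  (3, []),
  (3, []),
  (3, []),
  (1, [ceD, ⟨false, [410], 0, [420]⟩]),
  (1, [ceD, ⟨false, [410], 0, [420]⟩]),
  (1, [ceD, ⟨false, [410], 0, []⟩]),
  (1, [ceD, ⟨false, [410], 0, []⟩]),
  (1, [ceD, ⟨false, [408], 0, [420]⟩]),
  (1, [ceD, ⟨false, [408], 0, [420]⟩]),
  (1, [ceD, ⟨false, [408], 0, [420]⟩]),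
  (1, [ceD, ⟨false, [408], 0, [420]⟩]),
  (1, [ceD, ⟨false, [408], 0, [420]⟩]),
  (1, [ceD, ⟨false, [408], 0, [420]⟩]),
  (1, [ceD, ⟨false, [408], 0, [420]⟩]),
  (1, [ceD, ⟨false, [408], 0, [420]⟩]),
  (1, [ceD, ⟨false, [410], 0, [420]⟩]),
  (1, [ceD, ⟨false, [410], 0, [420]⟩]),
  (1, [ceD, ⟨false, [410], 0, []⟩]),
  (1, [ceD, ⟨false, [410], 0, []⟩])]
noncomputable def vY05_R : List (List ℕ) :=
  [[],
  [418],
  [416],
  W (nat_lit 0x68da1),
  [414],
  W (nat_lit 0x68d9f),
  W (nat_lit 0x6859f),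
  W (nat_lit 0x1a36859f),
  [412],
  W (nat_lit 0x6859d),
  W (nat_lit 0x67d9d),
  W (nat_lit 0x1a167d9d),
  [410],
  W (nat_lit 0x6859b),
  W (nat_lit 0x67d9b),
  W (nat_lit 0x1a167d9b),
  W (nat_lit 0x6759b),
  W (nat_lit 0x1a36759b),
  W (nat_lit 0x1a16759b),
  W (nat_lit 0x68da16759b),
  W (nat_lit 0x19f6759b),
  W (nat_lit 0x68d9f6759b),
  W (nat_lit 0x6859f6759b),
  W (nat_lit 0x1a36859f6759b),
  [408],
  W (nat_lit 0x68599),
  W (nat_lit 0x67d99),
  W (nat_lit 0x1a167d99),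
  W (nat_lit 0x67599),
  W (nat_lit 0x1a167599),
  W (nat_lit 0x19f67599),
  W (nat_lit 0x6859f67599),
  W (nat_lit 0x66d99),
  W (nat_lit 0x1a166d99),
  W (nat_lit 0x19f66d99),
  W (nat_lit 0x6859f66d99),
  W (nat_lit 0x19d66d99),
  W (nat_lit 0x6859d66d99),
  W (nat_lit 0x67d9d66d99),
  W (nat_lit 0x1a167d9d66d99)]
noncomputable def zcj213 : List (List (List ℕ)) :=
  [[[420]],
  [[420]],
  [[420]],
  [[420]],
  [[420]],
  [[420]],
  [[420]]]
noncomputable def vY06_E : List (ℕ × List CE) :=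
  [(3, []),
  (1, [ceD, ⟨false, [408], 0, []⟩]),
  (3, []),
  (1, [ceD, ⟨false, [408], 0, []⟩]),
  (1, [ceD, ⟨false, [410], 0, []⟩]),
  (1, [ceD, ⟨false, [408], 0, []⟩]),
  (1, [ceD, ⟨false, [410], 0, []⟩]),
  (1, [ceD, ⟨false, [408], 0, []⟩]),
  (1, [ceD, ⟨false, [414], 0, []⟩]),
  (1, [ceD, ⟨false, [414], 0, []⟩]),
  (1, [ceD, ⟨false, [410], 0, []⟩]),
  (1, [ceD, ⟨false, [410], 0, []⟩]),
  (1, [ceD, ⟨false, [414], 0, []⟩]),
  (1, [ceD, ⟨false, [414], 0, []⟩]),
  (1, [ceD, ⟨false, [410], 0, []⟩]),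
  (1, [ceD, ⟨false, [410], 0, []⟩]),
  (3, []),
  (1, [ceD, ⟨false, [408], 0, []⟩]),
  (3, []),
  (1, [ceD, ⟨false, [408], 0, []⟩]),
  (1, [ceD, ⟨false, [410], 0, []⟩]),
  (1, [ceD, ⟨false, [408], 0, []⟩]),
  (1, [ceD, ⟨false, [410], 0, []⟩]),
  (1, [ceD, ⟨false, [408], 0, []⟩]),
  (1, [ceD, ⟨false, [418], 0, []⟩]),
  (1, [ceD, ⟨false, [418], 0, []⟩]),
  (1, [ceD, ⟨false, [418], 0, []⟩]),
  (1, [ceD, ⟨false, [418], 0, []⟩]),
  (1, [ceD, ⟨false, [414], 0, []⟩]),
  (1, [ceD, ⟨false, [414], 0, []⟩]),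
  (1, [ceD, ⟨false, [414], 0, []⟩]),
  (1, [ceD, ⟨false, [414], 0, []⟩]),
  (1, [ceD, ⟨false, [414], 0, []⟩]),
  (1, [ceD, ⟨false, [414], 0, []⟩]),
  (1, [ceD, ⟨false, [414], 0, []⟩]),
  (1, [ceD, ⟨false, [414], 0, []⟩]),
  (1, [ceD, ⟨false, [418], 0, []⟩]),
  (1, [ceD, ⟨false, [418], 0, []⟩]),
  (1, [ceD, ⟨false, [418], 0, []⟩]),
  (1, [ceD, ⟨false, [418], 0, []⟩])]
noncomputable def vY06_R : List (List ℕ) :=
  [[],
  [420],
  [418],
  [416],
  W (nat_lit 0x695a1),
  W (nat_lit 0x68da1),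
  [414],
  W (nat_lit 0x68d9f),
  W (nat_lit 0x6859f),
  W (nat_lit 0x1a36859f),
  [412],
  W (nat_lit 0x6859d),
  W (nat_lit 0x67d9d),
  W (nat_lit 0x1a167d9d),
  [410],
  W (nat_lit 0x6859b),
  W (nat_lit 0x67d9b),
  W (nat_lit 0x1a167d9b),
  W (nat_lit 0x6759b),
  W (nat_lit 0x1a56759b),
  W (nat_lit 0x1a36759b),
  W (nat_lit 0x1a16759b),
  W (nat_lit 0x695a16759b),
  W (nat_lit 0x68da16759b),
  W (nat_lit 0x19f6759b),
  W (nat_lit 0x68d9f6759b),
  W (nat_lit 0x6859f6759b),
  W (nat_lit 0x1a36859f6759b),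
  [408],
  W (nat_lit 0x68599),
  W (nat_lit 0x67d99),
  W (nat_lit 0x1a167d99),
  W (nat_lit 0x67599),
  W (nat_lit 0x1a167599),
  W (nat_lit 0x19f67599),
  W (nat_lit 0x6859f67599),
  W (nat_lit 0x66d99),
  W (nat_lit 0x1a166d99),
  W (nat_lit 0x19f66d99),
  W (nat_lit 0x6859f66d99),
  W (nat_lit 0x19d66d99),
  W (nat_lit 0x6859d66d99),
  W (nat_lit 0x67d9d66d99),
  W (nat_lit 0x1a167d9d66d99)]
noncomputable def zm223 : ℕ :=
  (nat_lit 0x1f10996b1cc7170bdf)
noncomputable def cR0_F : List (List ℕ × ℕ × ℕ) :=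
  [([0], zm223, zm223)]
noncomputable def cR0G_v0 : Lev :=
  ⟨0, 32, sg (W (nat_lit 0x2ecb92ecb92ecb92ecb9)), [[472], [474], [476]], 232, 3⟩
noncomputable def cR0G_v1 : Lev :=
  ⟨2, 4, sg (W (nat_lit 0x1d9765d9)), [[478], [476], [480]], 235, 2⟩
noncomputable def cR0G_v2 : Lev :=
  ⟨5, 2, sg [478], [[482], [477]], 237, 1⟩
noncomputable def cR0G_v3 : Lev :=
  ⟨6, 2, sg [477], [[482]], 238, 0⟩
noncomputable def cR0G_v4 : Lev :=
  ⟨12, 2, sg [482], [], 238, 0⟩
noncomputable def cR0G_vs5 : List Lev :=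
  []
noncomputable def cR0G_vs4 : List Lev :=
  cR0G_v4 :: cR0G_vs5
noncomputable def cR0G_vs3 : List Lev :=
  cR0G_v3 :: cR0G_vs4
noncomputable def cR0G_vs2 : List Lev :=
  cR0G_v2 :: cR0G_vs3
noncomputable def cR0G_vs1 : List Lev :=
  cR0G_v1 :: cR0G_vs2
noncomputable def cR0G_vs : List Lev :=
  cR0G_v0 :: cR0G_vs1
noncomputable def cR0_x : List (ℕ × List ℕ) :=
  [((nat_lit 0x100000000000000000000000000000000000300000000000000000000000), [(nat_lit 0x20e5647d6977bf)]),
  ((nat_lit 0), [(nat_lit 0x2000001204),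
   (nat_lit 0x41000000)])]
noncomputable def zE227 : List (ℕ × List ℕ) :=
  [(478, [460]),
  (476, [466]),
  (480, W (nat_lit 0x1d774dcd))]
noncomputable def cR0_G : Gl :=
  ⟨P, ns, (app D zE227), (diag [[120]]), [], [], memM (app D zE227) [[450], [452], [192], [206], [454], [456], [458]], true⟩
noncomputable def cR0_s : St :=
  ⟨(mkS P.n cR0G_vs cR0_x), [[184], [186]], [], mapL Prod.snd cR0_F, memM (app D zE227) [[450], [452], [192], [206], [454], [456], [458]], []⟩
noncomputable def zt229 : ST :=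
  (.orb 0 (.and 0 1 (.br 0 [W (nat_lit 0x1d774dcd305c5), W (nat_lit 0x1cd305cb), W (nat_lit 0x74dcd70dc5)] (W (nat_lit 0x40301401)) [(1, W (nat_lit 0xb9764bb)), (0, [])] (.cons (.orb 1 (.dif 0 4 (.mis 0)))
 (.cons (.orb 0 (.and 0 4 (.br 0 [W (nat_lit 0x74cc1)] [0] [(2, [])] (.cons .fnd
 .nil))))
 .nil)))))
noncomputable def R0_v0 : Lev :=
  ⟨0, 8, sg (W (nat_lit 0x1cb715c3)), [[192], [206], [454], [456]], 226, 0⟩
noncomputable def R0_v1 : Lev :=
  ⟨2, 2, sg [192], [[460], [462], [464]], 226, 3⟩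
noncomputable def R0_v2 : Lev :=
  ⟨5, 2, sg [460], [[466], [468]], 229, 2⟩
noncomputable def R0_v3 : Lev :=
  ⟨6, 2, sg [466], [[470]], 231, 1⟩
noncomputable def R0_v4 : Lev :=
  ⟨12, 2, sg [470], [], 232, 0⟩
noncomputable def R0_vs5 : List Lev :=
  []
noncomputable def R0_vs4 : List Lev :=
  R0_v4 :: R0_vs5
noncomputable def R0_vs3 : List Lev :=
  R0_v3 :: R0_vs4
noncomputable def R0_vs2 : List Lev :=
  R0_v2 :: R0_vs3
noncomputable def R0_vs1 : List Lev :=
  R0_v1 :: R0_vs2
noncomputable def R0_vs : List Lev :=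
  R0_v0 :: R0_vs1
noncomputable def R0_ps : List PcG :=
  [⟨[450], 2, [192], [W (nat_lit 0x1cb725c5), [192], [206], [454], W (nat_lit 0x72dc9), [458]]⟩,
  ⟨[452], 2, W (nat_lit 0x1c971cc1), [W (nat_lit 0x72cc1), [206], [454], W (nat_lit 0x72dc9), [458]]⟩,
  ⟨[192], 2, [], [[206], [454], [456], [458]]⟩,
  ⟨[206], 2, [], [[454], [456], [458]]⟩,
  ⟨[454], 2, [], [[456], [458]]⟩,
  ⟨[456], 2, [], [[458]]⟩,
  ⟨[458], 2, [], []⟩]
noncomputable def vR00_E : List (ℕ × List CE) :=
  [(3, [])]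
noncomputable def vR00_R : List (List ℕ) :=
  [[],
  [450]]
noncomputable def zcj240 : List (List (List ℕ)) :=
  [[W (nat_lit 0x1cb725c5), [192], [206], [454], W (nat_lit 0x72dc9), [458]],
  [[452], W (nat_lit 0x72cc1), [206], [454], W (nat_lit 0x72dc9), [458]],
  [W (nat_lit 0x72dc5), [192], [206], [454], [456], [458]],
  [[452], [192], [206], [454], [456], [458]],
  [[452], [192], [206], [454], [456], [458]],
  [W (nat_lit 0x72dc5), [192], [206], [454], [456], [458]],
  [[452], [192], [206], [454], [456], [458]]]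
noncomputable def vR01_E : List (ℕ × List CE) :=
  [(3, []),
  (3, [])]
noncomputable def vR01_R : List (List ℕ) :=
  [[],
  [452],
  [450],
  W (nat_lit 0x715c3)]
noncomputable def zcj248 : List (List (List ℕ)) :=
  [[[192], [206], [454], W (nat_lit 0x72dc9), [458]],
  [W (nat_lit 0x72cc1), [206], [454], W (nat_lit 0x72dc9), [458]],
  [[192], [206], [454], [456], [458]],
  [[192], [206], [454], [456], [458]],
  [[192], [206], [454], [456], [458]],
  [[192], [206], [454], [456], [458]],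
  [[192], [206], [454], [456], [458]]]
noncomputable def vR02_E : List (ℕ × List CE) :=
  [(3, []),
  (3, []),
  (3, []),
  (3, [])]
noncomputable def vR02_R : List (List ℕ) :=
  [[],
  [192],
  [452],
  W (nat_lit 0x305c5),
  [450],
  W (nat_lit 0x305c3),
  W (nat_lit 0x715c3),
  W (nat_lit 0xc1715c3)]
noncomputable def zcj256 : List (List (List ℕ)) :=
  [[[206], [454], W (nat_lit 0x72dc9), [458]],
  [[206], [454], W (nat_lit 0x72dc9), [458]],
  [[206], [454], [456], [458]],
  [[206], [454], [456], [458]],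
  [[206], [454], [456], [458]],
  [[206], [454], [456], [458]],
  [[206], [454], [456], [458]]]
noncomputable def vR03_E : List (ℕ × List CE) :=
  [(3, []),
  (3, []),
  (3, []),
  (3, []),
  (3, []),
  (3, []),
  (3, []),
  (3, [])]
noncomputable def vR03_R : List (List ℕ) :=
  [[],
  [206],
  [192],
  W (nat_lit 0x33cc1),
  [452],
  W (nat_lit 0x33dc5),
  W (nat_lit 0x305c5),
  W (nat_lit 0xcf305c5),
  [450],
  W (nat_lit 0x33dc3),
  W (nat_lit 0x305c3),
  W (nat_lit 0xcf305c3),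
  W (nat_lit 0x715c3),
  W (nat_lit 0xcf715c3),
  W (nat_lit 0xc1715c3),
  W (nat_lit 0x33cc1715c3)]
noncomputable def zcj264 : List (List (List ℕ)) :=
  [[[454], W (nat_lit 0x72dc9), [458]],
  [[454], W (nat_lit 0x72dc9), [458]],
  [[454], [456], [458]],
  [[454], [456], [458]],
  [[454], [456], [458]],
  [[454], [456], [458]],
  [[454], [456], [458]]]
noncomputable def vR04_E : List (ℕ × List CE) :=
  [(3, []),
  (3, []),
  (3, []),
  (3, []),
  (3, []),
  (3, []),
  (3, []),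
  (3, []),
  (3, []),
  (3, []),
  (3, []),
  (3, []),
  (3, []),
  (3, []),
  (3, []),
  (3, [])]
noncomputable def vR04_R : List (List ℕ) :=
  [[],
  [454],
  [206],
  W (nat_lit 0x71ccf),
  [192],
  W (nat_lit 0x71cc1),
  W (nat_lit 0x33cc1),
  W (nat_lit 0x1c733cc1),
  [452],
  W (nat_lit 0x71dc5),
  W (nat_lit 0x33dc5),
  W (nat_lit 0x1c733dc5),
  W (nat_lit 0x305c5),
  W (nat_lit 0x1c7305c5),
  W (nat_lit 0xcf305c5),
  W (nat_lit 0x71ccf305c5),
  [450],
  W (nat_lit 0x71dc3),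
  W (nat_lit 0x33dc3),
  W (nat_lit 0x1c733dc3),
  W (nat_lit 0x305c3),
  W (nat_lit 0x1c7305c3),
  W (nat_lit 0xcf305c3),
  W (nat_lit 0x71ccf305c3),
  W (nat_lit 0x715c3),
  W (nat_lit 0x1c7715c3),
  W (nat_lit 0xcf715c3),
  W (nat_lit 0x71ccf715c3),
  W (nat_lit 0xc1715c3),
  W (nat_lit 0x71cc1715c3),
  W (nat_lit 0x33cc1715c3),
  W (nat_lit 0x1c733cc1715c3)]
noncomputable def zcj272 : List (List (List ℕ)) :=
  [[W (nat_lit 0x72dc9), [458]],
  [W (nat_lit 0x72dc9), [458]],
  [[456], [458]],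
  [[456], [458]],
  [[456], [458]],
  [[456], [458]],
  [[456], [458]]]
noncomputable def vR05_E : List (ℕ × List CE) :=
  [(3, []),
  (3, []),
  (3, []),
  (3, []),
  (3, []),
  (3, []),
  (3, []),
  (3, []),
  (1, [ceD, ⟨false, [450], 0, [458]⟩]),
  (1, [ceD, ⟨false, [450], 0, [458]⟩]),
  (1, [ceD, ⟨false, [450], 0, [458]⟩]),
  (1, [ceD, ⟨false, [450], 0, [458]⟩]),
  (1, [ceD, ⟨false, [450], 0, [458]⟩]),
  (1, [ceD, ⟨false, [450], 0, [458]⟩]),
  (1, [ceD, ⟨false, [450], 0, [458]⟩]),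
  (1, [ceD, ⟨false, [450], 0, [458]⟩]),
  (1, [ceD, ⟨false, [452], 0, [458]⟩]),
  (1, [ceD, ⟨false, [452], 0, [458]⟩]),
  (1, [ceD, ⟨false, [452], 0, [458]⟩]),
  (1, [ceD, ⟨false, [452], 0, [458]⟩]),
  (1, [ceD, ⟨false, [452], 0, []⟩]),
  (1, [ceD, ⟨false, [452], 0, []⟩]),
  (1, [ceD, ⟨false, [452], 0, []⟩]),
  (1, [ceD, ⟨false, [452], 0, []⟩]),
  (1, [ceD, ⟨false, [450], 0, [458]⟩]),
  (1, [ceD, ⟨false, [450], 0, [458]⟩]),
  (1, [ceD, ⟨false, [450], 0, [458]⟩]),
  (1, [ceD, ⟨false, [450], 0, [458]⟩]),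
  (1, [ceD, ⟨false, [450], 0, [458]⟩]),
  (1, [ceD, ⟨false, [450], 0, [458]⟩]),
  (1, [ceD, ⟨false, [450], 0, [458]⟩]),
  (1, [ceD, ⟨false, [450], 0, [458]⟩])]
noncomputable def vR05_R : List (List ℕ) :=
  [[],
  [456],
  [454],
  W (nat_lit 0x725c7),
  [206],
  W (nat_lit 0x724cf),
  W (nat_lit 0x71ccf),
  W (nat_lit 0x1c971ccf),
  [192],
  W (nat_lit 0x724c1),
  W (nat_lit 0x71cc1),
  W (nat_lit 0x1c971cc1),
  W (nat_lit 0x33cc1),
  W (nat_lit 0x1c933cc1),
  W (nat_lit 0x1c733cc1),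
  W (nat_lit 0x725c733cc1),
  [452],
  W (nat_lit 0x71dc5),
  W (nat_lit 0x33dc5),
  W (nat_lit 0x1c733dc5),
  W (nat_lit 0x305c5),
  W (nat_lit 0x1c7305c5),
  W (nat_lit 0xcf305c5),
  W (nat_lit 0x71ccf305c5),
  [450],
  W (nat_lit 0x71dc3),
  W (nat_lit 0x33dc3),
  W (nat_lit 0x1c733dc3),
  W (nat_lit 0x305c3),
  W (nat_lit 0x1c7305c3),
  W (nat_lit 0xcf305c3),
  W (nat_lit 0x71ccf305c3),
  W (nat_lit 0x715c3),
  W (nat_lit 0x1c7715c3),
  W (nat_lit 0xcf715c3),
  W (nat_lit 0x71ccf715c3),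
  W (nat_lit 0xc1715c3),
  W (nat_lit 0x71cc1715c3),
  W (nat_lit 0x33cc1715c3),
  W (nat_lit 0x1c733cc1715c3)]
noncomputable def zcj280 : List (List (List ℕ)) :=
  [[[458]],
  [[458]],
  [[458]],
  [[458]],
  [[458]],
  [[458]],
  [[458]]]
noncomputable def vR06_E : List (ℕ × List CE) :=
  [(3, []),
  (1, [ceD, ⟨false, [450], 0, []⟩]),
  (3, []),
  (1, [ceD, ⟨false, [450], 0, []⟩]),
  (3, []),
  (1, [ceD, ⟨false, [450], 0, []⟩]),
  (3, []),
  (1, [ceD, ⟨false, [450], 0, []⟩]),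
  (1, [ceD, ⟨false, [452], 0, []⟩]),
  (1, [ceD, ⟨false, [450], 0, []⟩]),
  (1, [ceD, ⟨false, [452], 0, []⟩]),
  (1, [ceD, ⟨false, [450], 0, []⟩]),
  (1, [ceD, ⟨false, [452], 0, []⟩]),
  (1, [ceD, ⟨false, [450], 0, []⟩]),
  (1, [ceD, ⟨false, [452], 0, []⟩]),
  (1, [ceD, ⟨false, [450], 0, []⟩]),
  (1, [ceD, ⟨false, [192], 0, []⟩]),
  (1, [ceD, ⟨false, [192], 0, []⟩]),
  (1, [ceD, ⟨false, [192], 0, []⟩]),
  (1, [ceD, ⟨false, [192], 0, []⟩]),
  (1, [ceD, ⟨false, [192], 0, []⟩]),
  (1, [ceD, ⟨false, [192], 0, []⟩]),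
  (1, [ceD, ⟨false, [192], 0, []⟩]),
  (1, [ceD, ⟨false, [192], 0, []⟩]),
  (1, [ceD, ⟨false, [456], 0, []⟩]),
  (1, [ceD, ⟨false, [456], 0, []⟩]),
  (1, [ceD, ⟨false, [456], 0, []⟩]),
  (1, [ceD, ⟨false, [456], 0, []⟩]),
  (1, [ceD, ⟨false, [456], 0, []⟩]),
  (1, [ceD, ⟨false, [456], 0, []⟩]),
  (1, [ceD, ⟨false, [456], 0, []⟩]),
  (1, [ceD, ⟨false, [456], 0, []⟩]),
  (1, [ceD, ⟨false, [192], 0, []⟩]),
  (1, [ceD, ⟨false, [192], 0, []⟩]),
  (1, [ceD, ⟨false, [192], 0, []⟩]),
  (1, [ceD, ⟨false, [192], 0, []⟩]),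
  (1, [ceD, ⟨false, [192], 0, []⟩]),
  (1, [ceD, ⟨false, [192], 0, []⟩]),
  (1, [ceD, ⟨false, [192], 0, []⟩]),
  (1, [ceD, ⟨false, [192], 0, []⟩])]
noncomputable def vR06_R : List (List ℕ) :=
  [[],
  [458],
  [456],
  [454],
  W (nat_lit 0x72dc7),
  W (nat_lit 0x725c7),
  [206],
  W (nat_lit 0x72ccf),
  W (nat_lit 0x724cf),
  W (nat_lit 0x71ccf),
  W (nat_lit 0x1cb71ccf),
  W (nat_lit 0x1c971ccf),
  [192],
  W (nat_lit 0x724c1),
  W (nat_lit 0x71cc1),
  W (nat_lit 0x1c971cc1),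
  W (nat_lit 0x33cc1),
  W (nat_lit 0x1c933cc1),
  W (nat_lit 0x1c733cc1),
  W (nat_lit 0x725c733cc1),
  [452],
  W (nat_lit 0x71dc5),
  W (nat_lit 0x33dc5),
  W (nat_lit 0x1c733dc5),
  W (nat_lit 0x305c5),
  W (nat_lit 0x1c7305c5),
  W (nat_lit 0xcf305c5),
  W (nat_lit 0x71ccf305c5),
  [450],
  W (nat_lit 0x71dc3),
  W (nat_lit 0x33dc3),
  W (nat_lit 0x1c733dc3),
  W (nat_lit 0x305c3),
  W (nat_lit 0x1c7305c3),
  W (nat_lit 0xcf305c3),
  W (nat_lit 0x71ccf305c3),
  W (nat_lit 0x715c3),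
  W (nat_lit 0x1c7715c3),
  W (nat_lit 0xcf715c3),
  W (nat_lit 0x71ccf715c3),
  W (nat_lit 0xc1715c3),
  W (nat_lit 0x71cc1715c3),
  W (nat_lit 0x33cc1715c3),
  W (nat_lit 0x1c733cc1715c3)]
noncomputable def oT : List (List (ℕ × ℕ)) :=
  [[(0, 0), (2, 3), (4, 1), (1, 4), (3, 2), (5, 5), (7, 8), (9, 6), (6, 9), (8, 7)],
  [(4, 3), (1, 1), (3, 4), (0, 2), (2, 0), (9, 8), (6, 6), (8, 9), (5, 7), (7, 5)],
  [(0, 0), (1, 1), (2, 2), (3, 3), (4, 4), (5, 5), (6, 6), (7, 7), (8, 8), (9, 9)],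
  [(0, 0), (6, 6), (2, 2), (8, 8), (4, 4), (5, 5), (1, 1), (7, 7), (3, 3), (9, 9)]]
noncomputable def Wc_ps : List PcG :=
  [⟨[118], 2, [], [[484], [486], [488], [492]]⟩,
  ⟨[484], 2, [], [[486], [488], [492]]⟩,
  ⟨[486], 2, [], [[488], [492]]⟩,
  ⟨[488], 2, [], [[492]]⟩,
  ⟨[492], 2, [], []⟩]
noncomputable def Wc_v0 : Lev :=
  ⟨0, 2, sg [492], [[118], [484], [486], [488]], 247, 0⟩
noncomputable def Wc_v1 : Lev :=
  ⟨2, 2, sg [484], [[502], [504], [506]], 247, 3⟩
noncomputable def Wc_v2 : Lev :=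
  ⟨5, 2, sg [502], [[504], [506]], 250, 0⟩
noncomputable def Wc_v3 : Lev :=
  ⟨6, 2, sg [506], [[504]], 250, 0⟩
noncomputable def Wc_v4 : Lev :=
  ⟨12, 2, sg [504], [], 250, 0⟩
noncomputable def Wc_vs5 : List Lev :=
  []
noncomputable def Wc_vs4 : List Lev :=
  Wc_v4 :: Wc_vs5
noncomputable def Wc_vs3 : List Lev :=
  Wc_v3 :: Wc_vs4
noncomputable def Wc_vs2 : List Lev :=
  Wc_v2 :: Wc_vs3
noncomputable def Wc_vs1 : List Lev :=
  Wc_v1 :: Wc_vs2
noncomputable def Wc_vs : List Lev :=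
  Wc_v0 :: Wc_vs1
noncomputable def W3c_ps : List PcG :=
  [⟨[116], 2, [], [[492], [122], [508], [510]]⟩,
  ⟨[492], 2, [], [[122], [508], [510]]⟩,
  ⟨[122], 2, [], [[508], [510]]⟩,
  ⟨[508], 2, [], [[510]]⟩,
  ⟨[510], 2, [], []⟩]
noncomputable def W3c_v0 : Lev :=
  ⟨65, 2, sg [122], [[512], [514], [516], [518]], 252, 4⟩
noncomputable def W3c_v1 : Lev :=
  ⟨0, 4, sg (W (nat_lit 0x81e03)), [[520], [522]], 256, 2⟩
noncomputable def W3c_v2 : Lev :=
  ⟨2, 2, sg [520], [[524]], 258, 1⟩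
noncomputable def W3c_v3 : Lev :=
  ⟨6, 2, sg [524], [], 259, 0⟩
noncomputable def W3c_vs4 : List Lev :=
  []
noncomputable def W3c_vs3 : List Lev :=
  W3c_v3 :: W3c_vs4
noncomputable def W3c_vs2 : List Lev :=
  W3c_v2 :: W3c_vs3
noncomputable def W3c_vs1 : List Lev :=
  W3c_v1 :: W3c_vs2
noncomputable def W3c_vs : List Lev :=
  W3c_v0 :: W3c_vs1
noncomputable def zcj354 : List (List (List ℕ)) :=
  [[W (nat_lit 0x20d82603), W (nat_lit 0x82603), W (nat_lit 0x8360381c7b), W (nat_lit 0x8347b), W (nat_lit 0x8247b)],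
  [W (nat_lit 0x20d82603), W (nat_lit 0x82603), W (nat_lit 0x20381c7b), [122], W (nat_lit 0x8247b)]]
noncomputable def I_ps : List PcG :=
  [⟨[530], 2, [], [[528], [526]]⟩,
  ⟨[528], 2, [], [[526]]⟩,
  ⟨[526], 2, [], []⟩]
noncomputable def I_v0 : Lev :=
  ⟨0, 2, sg [526], [[528], [530]], 262, 0⟩
noncomputable def I_v1 : Lev :=
  ⟨2, 2, sg [528], [[530]], 262, 0⟩
noncomputable def I_v2 : Lev :=
  ⟨6, 2, sg [530], [], 262, 0⟩
noncomputable def I_vs3 : List Lev :=
  []
noncomputable def I_vs2 : List Lev :=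
  I_v2 :: I_vs3
noncomputable def I_vs1 : List Lev :=
  I_v1 :: I_vs2
noncomputable def I_vs : List Lev :=
  I_v0 :: I_vs1
noncomputable def cI_F : List (List ℕ × ℕ × ℕ) :=
  []
noncomputable def cIG_v0 : Lev :=
  ⟨0, 2, sg [492], [[118], [484], [486], [488]], 247, 0⟩
noncomputable def cIG_v1 : Lev :=
  ⟨2, 2, sg [484], [[502], [504], [506]], 247, 3⟩
noncomputable def cIG_v2 : Lev :=
  ⟨6, 2, sg [506], [[502], [504]], 262, 0⟩
noncomputable def cIG_v3 : Lev :=
  ⟨12, 2, sg [502], [[532]], 262, 1⟩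
noncomputable def cIG_v4 : Lev :=
  ⟨15, 2, sg [532], [], 263, 0⟩
noncomputable def cIG_vs5 : List Lev :=
  []
noncomputable def cIG_vs4 : List Lev :=
  cIG_v4 :: cIG_vs5
noncomputable def cIG_vs3 : List Lev :=
  cIG_v3 :: cIG_vs4
noncomputable def cIG_vs2 : List Lev :=
  cIG_v2 :: cIG_vs3
noncomputable def cIG_vs1 : List Lev :=
  cIG_v1 :: cIG_vs2
noncomputable def cIG_vs : List Lev :=
  cIG_v0 :: cIG_vs1
noncomputable def cI_x : List (ℕ × List ℕ) :=
  [((nat_lit 0), [(nat_lit 0x9)]),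
  ((nat_lit 0), [(nat_lit 0x204)]),
  ((nat_lit 0), [(nat_lit 0x100040)]),
  ((nat_lit 0), []),
  ((nat_lit 0), [(nat_lit 0x2000000)])]
noncomputable def cI_G : Gl :=
  ⟨P, ns, (app D []), (diag [[116], [492], [122], [508], [510]]), [], [], memM (app D []) [[526], [528], [530]], true⟩
noncomputable def cI_s : St :=
  ⟨(mkS P.n cIG_vs cI_x), [[118], [484], [486], [488], [492]], [], mapL Prod.snd cI_F, memM (app D []) [[526], [528], [530]], []⟩
noncomputable def zt378 : ST :=
  (.orb 0 (.br 0 [W (nat_lit 0x2138460f)] [0] [(0, [])] (.cons (.orb 0 (.br 0 [W (nat_lit 0x84e11)] [0] [(2, [])] (.cons (.orb 0 (.br 0 [[530]] [0] [(6, [])] (.cons (.img [4] 2 (.br 0 [] [] [(12, [])] (.cons (.orb 0 (.img [4] 0 (.br 0 [] [] [(15, [])] (.cons .fnd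
 .nil))))
 .nil)))
 .nil)))
 .nil)))
 .nil)))
noncomputable def zts382 : List (List ℕ) :=
  [W (nat_lit 0x83603),
  W (nat_lit 0x83609),
  [524]]
noncomputable def zps385 : List (List ℕ × List ℕ) :=
  [(W (nat_lit 0x7a478), [508]), (W (nat_lit 0x795ea), [509]), (W (nat_lit 0x7a478), W (nat_lit 0x7fc7c))]
noncomputable def zts388 : List (List ℕ) :=
  [W (nat_lit 0x87617),
  [542],
  [540]]
noncomputable def zts391 : List (List ℕ) :=
  [[],
  [],
  [],
  [],
  [],
  [],
  [],
  W (nat_lit 0x84e11),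
  [526],
  [526],
  [],
  [],
  [528],
  W (nat_lit 0x84e0f),
  W (nat_lit 0x84e0f),
  [],
  [],
  [528],
  W (nat_lit 0x84e0f),
  W (nat_lit 0x84e0f),
  [],
  [],
  [],
  [],
  []]
noncomputable def zcj394 : List (List (List ℕ)) :=
  [[[526], [528], [530]],
  [[526], [528], [530]],
  [[526], [528], [530]],
  [[526], [528], [530]],
  [[526], [528], [530]]]
noncomputable def zcj397 : List (List (List ℕ)) :=
  [[[526], [528], [530]],
  [[526], [528], [530]],
  [[526], [528], [530]],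
  [[526], [528], [530]],
  [[526], [528], [530]]]
noncomputable def O2_ps : List PcG :=
  [⟨[550], 2, W (nat_lit 0x88633), [W (nat_lit 0x8d6338c625), W (nat_lit 0x886338c623), W (nat_lit 0x8e631), [544], W (nat_lit 0x2218d633), W (nat_lit 0x8e6218de33), [562], [568]]⟩,
  ⟨[548], 2, W (nat_lit 0x8e6218ce31), [W (nat_lit 0x8e6378ce23), [560], W (nat_lit 0x2218d633), [544], W (nat_lit 0x8e6218de35), W (nat_lit 0x8e635), [568]]⟩,
  ⟨[546], 2, [560], [[560], W (nat_lit 0x8e6218de33), W (nat_lit 0x8e6218de35), [544], W (nat_lit 0x8e637), [568]]⟩,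
  ⟨[560], 2, [], [W (nat_lit 0x8e633), W (nat_lit 0x8e635), W (nat_lit 0x8e637), W (nat_lit 0x8e621), [568]]⟩,
  ⟨[562], 2, [568], [[564], [566], [544], [568]]⟩,
  ⟨[564], 2, [568], [[566], [544], [568]]⟩,
  ⟨[566], 2, [568], [[544], [568]]⟩,
  ⟨[544], 2, [568], [[568]]⟩,
  ⟨[568], 2, [], []⟩]
noncomputable def O2_v0 : Lev :=
  ⟨0, 32, sg (W (nat_lit 0x8862189e2588e21)), [[552], [554], [556], [558]], 272, 4⟩
noncomputable def O2_v1 : Lev :=
  ⟨2, 2, sg [556], [[552], [554], [558]], 276, 0⟩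
noncomputable def O2_v2 : Lev :=
  ⟨5, 2, sg [554], [[552], [558]], 276, 0⟩
noncomputable def O2_v3 : Lev :=
  ⟨6, 2, sg [552], [[558]], 276, 0⟩
noncomputable def O2_v4 : Lev :=
  ⟨12, 2, sg [558], [], 276, 0⟩
noncomputable def O2_vs5 : List Lev :=
  []
noncomputable def O2_vs4 : List Lev :=
  O2_v4 :: O2_vs5
noncomputable def O2_vs3 : List Lev :=
  O2_v3 :: O2_vs4
noncomputable def O2_vs2 : List Lev :=
  O2_v2 :: O2_vs3
noncomputable def O2_vs1 : List Lev :=
  O2_v1 :: O2_vs2
noncomputable def O2_vs : List Lev :=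
  O2_v0 :: O2_vs1
noncomputable def cQ_P_ps : List PcG :=
  [⟨[570], 2, [572], [[572], [576], [578], [544], W (nat_lit 0x24991e3f), [582], [584], [552], [580], W (nat_lit 0x22992e45)]⟩,
  ⟨[572], 2, W (nat_lit 0x886439063f), [[578], [544], W (nat_lit 0x24991e3f), W (nat_lit 0x22992641), [584], [552], W (nat_lit 0x22992e45), [582], W (nat_lit 0x22992e47)]⟩,
  ⟨[574], 2, W (nat_lit 0x8a64b), [W (nat_lit 0x91e41), W (nat_lit 0x24991643), W (nat_lit 0x91621), [580], [582], [584], [552], [586]]⟩,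
  ⟨[576], 2, W (nat_lit 0x8a64b), [W (nat_lit 0x92643), W (nat_lit 0x22991e21), W (nat_lit 0x22992e45), [582], [584], [586], [552]]⟩,
  ⟨[578], 2, W (nat_lit 0x8a64b), [W (nat_lit 0x8a621), [580], W (nat_lit 0x22992e47), [584], [586], [552]]⟩,
  ⟨[544], 2, W (nat_lit 0x8a64b), [[580], [582], W (nat_lit 0x22992e49), [586], [552]]⟩,
  ⟨[580], 2, [], [[582], [584], [586], [552]]⟩,
  ⟨[582], 2, [], [[584], [586], [552]]⟩,
  ⟨[584], 2, [], [[586], [552]]⟩,
  ⟨[586], 2, [], [[552]]⟩,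
  ⟨[552], 2, [], []⟩]
noncomputable def zE403 : List (ℕ × List ℕ) :=
  [(546, W (nat_lit 0x8a64990e3f)),
  (548, W (nat_lit 0x92e4991e2190e41)),
  (550, W (nat_lit 0x8a649916439063f))]
noncomputable def cQ_P_v0 : Lev :=
  ⟨65, 4, sg (W (nat_lit 0x23b8ee3b)), [[544], [546], [548], [550]], 282, 0⟩
noncomputable def cQ_P_v1 : Lev :=
  ⟨0, 32, sg (W (nat_lit 0x8862189e2588e21)), [[552], [554], [556], [558]], 272, 4⟩
noncomputable def cQ_P_v2 : Lev :=
  ⟨2, 2, sg [556], [[552], [554], [558]], 276, 0⟩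
noncomputable def cQ_P_v3 : Lev :=
  ⟨5, 2, sg [554], [[552], [558]], 276, 0⟩
noncomputable def cQ_P_v4 : Lev :=
  ⟨6, 2, sg [552], [[558]], 276, 0⟩
noncomputable def cQ_P_v5 : Lev :=
  ⟨12, 2, sg [558], [], 276, 0⟩
noncomputable def cQ_P_vs6 : List Lev :=
  []
noncomputable def cQ_P_vs5 : List Lev :=
  cQ_P_v5 :: cQ_P_vs6
noncomputable def cQ_P_vs4 : List Lev :=
  cQ_P_v4 :: cQ_P_vs5
noncomputable def cQ_P_vs3 : List Lev :=
  cQ_P_v3 :: cQ_P_vs4
noncomputable def cQ_P_vs2 : List Lev :=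
  cQ_P_v2 :: cQ_P_vs3
noncomputable def cQ_P_vs1 : List Lev :=
  cQ_P_v1 :: cQ_P_vs2
noncomputable def cQ_P_vs : List Lev :=
  cQ_P_v0 :: cQ_P_vs1
noncomputable def cQ_s_ms : List ℕ :=
  [(nat_lit 0x1b0000000000000000)]
noncomputable def cQ_sG_v0 : Lev :=
  ⟨0, 64, sg (W (nat_lit 0x2218863b89e2588e21)), [[588], [590], [592]], 290, 3⟩
noncomputable def cQ_sG_v1 : Lev :=
  ⟨14, 2, sg [588], [[593], [594], [596]], 293, 2⟩
noncomputable def cQ_sG_v2 : Lev :=
  ⟨16, 2, sg [593], [[598], [600], [602]], 295, 3⟩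
noncomputable def cQ_sG_v3 : Lev :=
  ⟨66, 2, sg [598], [[600], [602]], 298, 0⟩
noncomputable def cQ_sG_v4 : Lev :=
  ⟨2, 2, sg [600], [[602]], 298, 0⟩
noncomputable def cQ_sG_v5 : Lev :=
  ⟨6, 2, sg [602], [], 298, 0⟩
noncomputable def cQ_sG_vs6 : List Lev :=
  []
noncomputable def cQ_sG_vs5 : List Lev :=
  cQ_sG_v5 :: cQ_sG_vs6
noncomputable def cQ_sG_vs4 : List Lev :=
  cQ_sG_v4 :: cQ_sG_vs5
noncomputable def cQ_sG_vs3 : List Lev :=
  cQ_sG_v3 :: cQ_sG_vs4
noncomputable def cQ_sG_vs2 : List Lev :=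
  cQ_sG_v2 :: cQ_sG_vs3
noncomputable def cQ_sG_vs1 : List Lev :=
  cQ_sG_v1 :: cQ_sG_vs2
noncomputable def cQ_sG_vs : List Lev :=
  cQ_sG_v0 :: cQ_sG_vs1
noncomputable def cQ_s_x : List (ℕ × List ℕ) :=
  [((nat_lit 0x200100000000000000000000000000000000000000000000000000000000000000000000), [(nat_lit 0xffffffffffffffff)]),
  ((nat_lit 0), [(nat_lit 0x4000004000),
   (nat_lit 0x120000000000000000)]),
  ((nat_lit 0), [(nat_lit 0x10000010000)]),
  ((nat_lit 0), [(nat_lit 0xc0000000000000000)])]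
noncomputable def zE410 : List (ℕ × List ℕ) :=
  [(600, W (nat_lit 0x22f8a62d)),
  (602, W (nat_lit 0x8be29))]
noncomputable def cQ_s_G : Gl :=
  ⟨P, ns, (app D zE410), [], [], [], memM (app D zE410) [[544], [546], [548], [550]], true⟩
noncomputable def cQ_s_s : St :=
  ⟨(mkS P.n cQ_sG_vs cQ_s_x), [[544], [546], [548], [550], [570]], [], diag cQ_s_ms, memM (app D zE410) [[544], [546], [548], [550]], []⟩
noncomputable def zt412 : ST :=
  (.orb 0 (.br 0 [W (nat_lit 0x22f8a62b8b625), W (nat_lit 0x22f88e25), W (nat_lit 0x22f8ae2d88e27), W (nat_lit 0x22f8a62d88a27)] (W (nat_lit 0x100c0101c0500c01)) [(1, W (nat_lit 0x88a3c)), (0, [])] (.cons (.orb 1 (.dif 0 3 (.mis 0)))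
 (.cons (.orb 0 (.br 0 [W (nat_lit 0x2298ae2d)] [0] [(14, [])] (.cons (.orb 0 (.br 0 [[558]] [0] [(16, [])] (.cons (.orb 0 (.dif 0 7 (.br 0 [] [] [(66, [])] (.cons .fnd
 .nil))))
 .nil)))
 .nil)))
 .nil))))
noncomputable def zus415 : List (List ℕ × ℕ) :=
  [(W (nat_lit 0x45110441184610c46), (nat_lit 0x1e0000000000000000))]
noncomputable def zts417 : List (List ℕ) :=
  [W (nat_lit 0x15c4b13851),
  W (nat_lit 0x5b1745712c51),
  W (nat_lit 0x5f1745713c51),
  W (nat_lit 0x1344f),
  W (nat_lit 0x5b17c4f1344a)]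
noncomputable def zcj420 : List (List (List ℕ)) :=
  [[W (nat_lit 0x22f8a62b88e28), W (nat_lit 0x22b88e26), W (nat_lit 0x89e29), W (nat_lit 0x8be298b62188e28)],
  [W (nat_lit 0x22988e27), W (nat_lit 0x22f8a62b89e29), W (nat_lit 0x8be2989e25), W (nat_lit 0x2298b62189a23)]]
noncomputable def zts423 : List (List ℕ) :=
  [W (nat_lit 0x15c4b13851),
  W (nat_lit 0x5b1745712c51),
  W (nat_lit 0x5f1745713c51),
  W (nat_lit 0x1344f)]
noncomputable def E_v0 : Lev :=
  ⟨0, 4, sg (W (nat_lit 0x81e5f)), [[604], [524]], 300, 0⟩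
noncomputable def E_v1 : Lev :=
  ⟨2, 2, sg [604], [[524]], 300, 0⟩
noncomputable def E_v2 : Lev :=
  ⟨6, 2, sg [524], [], 259, 0⟩
noncomputable def E_vs3 : List Lev :=
  []
noncomputable def E_vs2 : List Lev :=
  E_v2 :: E_vs3
noncomputable def E_vs1 : List Lev :=
  E_v1 :: E_vs2
noncomputable def E_vs : List Lev :=
  E_v0 :: E_vs1
noncomputable def zts429 : List (List ℕ) :=
  [W (nat_lit 0x22f8a62d),
  W (nat_lit 0x8be29),
  W (nat_lit 0x88621),
  W (nat_lit 0x88a27)]
noncomputable def V_ps : List PcG :=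
  [⟨[4], 2, W (nat_lit 0x7b477), [[118], [484], [486], [488], [492]]⟩,
  ⟨[118], 2, [], [[484], [486], [488], [492]]⟩,
  ⟨[484], 2, [], [[486], [488], [492]]⟩,
  ⟨[486], 2, [], [[488], [492]]⟩,
  ⟨[488], 2, [], [[492]]⟩,
  ⟨[492], 2, [], []⟩]
noncomputable def V_v0 : Lev :=
  ⟨0, 4, sg (W (nat_lit 0x7b405)), [[118], [484], [486], [488]], 300, 0⟩
noncomputable def V_v1 : Lev :=
  ⟨2, 2, sg [484], [[502], [504], [506]], 247, 3⟩
noncomputable def V_v2 : Lev :=
  ⟨5, 2, sg [502], [[504], [506]], 250, 0⟩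
noncomputable def V_v3 : Lev :=
  ⟨6, 2, sg [506], [[504]], 250, 0⟩
noncomputable def V_v4 : Lev :=
  ⟨12, 2, sg [504], [], 250, 0⟩
noncomputable def V_vs5 : List Lev :=
  []
noncomputable def V_vs4 : List Lev :=
  V_v4 :: V_vs5
noncomputable def V_vs3 : List Lev :=
  V_v3 :: V_vs4
noncomputable def V_vs2 : List Lev :=
  V_v2 :: V_vs3
noncomputable def V_vs1 : List Lev :=
  V_v1 :: V_vs2
noncomputable def V_vs : List Lev :=
  V_v0 :: V_vs1
noncomputable def zm442 : ℕ :=
  (nat_lit 0x1f0020e5647d6977bf)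
noncomputable def zm443 : ℕ :=
  (nat_lit 0x1fcc086afdaee4d10b)
noncomputable def zm444 : ℕ :=
  (nat_lit 0x1f10996b1cc7170bdf)
noncomputable def zm445 : ℕ :=
  (nat_lit 0x1f230c09b1c9bbbd6b)
noncomputable def zm446 : ℕ :=
  (nat_lit 0x1fffdf1a9b82968840)
noncomputable def cV_F : List (List ℕ × ℕ × ℕ) :=
  [([0], zm442, zm442),
  ([2], zm443, zm443),
  ([4], zm444, zm444),
  ([6], zm445, zm445),
  ([8], zm446, zm446)]
noncomputable def cVG_v0 : Lev :=
  ⟨0, 64, sg (W (nat_lit 0x500407004070040700c0101c05)), [[170], [172]], 81, 2⟩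
noncomputable def cVG_v1 : Lev :=
  ⟨5, 20, sg (W (nat_lit 0x2b4ab2b4ab2b4ab)), [[402], [404], [406]], 197, 3⟩
noncomputable def cVG_v2 : Lev :=
  ⟨2, 4, sg (W (nat_lit 0x19765597)), [[402], [404]], 200, 0⟩
noncomputable def cVG_v3 : Lev :=
  ⟨6, 2, sg [404], [[402]], 200, 0⟩
noncomputable def cVG_v4 : Lev :=
  ⟨12, 2, sg [402], [], 200, 0⟩
noncomputable def cVG_vs5 : List Lev :=
  []
noncomputable def cVG_vs4 : List Lev :=
  cVG_v4 :: cVG_vs5
noncomputable def cVG_vs3 : List Lev :=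
  cVG_v3 :: cVG_vs4
noncomputable def cVG_vs2 : List Lev :=
  cVG_v2 :: cVG_vs3
noncomputable def cVG_vs1 : List Lev :=
  cVG_v1 :: cVG_vs2
noncomputable def cVG_vs : List Lev :=
  cVG_v0 :: cVG_vs1
noncomputable def cV_x : List (ℕ × List ℕ) :=
  [((nat_lit 0), []),
  ((nat_lit 0), [(nat_lit 0x821a8a6599264)]),
  ((nat_lit 0), [(nat_lit 0x8000008204)])]
noncomputable def zE450 : List (ℕ × List ℕ) :=
  [(402, [504]),
  (404, [506])]
noncomputable def cV_G : Gl :=
  ⟨P, ns, (app D zE450), (diag [[118], [484], [486], [488], [492]]), [], [], memM (app D zE450) [[4], [118], [484], [486], [488], [492]], true⟩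
noncomputable def cV_s : St :=
  ⟨(mkS P.n cVG_vs cV_x), [[0], [2], [4], [6]], [], mapL Prod.snd cV_F, memM (app D zE450) [[4], [118], [484], [486], [488], [492]], []⟩
noncomputable def zt452 : ST :=
  (.and 0 1 (.and 0 3 (.dif 0 6 (.and 0 6 (.br 0 [W (nat_lit 0x7dded), W (nat_lit 0x1f97dc06)] (W (nat_lit 0xc01)) [(0, [])] (.cons (.orb 0 (.dif 0 7 (.dif 0 9 (.br 0 [W (nat_lit 0x7edf7)] [0] [(5, [])] (.cons (.orb 0 (.and 0 10 (.br 0 [W (nat_lit 0x7dde5)] [0] [(2, [])] (.cons .fnd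
 .nil))))
 .nil)))))
 .nil))))))
noncomputable def zm456 : ℕ :=
  (nat_lit 0x1f0000000000000000)
noncomputable def zm457 : ℕ :=
  (nat_lit 0x1002085407141410b)
noncomputable def c3_F : List (List ℕ × ℕ × ℕ) :=
  [([0], zm456, zm456),
  ([4], zm457, zm457)]
noncomputable def c3G_v0 : Lev :=
  ⟨64, 5, sg (W (nat_lit 0x4511443)), [[70], [72]], 31, 2⟩
noncomputable def c3G_v1 : Lev :=
  ⟨0, 64, sg (W (nat_lit 0x11c4912447124471244712447)), [[608], [610], [612]], 300, 3⟩
noncomputable def c3G_v2 : Lev :=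
  ⟨2, 4, sg (W (nat_lit 0x99661)), [[614], [616], [618]], 303, 3⟩
noncomputable def c3G_v3 : Lev :=
  ⟨6, 2, sg [614], [[616], [618]], 306, 0⟩
noncomputable def c3G_v4 : Lev :=
  ⟨12, 2, sg [616], [[620]], 306, 1⟩
noncomputable def c3G_v5 : Lev :=
  ⟨15, 2, sg [620], [], 307, 0⟩
noncomputable def c3G_vs6 : List Lev :=
  []
noncomputable def c3G_vs5 : List Lev :=
  c3G_v5 :: c3G_vs6
noncomputable def c3G_vs4 : List Lev :=
  c3G_v4 :: c3G_vs5
noncomputable def c3G_vs3 : List Lev :=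
  c3G_v3 :: c3G_vs4
noncomputable def c3G_vs2 : List Lev :=
  c3G_v2 :: c3G_vs3
noncomputable def c3G_vs1 : List Lev :=
  c3G_v1 :: c3G_vs2
noncomputable def c3G_vs : List Lev :=
  c3G_v0 :: c3G_vs1
noncomputable def c3_x : List (ℕ × List ℕ) :=
  [((nat_lit 0), []),
  ((nat_lit 0x20000000000000000000000000000000000000000000000000000000000000000001800000000), []),
  ((nat_lit 0x10000000000000000000000000000000000000000000000000000000000000000000000000000), [(nat_lit 0x2000001204)]),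
  ((nat_lit 0x80000000000000000000000000000000000000000000000000000000000000000000000000000), [(nat_lit 0x100040)]),
  ((nat_lit 0x100000000000000000000000000000000000000000000000000000000000000000000000000000), []),
  ((nat_lit 0), [(nat_lit 0x2000000),
   (nat_lit 0x800000000000000)])]
noncomputable def c3_G : Gl :=
  ⟨P, ns, (app D []), (diag [[116], [492], [122], [508], [510]]), [], [], memM (app D []) [[116], [492], [122], [508], [510]], true⟩
noncomputable def c3_s : St :=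
  ⟨(mkS P.n c3G_vs c3_x), [[66], [68]], [], mapL Prod.snd c3_F, memM (app D []) [[116], [492], [122], [508], [510]], []⟩
noncomputable def zt461 : ST :=
  (.and 0 1 (.br 0 [] [] [(64, [])] (.cons (.dif 3 2 (.br 0 [W (nat_lit 0x20980c7b), W (nat_lit 0x81c7b)] (W (nat_lit 0xc01)) [(1, W (nat_lit 0x4812448)), (14, W (nat_lit 0x12449)), (16, W (nat_lit 0x11c4a12263)), (0, [])] (.cons (.orb 0 (.br 0 [W (nat_lit 0x83609), W (nat_lit 0x8347b)] (W (nat_lit 0xc01)) [(10, [608])] (.cons (.orb 0 (.br 0 [[524]] [0] [(23, [])] (.cons (.img [6] 0 (.img [8] 1 (.dif 1 0 (.mis 0))))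
 .nil)))
 .nil)))
 (.cons (.orb 0 (.br 0 [W (nat_lit 0x20d8247b), [520]] (W (nat_lit 0xc01)) [(5, [608])] (.cons (.orb 0 (.br 0 [[524]] [0] [(44, [])] (.cons (.img [4] 2 (.br 0 [] [] [(26, [616])] (.cons (.img [8] 2 (.orb 1 (.img [4] 0 (.and 2 0 (.mis 0)))))
 .nil)))
 .nil)))
 .nil)))
 (.cons (.orb 0 (.br 0 [[520], [122]] (W (nat_lit 0xc01)) [(4, [])] (.cons (.orb 0 (.br 0 [[524]] [0] [(48, [614])] (.cons (.img [6] 0 (.img [8] 1 (.and 1 0 (.mis 0))))
 .nil)))
 .nil)))
 (.cons (.orb 0 (.br 0 [[520], W (nat_lit 0x8347b)] (W (nat_lit 0xc01)) [(2, [])] (.cons (.orb 0 (.br 0 [[524]] [0] [(6, [])] (.cons (.img [4] 2 (.br 0 [] [] [(12, [])] (.cons (.orb 0 (.img [4] 0 (.br 0 [] [] [(15, [])] (.cons .fnd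
 .nil))))
 .nil)))
 .nil)))
 .nil)))
 .nil))))))
 .nil)))
noncomputable def zm465 : ℕ :=
  (nat_lit 0x8081080000000)
noncomputable def cZ_F : List (List ℕ × ℕ × ℕ) :=
  [([2], zm465, zm465)]
noncomputable def cZG_v0 : Lev :=
  ⟨0, 64, sg (W (nat_lit 0x500407004070040700c0101c05)), [[170], [172]], 81, 2⟩
noncomputable def cZG_v1 : Lev :=
  ⟨5, 20, sg (W (nat_lit 0x2b4ab2b4ab2b4ab)), [[402], [404], [406]], 197, 3⟩
noncomputable def cZG_v2 : Lev :=
  ⟨2, 4, sg (W (nat_lit 0x19765597)), [[402], [404]], 200, 0⟩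
noncomputable def cZG_v3 : Lev :=
  ⟨6, 2, sg [404], [[402]], 200, 0⟩
noncomputable def cZG_v4 : Lev :=
  ⟨12, 2, sg [402], [], 200, 0⟩
noncomputable def cZG_vs5 : List Lev :=
  []
noncomputable def cZG_vs4 : List Lev :=
  cZG_v4 :: cZG_vs5
noncomputable def cZG_vs3 : List Lev :=
  cZG_v3 :: cZG_vs4
noncomputable def cZG_vs2 : List Lev :=
  cZG_v2 :: cZG_vs3
noncomputable def cZG_vs1 : List Lev :=
  cZG_v1 :: cZG_vs2
noncomputable def cZG_vs : List Lev :=
  cZG_v0 :: cZG_vs1
noncomputable def cZ_x : List (ℕ × List ℕ) :=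
  [((nat_lit 0x4), []),
  ((nat_lit 0x2000000000000000000000), [(nat_lit 0x8)]),
  ((nat_lit 0x800000000000000000000000000000000000000000000000000), []),
  ((nat_lit 0), [(nat_lit 0x4000)]),
  ((nat_lit 0), [(nat_lit 0x40000000000000)])]
noncomputable def cZ_G : Gl :=
  ⟨P, ns, (app D []), (diag [[66], [68]]), [], [], memM (app D []) [[116]], true⟩
noncomputable def cZ_s : St :=
  ⟨(mkS P.n cZG_vs cZ_x), [[0], [2], [4], [6]], [], mapL Prod.snd cZ_F, memM (app D []) [[116]], []⟩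
noncomputable def zt469 : ST :=
  (.img (W (nat_lit 0x401)) 0 (.br 0 [[116]] [0] [(1, [4]), (0, [])] (.cons (.orb 0 (.img (W (nat_lit 0x1001)) 0 (.br 0 [] [] [(10, W (nat_lit 0x2acab))] (.cons (.img [0] 3 (.br 0 [] [] [(4, [407])] (.cons (.orb 0 (.img [1] 0 (.and 2 0 (.mis 0))))
 .nil)))
 .nil))))
 (.cons (.orb 0 (.img (W (nat_lit 0x1001)) 0 (.br 0 [] [] [(5, [])] (.cons (.img [0] 3 (.br 0 [] [] [(2, [])] (.cons (.img [1] 4 (.br 0 [] [] [(6, [])] (.cons (.orb 0 (.img [0] 0 (.br 0 [] [] [(12, [])] (.cons .fnd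
 .nil))))
 .nil)))
 .nil)))
 .nil))))
 .nil))))
noncomputable def zps475 : List (List ℕ × List ℕ) :=
  [(W (nat_lit 0x3c4f1), W (nat_lit 0x3e0f3)), ([240], W (nat_lit 0x3d8f1)), (W (nat_lit 0x3d4f4), W (nat_lit 0x3e0f5)), (W (nat_lit 0x3d4f7), W (nat_lit 0x3dcf2))]
noncomputable def zts478 : List (List ℕ) :=
  [[],
  W (nat_lit 0x9e67d9de6f),
  W (nat_lit 0x27d9ee77),
  W (nat_lit 0x2799de74),
  W (nat_lit 0x9e67d9de6f),
  [],
  W (nat_lit 0x9f67b9de6f),
  W (nat_lit 0x2799f67b9de73),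
  W (nat_lit 0x27d9ee77),
  W (nat_lit 0x9f67b9de6f),
  [],
  W (nat_lit 0x9e66f),
  W (nat_lit 0x27d9ee74),
  W (nat_lit 0x2799f67b9de74),
  W (nat_lit 0x9e66f),
  []]
noncomputable def zcj481 : List (List (List ℕ)) :=
  [[W (nat_lit 0x2799ee77), W (nat_lit 0x2799f66f), W (nat_lit 0x9f673), W (nat_lit 0x9e67d9de74)],
  [W (nat_lit 0x2799ee77), W (nat_lit 0x2799f66f), [627], W (nat_lit 0x27d9ee74)],
  [[622], W (nat_lit 0x27b9de6f), [627], W (nat_lit 0x9ee73)],
  [W (nat_lit 0x2799ee77), [632], [626], W (nat_lit 0x9e67d9de73)]]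
noncomputable def zcj484 : List (List (List ℕ)) :=
  [[W (nat_lit 0x2799ee77), W (nat_lit 0x2799f66f), W (nat_lit 0x9f673), W (nat_lit 0x9e67d9de74)],
  [W (nat_lit 0x2799ee77), W (nat_lit 0x2799f66f), [627], W (nat_lit 0x27d9ee74)],
  [[622], W (nat_lit 0x27b9de6f), [627], W (nat_lit 0x9ee73)],
  [W (nat_lit 0x2799ee77), [632], [626], W (nat_lit 0x9e67d9de73)]]
noncomputable def zps488 : List (List ℕ × List ℕ) :=
  [(W (nat_lit 0x9c673), [245]), ([627], W (nat_lit 0x3c8f5)), ([626], [244])]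
noncomputable def zts491 : List (List ℕ) :=
  [W (nat_lit 0xa1681),
  W (nat_lit 0xa1681),
  [],
  W (nat_lit 0xa1681),
  W (nat_lit 0xa2681),
  W (nat_lit 0xa2681),
  W (nat_lit 0xa1681),
  [],
  W (nat_lit 0x289a1681),
  W (nat_lit 0xa2681),
  W (nat_lit 0xa2681),
  [],
  W (nat_lit 0xa2681),
  [648],
  W (nat_lit 0xa2685),
  []]
noncomputable def zcj494 : List (List (List ℕ)) :=
  [[W (nat_lit 0xa2685), [644], W (nat_lit 0xa2681)],
  [W (nat_lit 0xa2685), [644], W (nat_lit 0xa2681)],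
  [W (nat_lit 0xa2685), [640], W (nat_lit 0xa2681)],
  [W (nat_lit 0xa2685), [644], W (nat_lit 0xa2681)]]
noncomputable def zcj497 : List (List (List ℕ)) :=
  [[W (nat_lit 0xa2685), [640], W (nat_lit 0xa2681)],
  [W (nat_lit 0xa2685), [640], W (nat_lit 0xa2681)],
  [W (nat_lit 0xa2685), [640], W (nat_lit 0xa2681)],
  [W (nat_lit 0xa2685), [640], W (nat_lit 0xa2681)]]
noncomputable def zps502 : List (List ℕ × List ℕ) :=
  [(W (nat_lit 0xa0684), [246])]
noncomputable def zts505 : List (List ℕ) :=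
  [[650]]
noncomputable def zts508 : List (List ℕ) :=
  [[],
  [],
  [],
  [],
  [116],
  [116],
  [],
  [116],
  [],
  [],
  [],
  []]
noncomputable def zcj511 : List (List (List ℕ)) :=
  [[[116]],
  [[116]],
  [[116]],
  [[116]]]
noncomputable def zcj514 : List (List (List ℕ)) :=
  [[[116]],
  [[116]],
  [[116]]]
noncomputable def zps517 : List (List ℕ × List ℕ) :=
  [(W (nat_lit 0x4c132), [301]), ([302], W (nat_lit 0x4b931)), (W (nat_lit 0x4b92f), W (nat_lit 0x4c52e))]
noncomputable def zts520 : List (List ℕ) :=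
  [[],
  [658],
  W (nat_lit 0xa4e8d),
  [658],
  [],
  W (nat_lit 0xa4e8f),
  W (nat_lit 0xa4e8d),
  W (nat_lit 0xa4e8f),
  []]
noncomputable def zcj523 : List (List (List ℕ)) :=
  [[[652], W (nat_lit 0xa4e8f), W (nat_lit 0xa3e8d)],
  [W (nat_lit 0xa4e8d), [654], W (nat_lit 0xa3e8d)],
  [[652], [654], W (nat_lit 0x293a3e8d)]]
noncomputable def zcj526 : List (List (List ℕ)) :=
  [[[652], W (nat_lit 0xa4e8f), W (nat_lit 0xa3e8d)],
  [W (nat_lit 0xa4e8d), [654], W (nat_lit 0xa3e8d)],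
  [[652], [654], W (nat_lit 0x293a3e8d)]]
noncomputable def zps531 : List (List ℕ × List ℕ) :=
  [(W (nat_lit 0xa4690), W (nat_lit 0x4c52f))]
noncomputable def zts534 : List (List ℕ) :=
  [[660]]
noncomputable def zts537 : List (List ℕ) :=
  [[],
  [118],
  [],
  [118],
  [],
  [],
  [118],
  [118],
  []]
noncomputable def zcj540 : List (List (List ℕ)) :=
  [[[118]],
  [[118]],
  [[118]]]
noncomputable def zcj543 : List (List (List ℕ)) :=
  [[[118]],
  [[118]],
  [[118]]]
noncomputable def zps546 : List (List ℕ × List ℕ) :=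
  [(W (nat_lit 0x5e174), W (nat_lit 0x5dd77)), (W (nat_lit 0x5d973), W (nat_lit 0x5d580)), ([373], W (nat_lit 0x5f177)), ([375], W (nat_lit 0x5cd81))]
noncomputable def zts549 : List (List ℕ) :=
  [[],
  [664],
  W (nat_lit 0xa5e9d),
  [662],
  [662],
  [662],
  [],
  [],
  [664],
  [],
  [666],
  [662],
  [662],
  [662],
  [],
  [],
  W (nat_lit 0xa5e9d),
  [666],
  [],
  [],
  [662],
  [662],
  [],
  [],
  [662],
  [662],
  [],
  [],
  [],
  [],
  [],
  [],
  [662],
  [662],
  [662],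
  [],
  [],
  [],
  [],
  [],
  [662],
  [662],
  [662],
  [],
  [],
  [],
  [],
  [],
  [],
  [],
  [],
  [],
  [],
  [],
  [],
  [],
  [],
  [],
  [],
  [],
  [],
  [],
  [],
  []]
noncomputable def zcj552 : List (List (List ℕ)) :=
  [[[662], [664], W (nat_lit 0xa6e97), W (nat_lit 0xa5e9d)],
  [[662], [664], W (nat_lit 0xa6e97), W (nat_lit 0xa5e9d)],
  [[662], [664], W (nat_lit 0xa6e97), W (nat_lit 0xa5e9d)],
  [[662], [664], [666], [668]],
  [[662], [664], [666], [668]],
  [[662], [664], [666], [668]],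
  [[662], [664], [666], [668]],
  [[662], [664], [666], [668]]]
noncomputable def zcj555 : List (List (List ℕ)) :=
  [[[662], [664], W (nat_lit 0xa6e97), W (nat_lit 0xa5e9d)],
  [[662], [664], W (nat_lit 0xa6e97), W (nat_lit 0xa5e9d)],
  [[662], [664], W (nat_lit 0xa6e97), W (nat_lit 0xa5e9d)],
  [[662], [664], [666], [668]],
  [[662], [664], [666], [668]],
  [[662], [664], [666], [668]],
  [[662], [664], [666], [668]],
  [[662], [664], [666], [668]]]
noncomputable def zps560 : List (List ℕ × List ℕ) :=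
  [([667], W (nat_lit 0x5ed78))]
noncomputable def zts563 : List (List ℕ) :=
  [[670]]
noncomputable def zts566 : List (List ℕ) :=
  [[],
  [],
  [],
  [],
  [],
  [],
  [],
  [],
  [],
  [],
  [],
  [],
  [],
  [],
  [],
  [],
  [120],
  [120],
  [120],
  [],
  [],
  [],
  [],
  [],
  [120],
  [120],
  [120],
  [],
  [],
  [],
  [],
  []]
noncomputable def zcj569 : List (List (List ℕ)) :=
  [[[120]],
  [[120]],
  [[120]],
  [[120]],
  [[120]],
  [[120]],
  [[120]],
  [[120]]]
noncomputable def zcj572 : List (List (List ℕ)) :=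
  [[[120]],
  [[120]],
  [[120]],
  [[120]]]
noncomputable def zps575 : List (List ℕ × List ℕ) :=
  [(W (nat_lit 0x54952), W (nat_lit 0x53d52)), ([337], W (nat_lit 0x1505394f)), ([335], [332])]
noncomputable def zts578 : List (List ℕ) :=
  [[],
  W (nat_lit 0xaaea1),
  W (nat_lit 0xaaea7),
  W (nat_lit 0xaaea1),
  [],
  W (nat_lit 0xa9ea1),
  W (nat_lit 0xaaea7),
  W (nat_lit 0xa9ea1),
  []]
noncomputable def zcj581 : List (List (List ℕ)) :=
  [[[672], W (nat_lit 0x2aba9ea1), W (nat_lit 0xaaea1)],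
  [[672], W (nat_lit 0xaaea7), W (nat_lit 0xaaea1)],
  [[672], W (nat_lit 0x2aba9ea1), [682]]]
noncomputable def zcj584 : List (List (List ℕ)) :=
  [[[672], W (nat_lit 0x2aba9ea1), W (nat_lit 0xaaea1)],
  [[672], W (nat_lit 0xaaea7), W (nat_lit 0xaaea1)],
  [[672], W (nat_lit 0x2aba9ea1), [682]]]
noncomputable def zps589 : List (List ℕ × List ℕ) :=
  [([675], W (nat_lit 0x5414e))]
noncomputable def zts592 : List (List ℕ) :=
  [[684]]
noncomputable def zts595 : List (List ℕ) :=
  [[],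
  [],
  [],
  [],
  [116],
  [],
  [],
  [],
  [116]]
noncomputable def zcj598 : List (List (List ℕ)) :=
  [[[116]],
  [[116]],
  [[116]]]
noncomputable def zcj601 : List (List (List ℕ)) :=
  [[[116]],
  [[116]],
  [[116]]]
noncomputable def Sy_v0 : Lev :=
  ⟨65, 4, sg (W (nat_lit 0xac6af)), [[710], [712], [714], [716], [718]], 351, 5⟩
noncomputable def Sy_v1 : Lev :=
  ⟨0, 64, sg (W (nat_lit 0xb1ec9b1ecfb36cbb26c7)), [[720], [722], [724], [726]], 356, 4⟩
noncomputable def Sy_v2 : Lev :=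
  ⟨2, 2, sg [722], [[728], [730], [732]], 360, 3⟩
noncomputable def Sy_v3 : Lev :=
  ⟨5, 2, sg [728], [[730], [732]], 363, 0⟩
noncomputable def Sy_v4 : Lev :=
  ⟨6, 2, sg [730], [[734]], 363, 1⟩
noncomputable def Sy_v5 : Lev :=
  ⟨12, 2, sg [734], [], 364, 0⟩
noncomputable def Sy_vs6 : List Lev :=
  []
noncomputable def Sy_vs5 : List Lev :=
  Sy_v5 :: Sy_vs6
noncomputable def Sy_vs4 : List Lev :=
  Sy_v4 :: Sy_vs5
noncomputable def Sy_vs3 : List Lev :=
  Sy_v3 :: Sy_vs4
noncomputable def Sy_vs2 : List Lev :=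
  Sy_v2 :: Sy_vs3
noncomputable def Sy_vs1 : List Lev :=
  Sy_v1 :: Sy_vs2
noncomputable def Sy_vs : List Lev :=
  Sy_v0 :: Sy_vs1
noncomputable def Sy_ps : List PcG :=
  [⟨[686], 2, W (nat_lit 0xb16bdaeeb9), [W (nat_lit 0x2c5b0ec1af6bbadeb1), W (nat_lit 0x2c1afebbadeb3), W (nat_lit 0xb06bfaf6bbae6b5), W (nat_lit 0x2bfaeeb7), W (nat_lit 0x2c5b06b9), W (nat_lit 0x2c3afebb), W (nat_lit 0x2c5b0ec1afebd), W (nat_lit 0xb0ebf), [704], W (nat_lit 0xb16c3), [708]]⟩,
  ⟨[688], 2, W (nat_lit 0x2c3b06b5), [W (nat_lit 0x2bdae6b3), W (nat_lit 0xb0eb5), W (nat_lit 0xb06bfae6b7), W (nat_lit 0x2c5b0ec1af6b9), W (nat_lit 0xb0ec1afebb), [700], W (nat_lit 0x2c3b06bf), W (nat_lit 0xb0ec1), [706], [708]]⟩,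
  ⟨[690], 2, W (nat_lit 0xb16c1afebbae6b5), [W (nat_lit 0xb16c3af6b5), W (nat_lit 0x2c1ae6b7), W (nat_lit 0x2c3b06bfaf6b9), W (nat_lit 0x2c3afebb), W (nat_lit 0xb06bd), W (nat_lit 0x2c3b06bf), W (nat_lit 0x2c5b0ec1), [706], [708]]⟩,
  ⟨[692], 2, [], [W (nat_lit 0xb0ec1af6b7), W (nat_lit 0xb0eb9), W (nat_lit 0xb06bb), [700], W (nat_lit 0xb0ebf), [704], [706], [708]]⟩,
  ⟨[694], 2, W (nat_lit 0xb16c1af6bb), [W (nat_lit 0xafeb9), W (nat_lit 0xb06bb), W (nat_lit 0x2c5b06bd), [702], W (nat_lit 0xb16c1), [706], [708]]⟩,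
  ⟨[696], 2, W (nat_lit 0xb16c1), [W (nat_lit 0xb0ebb), W (nat_lit 0xb0ebd), W (nat_lit 0xb16bf), [704], [706], [708]]⟩,
  ⟨[698], 2, [708], [W (nat_lit 0xb16bd), [702], [704], [706], [708]]⟩,
  ⟨[700], 2, [], [[702], [704], [706], [708]]⟩,
  ⟨[702], 2, [], [[704], [706], [708]]⟩,
  ⟨[704], 2, [], [[706], [708]]⟩,
  ⟨[706], 2, [], [[708]]⟩,
  ⟨[708], 2, [], []⟩]
noncomputable def v0_E : List (ℕ × List CE) :=
  [(3, [])]
noncomputable def v0_R : List (List ℕ) :=
  [[],
  [686]]
noncomputable def zts610 : List (List ℕ) :=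
  [W (nat_lit 0x2b084190540b),
  W (nat_lit 0x2b0841706c09),
  W (nat_lit 0x9c1306009),
  W (nat_lit 0x2b03c1104c0b),
  W (nat_lit 0x640f04c15),
  W (nat_lit 0xac27084190541b),
  W (nat_lit 0x2103c1105418),
  W (nat_lit 0x841903c1105417),
  W (nat_lit 0x9c21),
  W (nat_lit 0x1903c0f),
  W (nat_lit 0xac27),
  W (nat_lit 0xac2703c0f)]
noncomputable def zcj613 : List (List (List ℕ)) :=
  [[W (nat_lit 0x2c5b0ec1af6bbadeb1), W (nat_lit 0x2c1afebbadeb3), W (nat_lit 0xb06bfaf6bbae6b5), W (nat_lit 0x2bfaeeb7), W (nat_lit 0x2c5b06b9), W (nat_lit 0x2c3afebb), W (nat_lit 0x2c5b0ec1afebd), W (nat_lit 0xb0ebf), [704], W (nat_lit 0xb16c3), [708]],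
  [[688], W (nat_lit 0x2bdae6b3), W (nat_lit 0xb0eb5), W (nat_lit 0xb06bfae6b7), W (nat_lit 0x2c5b0ec1af6b9), W (nat_lit 0xb0ec1afebb), [700], W (nat_lit 0x2c3b06bf), W (nat_lit 0xb0ec1), [706], [708]],
  [W (nat_lit 0xb16c3b06bdae6b1), [690], W (nat_lit 0xb16c3af6b5), W (nat_lit 0x2c1ae6b7), W (nat_lit 0x2c3b06bfaf6b9), W (nat_lit 0x2c3afebb), W (nat_lit 0xb06bd), W (nat_lit 0x2c3b06bf), W (nat_lit 0x2c5b0ec1), [706], [708]],
  [W (nat_lit 0xb0eb1), W (nat_lit 0xb16c3af6b3), [692], W (nat_lit 0xb0ec1af6b7), W (nat_lit 0xb0eb9), W (nat_lit 0xb06bb), [700], W (nat_lit 0xb0ebf), [704], [706], [708]],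
  [W (nat_lit 0x2bfae6b1), W (nat_lit 0x2c5ae6b3), W (nat_lit 0xb0ec1af6b5), [694], W (nat_lit 0xafeb9), W (nat_lit 0xb06bb), W (nat_lit 0x2c5b06bd), [702], W (nat_lit 0xb16c1), [706], [708]],
  [W (nat_lit 0x2c5b0ec1af6b1), W (nat_lit 0x2c3b06bfaf6b3), W (nat_lit 0xb0eb5), W (nat_lit 0xafeb7), [696], W (nat_lit 0xb0ebb), W (nat_lit 0xb0ebd), W (nat_lit 0xb16bf), [704], [706], [708]],
  [W (nat_lit 0xb0ec1afeb1), W (nat_lit 0x2c3afeb3), W (nat_lit 0xb06b5), W (nat_lit 0xb06b7), W (nat_lit 0xb0eb9), [698], W (nat_lit 0xb16bd), [702], [704], [706], [708]],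
  [[688], W (nat_lit 0xb06b3), [692], W (nat_lit 0x2c5b06b7), W (nat_lit 0xb0eb9), W (nat_lit 0xb16bb), [700], [702], [704], [706], [708]],
  [W (nat_lit 0x2c3b06b1), W (nat_lit 0x2c3b06b3), W (nat_lit 0xb0eb5), [694], W (nat_lit 0xb16b9), [698], [700], [702], [704], [706], [708]],
  [W (nat_lit 0xb0eb1), W (nat_lit 0x2c5b0eb3), [692], W (nat_lit 0xb16b7), [696], [698], [700], [702], [704], [706], [708]],
  [[688], [690], [692], [694], [696], [698], [700], [702], [704], [706], [708]],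
  [[688], [690], [692], [694], [696], [698], [700], [702], [704], [706], [708]]]
noncomputable def v1_E : List (ℕ × List CE) :=
  [(3, []),
  (3, [])]
noncomputable def v1_R : List (List ℕ) :=
  [[],
  [688],
  [686],
  W (nat_lit 0xac6af)]
noncomputable def zcj620 : List (List (List ℕ)) :=
  [[W (nat_lit 0x2c1afebbadeb3), W (nat_lit 0xb06bfaf6bbae6b5), W (nat_lit 0x2bfaeeb7), W (nat_lit 0x2c5b06b9), W (nat_lit 0x2c3afebb), W (nat_lit 0x2c5b0ec1afebd), W (nat_lit 0xb0ebf), [704], W (nat_lit 0xb16c3), [708]],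
  [W (nat_lit 0x2bdae6b3), W (nat_lit 0xb0eb5), W (nat_lit 0xb06bfae6b7), W (nat_lit 0x2c5b0ec1af6b9), W (nat_lit 0xb0ec1afebb), [700], W (nat_lit 0x2c3b06bf), W (nat_lit 0xb0ec1), [706], [708]],
  [[690], W (nat_lit 0xb16c3af6b5), W (nat_lit 0x2c1ae6b7), W (nat_lit 0x2c3b06bfaf6b9), W (nat_lit 0x2c3afebb), W (nat_lit 0xb06bd), W (nat_lit 0x2c3b06bf), W (nat_lit 0x2c5b0ec1), [706], [708]],
  [W (nat_lit 0xb16c3af6b3), [692], W (nat_lit 0xb0ec1af6b7), W (nat_lit 0xb0eb9), W (nat_lit 0xb06bb), [700], W (nat_lit 0xb0ebf), [704], [706], [708]],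
  [W (nat_lit 0x2c5ae6b3), W (nat_lit 0xb0ec1af6b5), [694], W (nat_lit 0xafeb9), W (nat_lit 0xb06bb), W (nat_lit 0x2c5b06bd), [702], W (nat_lit 0xb16c1), [706], [708]],
  [W (nat_lit 0x2c3b06bfaf6b3), W (nat_lit 0xb0eb5), W (nat_lit 0xafeb7), [696], W (nat_lit 0xb0ebb), W (nat_lit 0xb0ebd), W (nat_lit 0xb16bf), [704], [706], [708]],
  [W (nat_lit 0x2c3afeb3), W (nat_lit 0xb06b5), W (nat_lit 0xb06b7), W (nat_lit 0xb0eb9), [698], W (nat_lit 0xb16bd), [702], [704], [706], [708]],
  [W (nat_lit 0xb06b3), [692], W (nat_lit 0x2c5b06b7), W (nat_lit 0xb0eb9), W (nat_lit 0xb16bb), [700], [702], [704], [706], [708]],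
  [W (nat_lit 0x2c3b06b3), W (nat_lit 0xb0eb5), [694], W (nat_lit 0xb16b9), [698], [700], [702], [704], [706], [708]],
  [W (nat_lit 0x2c5b0eb3), [692], W (nat_lit 0xb16b7), [696], [698], [700], [702], [704], [706], [708]],
  [[690], [692], [694], [696], [698], [700], [702], [704], [706], [708]],
  [[690], [692], [694], [696], [698], [700], [702], [704], [706], [708]]]
noncomputable def v2_E : List (ℕ × List CE) :=
  [(3, []),
  (3, []),
  (3, []),
  (3, [])]
noncomputable def v2_R : List (List ℕ) :=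
  [[],
  [690],
  [688],
  W (nat_lit 0xaceb1),
  [686],
  W (nat_lit 0xaceaf),
  W (nat_lit 0xac6af),
  W (nat_lit 0x2b3ac6af)]
noncomputable def zcj627 : List (List (List ℕ)) :=
  [[W (nat_lit 0xb06bfaf6bbae6b5), W (nat_lit 0x2bfaeeb7), W (nat_lit 0x2c5b06b9), W (nat_lit 0x2c3afebb), W (nat_lit 0x2c5b0ec1afebd), W (nat_lit 0xb0ebf), [704], W (nat_lit 0xb16c3), [708]],
  [W (nat_lit 0xb0eb5), W (nat_lit 0xb06bfae6b7), W (nat_lit 0x2c5b0ec1af6b9), W (nat_lit 0xb0ec1afebb), [700], W (nat_lit 0x2c3b06bf), W (nat_lit 0xb0ec1), [706], [708]],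
  [W (nat_lit 0xb16c3af6b5), W (nat_lit 0x2c1ae6b7), W (nat_lit 0x2c3b06bfaf6b9), W (nat_lit 0x2c3afebb), W (nat_lit 0xb06bd), W (nat_lit 0x2c3b06bf), W (nat_lit 0x2c5b0ec1), [706], [708]],
  [[692], W (nat_lit 0xb0ec1af6b7), W (nat_lit 0xb0eb9), W (nat_lit 0xb06bb), [700], W (nat_lit 0xb0ebf), [704], [706], [708]],
  [W (nat_lit 0xb0ec1af6b5), [694], W (nat_lit 0xafeb9), W (nat_lit 0xb06bb), W (nat_lit 0x2c5b06bd), [702], W (nat_lit 0xb16c1), [706], [708]],
  [W (nat_lit 0xb0eb5), W (nat_lit 0xafeb7), [696], W (nat_lit 0xb0ebb), W (nat_lit 0xb0ebd), W (nat_lit 0xb16bf), [704], [706], [708]],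
  [W (nat_lit 0xb06b5), W (nat_lit 0xb06b7), W (nat_lit 0xb0eb9), [698], W (nat_lit 0xb16bd), [702], [704], [706], [708]],
  [[692], W (nat_lit 0x2c5b06b7), W (nat_lit 0xb0eb9), W (nat_lit 0xb16bb), [700], [702], [704], [706], [708]],
  [W (nat_lit 0xb0eb5), [694], W (nat_lit 0xb16b9), [698], [700], [702], [704], [706], [708]],
  [[692], W (nat_lit 0xb16b7), [696], [698], [700], [702], [704], [706], [708]],
  [[692], [694], [696], [698], [700], [702], [704], [706], [708]],
  [[692], [694], [696], [698], [700], [702], [704], [706], [708]]]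
noncomputable def v3_E : List (ℕ × List CE) :=
  [(3, []),
  (0, [⟨true, [], 1, W (nat_lit 0x2c5b06bfaeeb9)⟩, ⟨true, [], 1, W (nat_lit 0xb0ec1afebdaeeb9)⟩]),
  (0, [⟨true, [], 1, W (nat_lit 0xb0ec1)⟩, ⟨true, [], 1, [704]⟩]),
  (3, []),
  (3, []),
  (0, [⟨true, [], 1, W (nat_lit 0x2c3b06bfaf6bbae6b7)⟩, ⟨true, [], 1, W (nat_lit 0x2c3b06b7)⟩]),
  (0, [⟨true, [], 1, W (nat_lit 0xb16c3afeb7)⟩, ⟨true, [], 1, W (nat_lit 0xb0ec1afebbae6b7)⟩]),
  (3, [])]
noncomputable def v3_R : List (List ℕ) :=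
  [[],
  [692],
  W (nat_lit 0xaceb1),
  W (nat_lit 0x2b5aceb1),
  [686],
  W (nat_lit 0xad6af),
  W (nat_lit 0x2b3ac6af),
  W (nat_lit 0xad6b3ac6af)]
noncomputable def zcj634 : List (List (List ℕ)) :=
  [[W (nat_lit 0x2bfaeeb7), W (nat_lit 0x2c5b06b9), W (nat_lit 0x2c3afebb), W (nat_lit 0x2c5b0ec1afebd), W (nat_lit 0xb0ebf), [704], W (nat_lit 0xb16c3), [708]],
  [W (nat_lit 0xb06bfae6b7), W (nat_lit 0x2c5b0ec1af6b9), W (nat_lit 0xb0ec1afebb), [700], W (nat_lit 0x2c3b06bf), W (nat_lit 0xb0ec1), [706], [708]],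
  [W (nat_lit 0x2c1ae6b7), W (nat_lit 0x2c3b06bfaf6b9), W (nat_lit 0x2c3afebb), W (nat_lit 0xb06bd), W (nat_lit 0x2c3b06bf), W (nat_lit 0x2c5b0ec1), [706], [708]],
  [W (nat_lit 0xb0ec1af6b7), W (nat_lit 0xb0eb9), W (nat_lit 0xb06bb), [700], W (nat_lit 0xb0ebf), [704], [706], [708]],
  [[694], W (nat_lit 0xafeb9), W (nat_lit 0xb06bb), W (nat_lit 0x2c5b06bd), [702], W (nat_lit 0xb16c1), [706], [708]],
  [W (nat_lit 0xafeb7), [696], W (nat_lit 0xb0ebb), W (nat_lit 0xb0ebd), W (nat_lit 0xb16bf), [704], [706], [708]],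
  [W (nat_lit 0xb06b7), W (nat_lit 0xb0eb9), [698], W (nat_lit 0xb16bd), [702], [704], [706], [708]],
  [W (nat_lit 0x2c5b06b7), W (nat_lit 0xb0eb9), W (nat_lit 0xb16bb), [700], [702], [704], [706], [708]],
  [[694], W (nat_lit 0xb16b9), [698], [700], [702], [704], [706], [708]],
  [W (nat_lit 0xb16b7), [696], [698], [700], [702], [704], [706], [708]],
  [[694], [696], [698], [700], [702], [704], [706], [708]],
  [[694], [696], [698], [700], [702], [704], [706], [708]]]
noncomputable def v4_E : List (ℕ × List CE) :=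
  [(3, []),
  (3, []),
  (3, []),
  (3, []),
  (1, [ceD, ⟨false, [688], 0, [706]⟩]),
  (1, [ceD, ⟨false, [688], 0, W (nat_lit 0xb06bd)⟩]),
  (1, [ceD, ⟨false, [688], 0, W (nat_lit 0xb0ec1af6b9)⟩]),
  (1, [ceD, ⟨false, [688], 0, W (nat_lit 0xb0eb9)⟩])]
noncomputable def v4_R : List (List ℕ) :=
  [[],
  [694],
  [692],
  W (nat_lit 0xadeb5),
  W (nat_lit 0xaceb1),
  W (nat_lit 0x2b7aceb1),
  W (nat_lit 0x2b5aceb1),
  W (nat_lit 0xadeb5aceb1),
  [686],
  W (nat_lit 0xad6af),
  W (nat_lit 0x2b3ac6af),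
  W (nat_lit 0xad6b3ac6af)]
noncomputable def zcj641 : List (List (List ℕ)) :=
  [[W (nat_lit 0x2c5b06b9), W (nat_lit 0x2c3afebb), W (nat_lit 0x2c5b0ec1afebd), W (nat_lit 0xb0ebf), [704], W (nat_lit 0xb16c3), [708]],
  [W (nat_lit 0x2c5b0ec1af6b9), W (nat_lit 0xb0ec1afebb), [700], W (nat_lit 0x2c3b06bf), W (nat_lit 0xb0ec1), [706], [708]],
  [W (nat_lit 0x2c3b06bfaf6b9), W (nat_lit 0x2c3afebb), W (nat_lit 0xb06bd), W (nat_lit 0x2c3b06bf), W (nat_lit 0x2c5b0ec1), [706], [708]],
  [W (nat_lit 0xb0eb9), W (nat_lit 0xb06bb), [700], W (nat_lit 0xb0ebf), [704], [706], [708]],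
  [W (nat_lit 0xafeb9), W (nat_lit 0xb06bb), W (nat_lit 0x2c5b06bd), [702], W (nat_lit 0xb16c1), [706], [708]],
  [[696], W (nat_lit 0xb0ebb), W (nat_lit 0xb0ebd), W (nat_lit 0xb16bf), [704], [706], [708]],
  [W (nat_lit 0xb0eb9), [698], W (nat_lit 0xb16bd), [702], [704], [706], [708]],
  [W (nat_lit 0xb0eb9), W (nat_lit 0xb16bb), [700], [702], [704], [706], [708]],
  [W (nat_lit 0xb16b9), [698], [700], [702], [704], [706], [708]],
  [[696], [698], [700], [702], [704], [706], [708]],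
  [[696], [698], [700], [702], [704], [706], [708]],
  [[696], [698], [700], [702], [704], [706], [708]]]
noncomputable def v5_E : List (ℕ × List CE) :=
  [(3, []),
  (1, [ceD, ⟨false, [688], 0, W (nat_lit 0xb0ebf)⟩]),
  (1, [ceD, ⟨false, [686], 0, W (nat_lit 0xb0ebfaf6bb)⟩]),
  (1, [ceD, ⟨false, [686], 0, W (nat_lit 0xb0ebd)⟩]),
  (1, [ceD, ⟨false, [686], 0, W (nat_lit 0xb06bb)⟩]),
  (1, [ceD, ⟨false, [686], 0, W (nat_lit 0xb16bf)⟩]),
  (1, [ceD, ⟨false, [688], 0, [700]⟩]),
  (3, []),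
  (0, [⟨true, [], 1, W (nat_lit 0x2c5af6bb)⟩, ⟨true, [], 1, W (nat_lit 0x2c5af6bb)⟩]),
  (1, [ceD, ⟨false, [686], 0, W (nat_lit 0xb0ebfaf6bb)⟩]),
  (1, [ceD, ⟨false, [686], 0, W (nat_lit 0xb06bb)⟩]),
  (0, [⟨true, [], 1, W (nat_lit 0x2c5b0ebd)⟩, ⟨true, [], 1, W (nat_lit 0xb16c1afebd)⟩])]
noncomputable def v5_R : List (List ℕ) :=
  [[],
  [696],
  [694],
  [692],
  W (nat_lit 0xadeb5),
  W (nat_lit 0xaceb1),
  W (nat_lit 0x2b7aceb1),
  W (nat_lit 0x2b5aceb1),
  W (nat_lit 0xadeb5aceb1),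
  W (nat_lit 0x2b9adeb5aceb1),
  W (nat_lit 0xad6af),
  W (nat_lit 0x2b3ac6af)]
noncomputable def zcj648 : List (List (List ℕ)) :=
  [[W (nat_lit 0x2c3afebb), W (nat_lit 0x2c5b0ec1afebd), W (nat_lit 0xb0ebf), [704], W (nat_lit 0xb16c3), [708]],
  [W (nat_lit 0xb0ec1afebb), [700], W (nat_lit 0x2c3b06bf), W (nat_lit 0xb0ec1), [706], [708]],
  [W (nat_lit 0x2c3afebb), W (nat_lit 0xb06bd), W (nat_lit 0x2c3b06bf), W (nat_lit 0x2c5b0ec1), [706], [708]],
  [W (nat_lit 0xb06bb), [700], W (nat_lit 0xb0ebf), [704], [706], [708]],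
  [W (nat_lit 0xb06bb), W (nat_lit 0x2c5b06bd), [702], W (nat_lit 0xb16c1), [706], [708]],
  [W (nat_lit 0xb0ebb), W (nat_lit 0xb0ebd), W (nat_lit 0xb16bf), [704], [706], [708]],
  [[698], W (nat_lit 0xb16bd), [702], [704], [706], [708]],
  [W (nat_lit 0xb16bb), [700], [702], [704], [706], [708]],
  [[698], [700], [702], [704], [706], [708]],
  [[698], [700], [702], [704], [706], [708]],
  [[698], [700], [702], [704], [706], [708]],
  [[698], [700], [702], [704], [706], [708]]]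
noncomputable def v6_E : List (ℕ × List CE) :=
  [(3, []),
  (3, []),
  (0, [⟨true, [], 1, W (nat_lit 0x2c5b06bd)⟩, ⟨true, [], 1, [700]⟩]),
  (3, []),
  (0, [⟨true, [], 1, W (nat_lit 0x2c5b0ec1)⟩, ⟨true, [], 1, W (nat_lit 0x2c5b0ec1)⟩]),
  (0, [⟨true, [], 1, W (nat_lit 0x2c5b0ec1)⟩, ⟨true, [], 1, W (nat_lit 0x2c5b0ec1)⟩]),
  (3, []),
  (0, [⟨true, [], 1, W (nat_lit 0x2c3b06bd)⟩, ⟨true, [], 1, W (nat_lit 0xb0ebd)⟩]),
  (1, [ceD, ⟨false, [686], 0, W (nat_lit 0xb0ebd)⟩]),
  (1, [ceD, ⟨false, [686], 0, W (nat_lit 0x2c3b06bd)⟩]),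
  (1, [ceD, ⟨false, [694], 0, W (nat_lit 0xb16c1afebd)⟩]),
  (0, [⟨true, [], 1, W (nat_lit 0xb0ebd)⟩, ⟨true, [], 1, W (nat_lit 0xb16c3afebd)⟩])]
noncomputable def v6_R : List (List ℕ) :=
  [[],
  [698],
  [696],
  W (nat_lit 0xaeeb9),
  [692],
  W (nat_lit 0xaeeb5),
  W (nat_lit 0x2b7aceb1),
  W (nat_lit 0xaeeb7aceb1),
  W (nat_lit 0xadeb5aceb1),
  W (nat_lit 0x2b9adeb5aceb1),
  W (nat_lit 0xad6af)]
noncomputable def zcj655 : List (List (List ℕ)) :=
  [[W (nat_lit 0x2c5b0ec1afebd), W (nat_lit 0xb0ebf), [704], W (nat_lit 0xb16c3), [708]],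
  [[700], W (nat_lit 0x2c3b06bf), W (nat_lit 0xb0ec1), [706], [708]],
  [W (nat_lit 0xb06bd), W (nat_lit 0x2c3b06bf), W (nat_lit 0x2c5b0ec1), [706], [708]],
  [[700], W (nat_lit 0xb0ebf), [704], [706], [708]],
  [W (nat_lit 0x2c5b06bd), [702], W (nat_lit 0xb16c1), [706], [708]],
  [W (nat_lit 0xb0ebd), W (nat_lit 0xb16bf), [704], [706], [708]],
  [W (nat_lit 0xb16bd), [702], [704], [706], [708]],
  [[700], [702], [704], [706], [708]],
  [[700], [702], [704], [706], [708]],
  [[700], [702], [704], [706], [708]],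
  [[700], [702], [704], [706], [708]],
  [[700], [702], [704], [706], [708]]]
noncomputable def v7_E : List (ℕ × List CE) :=
  [(3, []),
  (3, []),
  (1, [ceD, ⟨false, [688], 0, W (nat_lit 0xb16c1)⟩]),
  (1, [ceD, ⟨false, [688], 0, W (nat_lit 0xb06bf)⟩]),
  (1, [ceD, ⟨false, [690], 0, W (nat_lit 0xb16c3)⟩]),
  (1, [ceD, ⟨false, [690], 0, W (nat_lit 0x2c5b06bf)⟩]),
  (1, [ceD, ⟨false, [688], 0, W (nat_lit 0xb16c1)⟩]),
  (1, [ceD, ⟨false, [688], 0, W (nat_lit 0xb06bf)⟩]),
  (1, [ceD, ⟨false, [688], 0, W (nat_lit 0xb16c1)⟩]),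
  (3, []),
  (3, [])]
noncomputable def v7_R : List (List ℕ) :=
  [[],
  [700],
  [698],
  W (nat_lit 0xaf6bb),
  [696],
  W (nat_lit 0xaeeb9),
  [692],
  W (nat_lit 0xaeeb5),
  W (nat_lit 0x2b7aceb1),
  W (nat_lit 0xaeeb7aceb1),
  W (nat_lit 0xadeb5aceb1),
  W (nat_lit 0x2b9adeb5aceb1),
  W (nat_lit 0xaf6b9adeb5aceb1),
  W (nat_lit 0xad6af),
  W (nat_lit 0x2bdad6af)]
noncomputable def zcj662 : List (List (List ℕ)) :=
  [[W (nat_lit 0xb0ebf), [704], W (nat_lit 0xb16c3), [708]],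
  [W (nat_lit 0x2c3b06bf), W (nat_lit 0xb0ec1), [706], [708]],
  [W (nat_lit 0x2c3b06bf), W (nat_lit 0x2c5b0ec1), [706], [708]],
  [W (nat_lit 0xb0ebf), [704], [706], [708]],
  [[702], W (nat_lit 0xb16c1), [706], [708]],
  [W (nat_lit 0xb16bf), [704], [706], [708]],
  [[702], [704], [706], [708]],
  [[702], [704], [706], [708]],
  [[702], [704], [706], [708]],
  [[702], [704], [706], [708]],
  [[702], [704], [706], [708]],
  [[702], [704], [706], [708]]]
noncomputable def v8_E : List (ℕ × List CE) :=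
  [(3, []),
  (1, [ceD, ⟨false, [686], 0, W (nat_lit 0xb0ec1)⟩]),
  (1, [ceD, ⟨false, [686], 0, W (nat_lit 0xb16c3)⟩]),
  (1, [ceD, ⟨false, [688], 0, [704]⟩]),
  (1, [ceD, ⟨false, [694], 0, []⟩]),
  (1, [ceD, ⟨false, [686], 0, W (nat_lit 0xb0ec1)⟩]),
  (3, []),
  (1, [ceD, ⟨false, [688], 0, W (nat_lit 0xb0ec1)⟩]),
  (3, []),
  (1, [ceD, ⟨false, [690], 0, W (nat_lit 0x2c5b0ec1)⟩]),
  (3, []),
  (1, [ceD, ⟨false, [690], 0, W (nat_lit 0xb16c1)⟩]),
  (1, [ceD, ⟨false, [690], 0, [706]⟩]),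
  (0, [⟨true, [], 1, [704]⟩, ⟨true, [], 1, [704]⟩]),
  (1, [ceD, ⟨false, [698], 0, W (nat_lit 0xb16c1)⟩])]
noncomputable def v8_R : List (List ℕ) :=
  [[],
  [702],
  [700],
  [698],
  W (nat_lit 0xaf6bb),
  [696],
  W (nat_lit 0xaeeb9),
  [692],
  W (nat_lit 0xafeb5),
  W (nat_lit 0xaeeb5),
  W (nat_lit 0x2b7aceb1),
  W (nat_lit 0xafeb7aceb1),
  W (nat_lit 0xaeeb7aceb1),
  W (nat_lit 0xadeb5aceb1),
  W (nat_lit 0x2bfadeb5aceb1),
  W (nat_lit 0x2b9adeb5aceb1),
  W (nat_lit 0xaf6b9adeb5aceb1),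
  W (nat_lit 0x2bdad6af)]
noncomputable def zcj669 : List (List (List ℕ)) :=
  [[[704], W (nat_lit 0xb16c3), [708]],
  [W (nat_lit 0xb0ec1), [706], [708]],
  [W (nat_lit 0x2c5b0ec1), [706], [708]],
  [[704], [706], [708]],
  [W (nat_lit 0xb16c1), [706], [708]],
  [[704], [706], [708]],
  [[704], [706], [708]],
  [[704], [706], [708]],
  [[704], [706], [708]],
  [[704], [706], [708]],
  [[704], [706], [708]],
  [[704], [706], [708]]]
noncomputable def v9_E : List (ℕ × List CE) :=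
  [(3, []),
  (1, [ceD, ⟨false, [688], 0, [706]⟩]),
  (1, [ceD, ⟨false, [690], 0, []⟩]),
  (1, [ceD, ⟨false, [692], 0, []⟩]),
  (1, [ceD, ⟨false, [686], 0, [708]⟩]),
  (0, [⟨true, [], 1, [708]⟩, ⟨true, [], 1, [708]⟩]),
  (0, [⟨true, [], 1, [706]⟩, ⟨true, [], 1, [706]⟩]),
  (1, [ceD, ⟨false, [698], 0, []⟩]),
  (1, [ceD, ⟨false, [688], 0, []⟩]),
  (0, [⟨true, [], 1, [708]⟩, ⟨true, [], 1, [708]⟩]),
  (1, [ceD, ⟨false, [690], 0, [706]⟩]),
  (1, [ceD, ⟨false, [696], 0, [706]⟩]),
  (0, [⟨true, [], 1, [708]⟩, ⟨true, [], 1, [708]⟩]),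
  (1, [ceD, ⟨false, [696], 0, W (nat_lit 0xb16c3)⟩]),
  (1, [ceD, ⟨false, [696], 0, [706]⟩]),
  (1, [ceD, ⟨false, [696], 0, W (nat_lit 0xb16c3)⟩]),
  (1, [ceD, ⟨false, [696], 0, [708]⟩]),
  (1, [ceD, ⟨false, [696], 0, [708]⟩])]
noncomputable def v9_R : List (List ℕ) :=
  [[],
  [704],
  [702],
  [700],
  [698],
  W (nat_lit 0xaf6bb),
  [692],
  W (nat_lit 0xafeb5),
  W (nat_lit 0x2b7aceb1),
  W (nat_lit 0xafeb7aceb1),
  W (nat_lit 0xadeb5aceb1),
  W (nat_lit 0x2bfadeb5aceb1),
  W (nat_lit 0x2b9adeb5aceb1),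
  W (nat_lit 0xaf6b9adeb5aceb1),
  W (nat_lit 0x2bdad6af)]
noncomputable def zcj676 : List (List (List ℕ)) :=
  [[W (nat_lit 0xb16c3), [708]],
  [[706], [708]],
  [[706], [708]],
  [[706], [708]],
  [[706], [708]],
  [[706], [708]],
  [[706], [708]],
  [[706], [708]],
  [[706], [708]],
  [[706], [708]],
  [[706], [708]],
  [[706], [708]]]
noncomputable def v10_E : List (ℕ × List CE) :=
  [(3, []),
  (1, [ceD, ⟨false, [688], 0, []⟩]),
  (1, [ceD, ⟨false, [686], 0, []⟩]),
  (1, [ceD, ⟨false, [696], 0, []⟩]),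
  (1, [ceD, ⟨false, [696], 0, []⟩]),
  (3, []),
  (1, [ceD, ⟨false, [688], 0, []⟩]),
  (0, [⟨true, [], 1, []⟩, ⟨true, [], 1, []⟩]),
  (1, [ceD, ⟨false, [692], 0, []⟩]),
  (0, [⟨true, [], 1, []⟩, ⟨true, [], 1, []⟩]),
  (0, [⟨true, [], 1, [708]⟩, ⟨true, [], 1, [708]⟩]),
  (0, [⟨true, [], 1, []⟩, ⟨true, [], 1, []⟩]),
  (1, [ceD, ⟨false, [688], 0, []⟩]),
  (0, [⟨true, [], 1, [708]⟩, ⟨true, [], 1, [708]⟩]),
  (3, [])]
noncomputable def v10_R : List (List ℕ) :=
  [[],
  [706],
  [704],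
  [702],
  [700],
  [698],
  W (nat_lit 0xaf6bb),
  W (nat_lit 0x2c3af6bb),
  [692],
  W (nat_lit 0x2b7aceb1),
  W (nat_lit 0x2b9adeb5aceb1),
  W (nat_lit 0x2bdad6af),
  W (nat_lit 0xb0ebdad6af)]
noncomputable def zcj683 : List (List (List ℕ)) :=
  [[[708]],
  [[708]],
  [[708]],
  [[708]],
  [[708]],
  [[708]],
  [[708]],
  [[708]],
  [[708]],
  [[708]],
  [[708]],
  [[708]]]
noncomputable def v11_E : List (ℕ × List CE) :=
  [(3, []),
  (1, [ceD, ⟨false, [686], 0, []⟩]),
  (1, [ceD, ⟨false, [694], 0, []⟩]),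
  (1, [ceD, ⟨false, [696], 0, []⟩]),
  (1, [ceD, ⟨false, [698], 0, []⟩]),
  (0, [⟨true, [], 1, []⟩, ⟨true, [], 1, []⟩]),
  (1, [ceD, ⟨false, [694], 0, []⟩]),
  (1, [ceD, ⟨false, [694], 0, []⟩]),
  (3, []),
  (0, [⟨true, [], 1, []⟩, ⟨true, [], 1, []⟩]),
  (0, [⟨true, [], 1, []⟩, ⟨true, [], 1, []⟩]),
  (0, [⟨true, [], 1, []⟩, ⟨true, [], 1, []⟩]),
  (1, [ceD, ⟨false, [706], 0, []⟩])]
noncomputable def v11_R : List (List ℕ) :=
  [[],
  [708],
  [706],
  [704],
  [702],
  [700],
  W (nat_lit 0xaf6bb),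
  W (nat_lit 0x2c3af6bb),
  [692],
  W (nat_lit 0xb16b5),
  W (nat_lit 0xb0ebdad6af)]
noncomputable def v12_F : List (List ℕ × ℕ × List ℕ) :=
  [([], 0, []),
  ([], 1, []),
  ([], 2, []),
  ([], 3, []),
  (W (nat_lit 0x2104c1900c02), 3, []),
  (W (nat_lit 0x27084110541700c02), 6, []),
  (W (nat_lit 0x1903c110540b00c0b), 3, []),
  (W (nat_lit 0x270640f044130540a00c02), 2, []),
  (W (nat_lit 0xac210640f05c0a), 5, []),
  (W (nat_lit 0xf0441604c09), 4, []),
  (W (nat_lit 0x9c1104c0b), 6, [])]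
noncomputable def v12_R : List (List ℕ) :=
  [[], [116], [118], [124], [122], [736], [126]]
noncomputable def gya_ps : List PcG :=
  [⟨[738], 2, [], [[654], [652]]⟩,
  ⟨[654], 2, [], [[652]]⟩,
  ⟨[652], 2, [], []⟩]
noncomputable def zE719 : List (ℕ × List ℕ) :=
  [(656, [738])]
noncomputable def gyax_v0 : Lev :=
  ⟨0, 4, sg (W (nat_lit 0xa3475)), [[740], [742]], 366, 2⟩
noncomputable def gyax_v1 : Lev :=
  ⟨2, 2, sg [740], [[744]], 368, 1⟩
noncomputable def gyax_v2 : Lev :=
  ⟨6, 2, sg [744], [], 369, 0⟩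
noncomputable def gyax_vs3 : List Lev :=
  []
noncomputable def gyax_vs2 : List Lev :=
  gyax_v2 :: gyax_vs3
noncomputable def gyax_vs1 : List Lev :=
  gyax_v1 :: gyax_vs2
noncomputable def gyax_vs : List Lev :=
  gyax_v0 :: gyax_vs1
noncomputable def g0a_ps : List PcG :=
  [⟨[746], 2, [], [[748], [672]]⟩,
  ⟨[748], 2, [], [[672]]⟩,
  ⟨[672], 2, [], []⟩]
noncomputable def zE726 : List (ℕ × List ℕ) :=
  [(674, [748]),
  (676, [746])]
noncomputable def g0ax_v0 : Lev :=
  ⟨0, 2, sg [672], [[750], [752], [754]], 371, 3⟩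
noncomputable def g0ax_v1 : Lev :=
  ⟨2, 2, sg [750], [[752], [754]], 374, 0⟩
noncomputable def g0ax_v2 : Lev :=
  ⟨5, 2, sg [752], [[756]], 374, 1⟩
noncomputable def g0ax_v3 : Lev :=
  ⟨6, 2, sg [756], [], 375, 0⟩
noncomputable def g0ax_vs4 : List Lev :=
  []
noncomputable def g0ax_vs3 : List Lev :=
  g0ax_v3 :: g0ax_vs4
noncomputable def g0ax_vs2 : List Lev :=
  g0ax_v2 :: g0ax_vs3
noncomputable def g0ax_vs1 : List Lev :=
  g0ax_v1 :: g0ax_vs2
noncomputable def g0ax_vs : List Lev :=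
  g0ax_v0 :: g0ax_vs1
noncomputable def zts744 : List (List ℕ) :=
  [W (nat_lit 0x9724c890188521c01),
  W (nat_lit 0x500401),
  W (nat_lit 0x93244890188600401)]
noncomputable def C2_v0 : Lev :=
  ⟨64, 5, sg (W (nat_lit 0xbdef7bdef9)), [[766], [768], [770]], 379, 3⟩
noncomputable def C2_v1 : Lev :=
  ⟨65, 4, sg (W (nat_lit 0xc0f01)), [[772], [774], [776], [778], [766]], 382, 4⟩
noncomputable def C2_v2 : Lev :=
  ⟨0, 64, sg (W (nat_lit 0x307c16ffc2f09c1f05)), [[780], [782], [784], [786]], 386, 4⟩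
noncomputable def C2_v3 : Lev :=
  ⟨2, 2, sg [784], [[780], [782], [786]], 390, 0⟩
noncomputable def C2_v4 : Lev :=
  ⟨5, 2, sg [786], [[780], [782]], 390, 0⟩
noncomputable def C2_v5 : Lev :=
  ⟨6, 2, sg [782], [[780]], 390, 0⟩
noncomputable def C2_v6 : Lev :=
  ⟨12, 2, sg [780], [], 390, 0⟩
noncomputable def C2_vs7 : List Lev :=
  []
noncomputable def C2_vs6 : List Lev :=
  C2_v6 :: C2_vs7
noncomputable def C2_vs5 : List Lev :=
  C2_v5 :: C2_vs6
noncomputable def C2_vs4 : List Lev :=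
  C2_v4 :: C2_vs5
noncomputable def C2_vs3 : List Lev :=
  C2_v3 :: C2_vs4
noncomputable def C2_vs2 : List Lev :=
  C2_v2 :: C2_vs3
noncomputable def C2_vs1 : List Lev :=
  C2_v1 :: C2_vs2
noncomputable def C2_vs : List Lev :=
  C2_v0 :: C2_vs1

theorem zr1 : chk (pcsR C_ps []) = true := by decide +kernel
theorem zr2 : chk (defRels zE0) = true := by decide +kernel
theorem zb3 : bnd (pcsB D C_ps []) (leB (app D zE0) [[0], [2], [4], [6]] (pcGens C_ps [])) = true := by decide +kernel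
theorem zc4 : P.chainB ns D C_vs [[0], [2], [4], [6]] = true := by decide +kernel
theorem zr6 : chk (pcsR C0_ps []) = true := by decide +kernel
theorem zr7 : chk (defRels zE5) = true := by decide +kernel
theorem zb8 : bnd (pcsB D C0_ps []) (leB (app D zE5) [[66], [68]] (pcGens C0_ps [])) = true := by decide +kernel
theorem zc9 : P.chainB ns D C0_vs [[66], [68]] = true := by decide +kernel
theorem zm10 : leB D [[66], [68]] [[0], [2], [4], [6]] = true := by decide +kernel
theorem zr11 : chk [((app [116] [116]), [])] = true := by decide +kernel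
theorem zn12 : movB P.n P.N ns (app [116] (invW [])) 0 = true := by decide +kernel
theorem zn13 : movB P.n P.N ns (app [118] (invW [])) 6 = true := by decide +kernel
theorem zr14 : chk [((app [122] [122]), [])] = true := by decide +kernel
theorem zr16 : chk (pcsR Kq_ps []) = true := by decide +kernel
theorem zr17 : chk (defRels zE15) = true := by decide +kernel
theorem zb18 : bnd (pcsB D Kq_ps []) (leB (app D zE15) [[0], [4], [6]] (pcGens Kq_ps [])) = true := by decide +kernel
theorem zc19 : P.chainB ns D Kq_vs [[0], [4], [6]] = true := by decide +kernel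
theorem zf21 : P.fixXB ns (diag [[118]]) cKq_F = true := by decide +kernel
theorem zc22 : P.chainB ns D cKqG_vs [[0], [2], [4], [6]] = true := by decide +kernel
theorem zs23 : ssB P.N ns D (mkS P.n cKqG_vs cKq_x) [[0], [2], [4], [6]] = true := by decide +kernel
theorem zr25 : chk (defRels zE24) = true := by decide +kernel
theorem zs27 : cKq_G.chk zt26 cKq_s none = true := by decide +kernel
theorem zr28 : chk (comR [[0], [4], [6]] (mapL Prod.snd (diag [[118]]))) = true := by decide +kernel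
theorem zm29 : leB D [[0], [4], [6]] [[0], [2], [4], [6]] = true := by decide +kernel
theorem zr31 : chk (pcsR K0_ps []) = true := by decide +kernel
theorem zr32 : chk (defRels zE30) = true := by decide +kernel
theorem zb33 : bnd (pcsB D K0_ps []) (leB (app D zE30) [[184], [186]] (pcGens K0_ps [])) = true := by decide +kernel
theorem zc34 : P.chainB ns D K0_vs [[184], [186]] = true := by decide +kernel
theorem zf36 : P.fixXB ns (diag [[118]]) cK0_F = true := by decide +kernel
theorem zc37 : P.chainB ns D cK0G_vs [[66], [68]] = true := by decide +kernel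
theorem zs38 : ssB P.N ns D (mkS P.n cK0G_vs cK0_x) [[66], [68]] = true := by decide +kernel
theorem zr40 : chk (defRels zE39) = true := by decide +kernel
theorem zs42 : cK0_G.chk zt41 cK0_s none = true := by decide +kernel
theorem zr43 : chk (comR [[184], [186]] (mapL Prod.snd (diag [[118]]))) = true := by decide +kernel
theorem zm44 : leB D [[184], [186]] [[66], [68]] = true := by decide +kernel
theorem zr46 : chk (pcsR K4_ps []) = true := by decide +kernel
theorem zr47 : chk (defRels zE45) = true := by decide +kernel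
theorem zb48 : bnd (pcsB D K4_ps []) (leB (app D zE45) [[240], [242], [244], [246]] (pcGens K4_ps [])) = true := by decide +kernel
theorem zc49 : P.chainB ns D K4_vs [[240], [242], [244], [246]] = true := by decide +kernel
theorem zf51 : P.fixXB ns (diag [[124]]) cK4_F = true := by decide +kernel
theorem zc52 : P.chainB ns D cK4G_vs [[0], [2], [4], [6]] = true := by decide +kernel
theorem zs53 : ssB P.N ns D (mkS P.n cK4G_vs cK4_x) [[0], [2], [4], [6]] = true := by decide +kernel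
theorem zr55 : chk (defRels zE54) = true := by decide +kernel
theorem zs57 : cK4_G.chk zt56 cK4_s none = true := by decide +kernel
theorem zr58 : chk (comR [[240], [242], [244], [246]] (mapL Prod.snd (diag [[124]]))) = true := by decide +kernel
theorem zm59 : leB D [[240], [242], [244], [246]] [[0], [2], [4], [6]] = true := by decide +kernel
theorem zr61 : chk (pcsR Ky_ps []) = true := by decide +kernel
theorem zr62 : chk (defRels zE60) = true := by decide +kernel
theorem zb63 : bnd (pcsB D Ky_ps []) (leB (app D zE60) [[300], [302], [304]] (pcGens Ky_ps [])) = true := by decide +kernel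
theorem zc64 : P.chainB ns D Ky_vs [[300], [302], [304]] = true := by decide +kernel
theorem zf66 : P.fixXB ns (diag [[122]]) cKy_F = true := by decide +kernel
theorem zc67 : P.chainB ns D cKyG_vs [[0], [2], [4], [6]] = true := by decide +kernel
theorem zs68 : ssB P.N ns D (mkS P.n cKyG_vs cKy_x) [[0], [2], [4], [6]] = true := by decide +kernel
theorem zs70 : cKy_G.chk zt69 cKy_s none = true := by decide +kernel
theorem zr71 : chk (comR [[300], [302], [304]] (mapL Prod.snd (diag [[122]]))) = true := by decide +kernel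
theorem zm72 : leB D [[300], [302], [304]] [[0], [2], [4], [6]] = true := by decide +kernel
theorem zr73 : chk (pcsR A0_ps []) = true := by decide +kernel
theorem zb74 : bnd (pcsB D A0_ps []) (leB (app D []) [[332], [334], [336]] (pcGens A0_ps [])) = true := by decide +kernel
theorem zc75 : P.chainB ns D A0_vs [[332], [334], [336]] = true := by decide +kernel
theorem zf77 : P.fixXB ns (diag [[120]]) cA0_F = true := by decide +kernel
theorem zc78 : P.chainB ns D cA0G_vs [[0], [4], [6]] = true := by decide +kernel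
theorem zs79 : ssB P.N ns D (mkS P.n cA0G_vs cA0_x) [[0], [4], [6]] = true := by decide +kernel
theorem zr81 : chk (defRels zE80) = true := by decide +kernel
theorem zs83 : cA0_G.chk zt82 cA0_s none = true := by decide +kernel
theorem zr84 : chk (comR [[332], [334], [336]] (mapL Prod.snd (diag [[120]]))) = true := by decide +kernel
theorem zm85 : leB D [[332], [334], [336]] [[0], [4], [6]] = true := by decide +kernel
theorem zf86 : P.fixXB ns (diag [[126]]) cK8_F = true := by decide +kernel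
theorem zc87 : P.chainB ns D cK8G_vs [[0], [2], [4], [6]] = true := by decide +kernel
theorem zs88 : ssB P.N ns D (mkS P.n cK8G_vs cK8_x) [[0], [2], [4], [6]] = true := by decide +kernel
theorem zs90 : cK8_G.chk zt89 cK8_s none = true := by decide +kernel
theorem zr91 : chk (comR [[370], [372], [374], [376], [378], [380], [382], [384]] (mapL Prod.snd (diag [[126]]))) = true := by decide +kernel
theorem zm92 : leB D [[370], [372], [374], [376], [378], [380], [382], [384]] [[0], [2], [4], [6]] = true := by decide +kernel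
theorem zc93 : P.chainB ns D K8_vs [[370], [372], [374], [376], [378], [380], [382], [384]] = true := by decide +kernel
theorem zr94 : chk (pcsR K8_ps []) = true := by decide +kernel
theorem zb95 : bnd (pcsB D K8_ps []) (leB (app D []) [[370], [372], [374], [376], [378], [380], [382], [384]] (pcGens K8_ps [])) = true := by decide +kernel
theorem zq96 : cvN 2 [370] [[]] vK80_E = vK80_R := by decide +kernel
theorem zr97 : chk (cvR 4 2 [370] [[]] vK80_E) = true := by decide +kernel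
theorem zb98 : cvB D [[370], [372], [374], [376], [378], [380], [382], [384]] [[372], [374], [376], [378], [380], [382], [384]] 2 [370] [[]] vK80_E = true := by decide +kernel
theorem zm99 : leB D [[370], [372], [374], [376], [378], [380], [382], [384]] [[370], [372], [374], [376], [378], [380], [382], [384]] = true := by decide +kernel
theorem zm101 : nrmB D [[370], [372], [374], [376], [378], [380], [382], [384]] [[372], [374], [376], [378], [380], [382], [384]] zcj100 = true := by decide +kernel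
theorem zr102 : chk (nrmR [[370], [372], [374], [376], [378], [380], [382], [384]] [[372], [374], [376], [378], [380], [382], [384]] zcj100) = true := by decide +kernel
theorem zm103 : leB D [[372], [374], [376], [378], [380], [382], [384]] [[370], [372], [374], [376], [378], [380], [382], [384]] = true := by decide +kernel
theorem zq104 : cvN 2 [372] vK80_R vK81_E = vK81_R := by decide +kernel
theorem zr105 : chk (cvR 4 2 [372] vK80_R vK81_E) = true := by decide +kernel
theorem zb106 : cvB D [[370], [372], [374], [376], [378], [380], [382], [384]] [[374], [376], [378], [380], [382], [384]] 2 [372] vK80_R vK81_E = true := by decide +kernel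
theorem zm107 : leB D [[370], [372], [374], [376], [378], [380], [382], [384]] [[370], [372], [374], [376], [378], [380], [382], [384]] = true := by decide +kernel
theorem zm109 : nrmB D [[370], [372], [374], [376], [378], [380], [382], [384]] [[374], [376], [378], [380], [382], [384]] zcj108 = true := by decide +kernel
theorem zr110 : chk (nrmR [[370], [372], [374], [376], [378], [380], [382], [384]] [[374], [376], [378], [380], [382], [384]] zcj108) = true := by decide +kernel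
theorem zm111 : leB D [[374], [376], [378], [380], [382], [384]] [[370], [372], [374], [376], [378], [380], [382], [384]] = true := by decide +kernel
theorem zq112 : cvN 2 [374] vK81_R vK82_E = vK82_R := by decide +kernel
theorem zr113 : chk (cvR 4 2 [374] vK81_R vK82_E) = true := by decide +kernel
theorem zb114 : cvB D [[370], [372], [374], [376], [378], [380], [382], [384]] [[376], [378], [380], [382], [384]] 2 [374] vK81_R vK82_E = true := by decide +kernel
theorem zm115 : leB D [[370], [372], [374], [376], [378], [380], [382], [384]] [[370], [372], [374], [376], [378], [380], [382], [384]] = true := by decide +kernel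
theorem zm117 : nrmB D [[370], [372], [374], [376], [378], [380], [382], [384]] [[376], [378], [380], [382], [384]] zcj116 = true := by decide +kernel
theorem zr118 : chk (nrmR [[370], [372], [374], [376], [378], [380], [382], [384]] [[376], [378], [380], [382], [384]] zcj116) = true := by decide +kernel
theorem zm119 : leB D [[376], [378], [380], [382], [384]] [[370], [372], [374], [376], [378], [380], [382], [384]] = true := by decide +kernel
theorem zq120 : cvN 2 [376] vK82_R vK83_E = vK83_R := by decide +kernel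
theorem zr121 : chk (cvR 4 2 [376] vK82_R vK83_E) = true := by decide +kernel
theorem zb122 : cvB D [[370], [372], [374], [376], [378], [380], [382], [384]] [[378], [380], [382], [384]] 2 [376] vK82_R vK83_E = true := by decide +kernel
theorem zm123 : leB D [[370], [372], [374], [376], [378], [380], [382], [384]] [[370], [372], [374], [376], [378], [380], [382], [384]] = true := by decide +kernel
theorem zm125 : nrmB D [[370], [372], [374], [376], [378], [380], [382], [384]] [[378], [380], [382], [384]] zcj124 = true := by decide +kernel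
theorem zr126 : chk (nrmR [[370], [372], [374], [376], [378], [380], [382], [384]] [[378], [380], [382], [384]] zcj124) = true := by decide +kernel
theorem zm127 : leB D [[378], [380], [382], [384]] [[370], [372], [374], [376], [378], [380], [382], [384]] = true := by decide +kernel
theorem zq128 : cvN 2 [378] vK83_R vK84_E = vK84_R := by decide +kernel
theorem zr129 : chk (cvR 4 2 [378] vK83_R vK84_E) = true := by decide +kernel
theorem zb130 : cvB D [[370], [372], [374], [376], [378], [380], [382], [384]] [[380], [382], [384]] 2 [378] vK83_R vK84_E = true := by decide +kernel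
theorem zm131 : leB D [[370], [372], [374], [376], [378], [380], [382], [384]] [[370], [372], [374], [376], [378], [380], [382], [384]] = true := by decide +kernel
theorem zm133 : nrmB D [[370], [372], [374], [376], [378], [380], [382], [384]] [[380], [382], [384]] zcj132 = true := by decide +kernel
theorem zr134 : chk (nrmR [[370], [372], [374], [376], [378], [380], [382], [384]] [[380], [382], [384]] zcj132) = true := by decide +kernel
theorem zm135 : leB D [[380], [382], [384]] [[370], [372], [374], [376], [378], [380], [382], [384]] = true := by decide +kernel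
theorem zq136 : cvN 2 [380] vK84_R vK85_E = vK85_R := by decide +kernel
theorem zr137 : chk (cvR 4 2 [380] vK84_R vK85_E) = true := by decide +kernel
theorem zb138 : cvB D [[370], [372], [374], [376], [378], [380], [382], [384]] [[382], [384]] 2 [380] vK84_R vK85_E = true := by decide +kernel
theorem zm139 : leB D [[370], [372], [374], [376], [378], [380], [382], [384]] [[370], [372], [374], [376], [378], [380], [382], [384]] = true := by decide +kernel
theorem zm141 : nrmB D [[370], [372], [374], [376], [378], [380], [382], [384]] [[382], [384]] zcj140 = true := by decide +kernel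
theorem zr142 : chk (nrmR [[370], [372], [374], [376], [378], [380], [382], [384]] [[382], [384]] zcj140) = true := by decide +kernel
theorem zm143 : leB D [[382], [384]] [[370], [372], [374], [376], [378], [380], [382], [384]] = true := by decide +kernel
theorem zq144 : cvN 2 [382] vK85_R vK86_E = vK86_R := by decide +kernel
theorem zr145 : chk (cvR 4 2 [382] vK85_R vK86_E) = true := by decide +kernel
theorem zb146 : cvB D [[370], [372], [374], [376], [378], [380], [382], [384]] [[384]] 2 [382] vK85_R vK86_E = true := by decide +kernel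
theorem zm147 : leB D [[370], [372], [374], [376], [378], [380], [382], [384]] [[370], [372], [374], [376], [378], [380], [382], [384]] = true := by decide +kernel
theorem zm149 : nrmB D [[370], [372], [374], [376], [378], [380], [382], [384]] [[384]] zcj148 = true := by decide +kernel
theorem zr150 : chk (nrmR [[370], [372], [374], [376], [378], [380], [382], [384]] [[384]] zcj148) = true := by decide +kernel
theorem zm151 : leB D [[384]] [[370], [372], [374], [376], [378], [380], [382], [384]] = true := by decide +kernel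
theorem zq152 : cvN 2 [384] vK86_R vK87_E = vK87_R := by decide +kernel
theorem zr153 : chk (cvR 4 2 [384] vK86_R vK87_E) = true := by decide +kernel
theorem zb154 : cvB D [[370], [372], [374], [376], [378], [380], [382], [384]] [] 2 [384] vK86_R vK87_E = true := by decide +kernel
theorem zm155 : leB D [[370], [372], [374], [376], [378], [380], [382], [384]] [[370], [372], [374], [376], [378], [380], [382], [384]] = true := by decide +kernel
theorem zn156 : allL (fun p : List ℕ × ℕ => movB P.n P.N ns (app p.1 (app p.1 [126])) p.2) (zp 0 vK87_R [0, 0, 0, 0, 0, 0, 0, 0, 0, 0, 0, 0, 0, 0, 0, 0, 0, 0, 0, 0, 0, 0, 0, 0, 0, 0, 0, 0, 0, 0, 0, 0, 0, 0, 0, 0, 0, 0, 0, 0, 0, 0, 0, 0, 0, 0, 0, 0, 5, 5, 5, 5]) = true := by decide +kernel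
theorem zr157 : chk [((app [126] [126]), [])] = true := by decide +kernel
theorem zf159 : P.fixXB ns (diag [[122]]) cY0_F = true := by decide +kernel
theorem zc160 : P.chainB ns D cY0G_vs [[66], [68]] = true := by decide +kernel
theorem zs161 : ssB P.N ns D (mkS P.n cY0G_vs cY0_x) [[66], [68]] = true := by decide +kernel
theorem zs163 : cY0_G.chk zt162 cY0_s none = true := by decide +kernel
theorem zr164 : chk (comR [[408], [410], [412], [414], [416], [418], [420]] (mapL Prod.snd (diag [[122]]))) = true := by decide +kernel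
theorem zm165 : leB D [[408], [410], [412], [414], [416], [418], [420]] [[66], [68]] = true := by decide +kernel
theorem zc166 : P.chainB ns D Y0_vs [[408], [410], [412], [414], [416], [418], [420]] = true := by decide +kernel
theorem zr167 : chk (pcsR Y0_ps []) = true := by decide +kernel
theorem zb168 : bnd (pcsB D Y0_ps []) (leB (app D []) [[408], [410], [412], [414], [416], [418], [420]] (pcGens Y0_ps [])) = true := by decide +kernel
theorem zq169 : cvN 2 [408] [[]] vY00_E = vY00_R := by decide +kernel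
theorem zr170 : chk (cvR 4 2 [408] [[]] vY00_E) = true := by decide +kernel
theorem zb171 : cvB D [[408], [410], [412], [414], [416], [418], [420]] [[410], [412], [414], [416], [418], [420]] 2 [408] [[]] vY00_E = true := by decide +kernel
theorem zm172 : leB D [[408], [410], [412], [414], [416], [418], [420]] [[408], [410], [412], [414], [416], [418], [420]] = true := by decide +kernel
theorem zm174 : nrmB D [[408], [410], [412], [414], [416], [418], [420]] [[410], [412], [414], [416], [418], [420]] zcj173 = true := by decide +kernel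
theorem zr175 : chk (nrmR [[408], [410], [412], [414], [416], [418], [420]] [[410], [412], [414], [416], [418], [420]] zcj173) = true := by decide +kernel
theorem zm176 : leB D [[410], [412], [414], [416], [418], [420]] [[408], [410], [412], [414], [416], [418], [420]] = true := by decide +kernel
theorem zq177 : cvN 2 [410] vY00_R vY01_E = vY01_R := by decide +kernel
theorem zr178 : chk (cvR 4 2 [410] vY00_R vY01_E) = true := by decide +kernel
theorem zb179 : cvB D [[408], [410], [412], [414], [416], [418], [420]] [[412], [414], [416], [418], [420]] 2 [410] vY00_R vY01_E = true := by decide +kernel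
theorem zm180 : leB D [[408], [410], [412], [414], [416], [418], [420]] [[408], [410], [412], [414], [416], [418], [420]] = true := by decide +kernel
theorem zm182 : nrmB D [[408], [410], [412], [414], [416], [418], [420]] [[412], [414], [416], [418], [420]] zcj181 = true := by decide +kernel
theorem zr183 : chk (nrmR [[408], [410], [412], [414], [416], [418], [420]] [[412], [414], [416], [418], [420]] zcj181) = true := by decide +kernel
theorem zm184 : leB D [[412], [414], [416], [418], [420]] [[408], [410], [412], [414], [416], [418], [420]] = true := by decide +kernel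
theorem zq185 : cvN 2 [412] vY01_R vY02_E = vY02_R := by decide +kernel
theorem zr186 : chk (cvR 4 2 [412] vY01_R vY02_E) = true := by decide +kernel
theorem zb187 : cvB D [[408], [410], [412], [414], [416], [418], [420]] [[414], [416], [418], [420]] 2 [412] vY01_R vY02_E = true := by decide +kernel
theorem zm188 : leB D [[408], [410], [412], [414], [416], [418], [420]] [[408], [410], [412], [414], [416], [418], [420]] = true := by decide +kernel
theorem zm190 : nrmB D [[408], [410], [412], [414], [416], [418], [420]] [[414], [416], [418], [420]] zcj189 = true := by decide +kernel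
theorem zr191 : chk (nrmR [[408], [410], [412], [414], [416], [418], [420]] [[414], [416], [418], [420]] zcj189) = true := by decide +kernel
theorem zm192 : leB D [[414], [416], [418], [420]] [[408], [410], [412], [414], [416], [418], [420]] = true := by decide +kernel
theorem zq193 : cvN 2 [414] vY02_R vY03_E = vY03_R := by decide +kernel
theorem zr194 : chk (cvR 4 2 [414] vY02_R vY03_E) = true := by decide +kernel
theorem zb195 : cvB D [[408], [410], [412], [414], [416], [418], [420]] [[416], [418], [420]] 2 [414] vY02_R vY03_E = true := by decide +kernel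
theorem zm196 : leB D [[408], [410], [412], [414], [416], [418], [420]] [[408], [410], [412], [414], [416], [418], [420]] = true := by decide +kernel
theorem zm198 : nrmB D [[408], [410], [412], [414], [416], [418], [420]] [[416], [418], [420]] zcj197 = true := by decide +kernel
theorem zr199 : chk (nrmR [[408], [410], [412], [414], [416], [418], [420]] [[416], [418], [420]] zcj197) = true := by decide +kernel
theorem zm200 : leB D [[416], [418], [420]] [[408], [410], [412], [414], [416], [418], [420]] = true := by decide +kernel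
theorem zq201 : cvN 2 [416] vY03_R vY04_E = vY04_R := by decide +kernel
theorem zr202 : chk (cvR 4 2 [416] vY03_R vY04_E) = true := by decide +kernel
theorem zb203 : cvB D [[408], [410], [412], [414], [416], [418], [420]] [[418], [420]] 2 [416] vY03_R vY04_E = true := by decide +kernel
theorem zm204 : leB D [[408], [410], [412], [414], [416], [418], [420]] [[408], [410], [412], [414], [416], [418], [420]] = true := by decide +kernel
theorem zm206 : nrmB D [[408], [410], [412], [414], [416], [418], [420]] [[418], [420]] zcj205 = true := by decide +kernel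
theorem zr207 : chk (nrmR [[408], [410], [412], [414], [416], [418], [420]] [[418], [420]] zcj205) = true := by decide +kernel
theorem zm208 : leB D [[418], [420]] [[408], [410], [412], [414], [416], [418], [420]] = true := by decide +kernel
theorem zq209 : cvN 2 [418] vY04_R vY05_E = vY05_R := by decide +kernel
theorem zr210 : chk (cvR 4 2 [418] vY04_R vY05_E) = true := by decide +kernel
theorem zb211 : cvB D [[408], [410], [412], [414], [416], [418], [420]] [[420]] 2 [418] vY04_R vY05_E = true := by decide +kernel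
theorem zm212 : leB D [[408], [410], [412], [414], [416], [418], [420]] [[408], [410], [412], [414], [416], [418], [420]] = true := by decide +kernel
theorem zm214 : nrmB D [[408], [410], [412], [414], [416], [418], [420]] [[420]] zcj213 = true := by decide +kernel
theorem zr215 : chk (nrmR [[408], [410], [412], [414], [416], [418], [420]] [[420]] zcj213) = true := by decide +kernel
theorem zm216 : leB D [[420]] [[408], [410], [412], [414], [416], [418], [420]] = true := by decide +kernel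
theorem zq217 : cvN 2 [420] vY05_R vY06_E = vY06_R := by decide +kernel
theorem zr218 : chk (cvR 4 2 [420] vY05_R vY06_E) = true := by decide +kernel
theorem zb219 : cvB D [[408], [410], [412], [414], [416], [418], [420]] [] 2 [420] vY05_R vY06_E = true := by decide +kernel
theorem zm220 : leB D [[408], [410], [412], [414], [416], [418], [420]] [[408], [410], [412], [414], [416], [418], [420]] = true := by decide +kernel
theorem zn221 : allL (fun p : List ℕ × ℕ => movB P.n P.N ns (app p.1 (app p.1 [122])) p.2) (zp 0 vY06_R [2, 2, 2, 2, 2, 2, 2, 2, 2, 2, 0, 0, 0, 0, 0, 0, 0, 0, 2, 2, 2, 2, 2, 2, 2, 2, 2, 2, 2, 2, 2, 2, 0, 0, 0, 0, 0, 0, 0, 0, 2, 2, 2, 2]) = true := by decide +kernel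
theorem zr222 : chk [((app [122] [122]), [])] = true := by decide +kernel
theorem zf224 : P.fixXB ns (diag [[120]]) cR0_F = true := by decide +kernel
theorem zc225 : P.chainB ns D cR0G_vs [[184], [186]] = true := by decide +kernel
theorem zs226 : ssB P.N ns D (mkS P.n cR0G_vs cR0_x) [[184], [186]] = true := by decide +kernel
theorem zr228 : chk (defRels zE227) = true := by decide +kernel
theorem zs230 : cR0_G.chk zt229 cR0_s none = true := by decide +kernel
theorem zr231 : chk (comR [[450], [452], [192], [206], [454], [456], [458]] (mapL Prod.snd (diag [[120]]))) = true := by decide +kernel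
theorem zm232 : leB D [[450], [452], [192], [206], [454], [456], [458]] [[184], [186]] = true := by decide +kernel
theorem zc233 : P.chainB ns D R0_vs [[450], [452], [192], [206], [454], [456], [458]] = true := by decide +kernel
theorem zr234 : chk (pcsR R0_ps []) = true := by decide +kernel
theorem zb235 : bnd (pcsB D R0_ps []) (leB (app D []) [[450], [452], [192], [206], [454], [456], [458]] (pcGens R0_ps [])) = true := by decide +kernel
theorem zq236 : cvN 2 [450] [[]] vR00_E = vR00_R := by decide +kernel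
theorem zr237 : chk (cvR 4 2 [450] [[]] vR00_E) = true := by decide +kernel
theorem zb238 : cvB D [[450], [452], [192], [206], [454], [456], [458]] [[452], [192], [206], [454], [456], [458]] 2 [450] [[]] vR00_E = true := by decide +kernel
theorem zm239 : leB D [[450], [452], [192], [206], [454], [456], [458]] [[450], [452], [192], [206], [454], [456], [458]] = true := by decide +kernel
theorem zm241 : nrmB D [[450], [452], [192], [206], [454], [456], [458]] [[452], [192], [206], [454], [456], [458]] zcj240 = true := by decide +kernel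
theorem zr242 : chk (nrmR [[450], [452], [192], [206], [454], [456], [458]] [[452], [192], [206], [454], [456], [458]] zcj240) = true := by decide +kernel
theorem zm243 : leB D [[452], [192], [206], [454], [456], [458]] [[450], [452], [192], [206], [454], [456], [458]] = true := by decide +kernel
theorem zq244 : cvN 2 [452] vR00_R vR01_E = vR01_R := by decide +kernel
theorem zr245 : chk (cvR 4 2 [452] vR00_R vR01_E) = true := by decide +kernel
theorem zb246 : cvB D [[450], [452], [192], [206], [454], [456], [458]] [[192], [206], [454], [456], [458]] 2 [452] vR00_R vR01_E = true := by decide +kernel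
theorem zm247 : leB D [[450], [452], [192], [206], [454], [456], [458]] [[450], [452], [192], [206], [454], [456], [458]] = true := by decide +kernel
theorem zm249 : nrmB D [[450], [452], [192], [206], [454], [456], [458]] [[192], [206], [454], [456], [458]] zcj248 = true := by decide +kernel
theorem zr250 : chk (nrmR [[450], [452], [192], [206], [454], [456], [458]] [[192], [206], [454], [456], [458]] zcj248) = true := by decide +kernel
theorem zm251 : leB D [[192], [206], [454], [456], [458]] [[450], [452], [192], [206], [454], [456], [458]] = true := by decide +kernel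
theorem zq252 : cvN 2 [192] vR01_R vR02_E = vR02_R := by decide +kernel
theorem zr253 : chk (cvR 4 2 [192] vR01_R vR02_E) = true := by decide +kernel
theorem zb254 : cvB D [[450], [452], [192], [206], [454], [456], [458]] [[206], [454], [456], [458]] 2 [192] vR01_R vR02_E = true := by decide +kernel
theorem zm255 : leB D [[450], [452], [192], [206], [454], [456], [458]] [[450], [452], [192], [206], [454], [456], [458]] = true := by decide +kernel
theorem zm257 : nrmB D [[450], [452], [192], [206], [454], [456], [458]] [[206], [454], [456], [458]] zcj256 = true := by decide +kernel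
theorem zr258 : chk (nrmR [[450], [452], [192], [206], [454], [456], [458]] [[206], [454], [456], [458]] zcj256) = true := by decide +kernel
theorem zm259 : leB D [[206], [454], [456], [458]] [[450], [452], [192], [206], [454], [456], [458]] = true := by decide +kernel
theorem zq260 : cvN 2 [206] vR02_R vR03_E = vR03_R := by decide +kernel
theorem zr261 : chk (cvR 4 2 [206] vR02_R vR03_E) = true := by decide +kernel
theorem zb262 : cvB D [[450], [452], [192], [206], [454], [456], [458]] [[454], [456], [458]] 2 [206] vR02_R vR03_E = true := by decide +kernel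
theorem zm263 : leB D [[450], [452], [192], [206], [454], [456], [458]] [[450], [452], [192], [206], [454], [456], [458]] = true := by decide +kernel
theorem zm265 : nrmB D [[450], [452], [192], [206], [454], [456], [458]] [[454], [456], [458]] zcj264 = true := by decide +kernel
theorem zr266 : chk (nrmR [[450], [452], [192], [206], [454], [456], [458]] [[454], [456], [458]] zcj264) = true := by decide +kernel
theorem zm267 : leB D [[454], [456], [458]] [[450], [452], [192], [206], [454], [456], [458]] = true := by decide +kernel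
theorem zq268 : cvN 2 [454] vR03_R vR04_E = vR04_R := by decide +kernel
theorem zr269 : chk (cvR 4 2 [454] vR03_R vR04_E) = true := by decide +kernel
theorem zb270 : cvB D [[450], [452], [192], [206], [454], [456], [458]] [[456], [458]] 2 [454] vR03_R vR04_E = true := by decide +kernel
theorem zm271 : leB D [[450], [452], [192], [206], [454], [456], [458]] [[450], [452], [192], [206], [454], [456], [458]] = true := by decide +kernel
theorem zm273 : nrmB D [[450], [452], [192], [206], [454], [456], [458]] [[456], [458]] zcj272 = true := by decide +kernel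
theorem zr274 : chk (nrmR [[450], [452], [192], [206], [454], [456], [458]] [[456], [458]] zcj272) = true := by decide +kernel
theorem zm275 : leB D [[456], [458]] [[450], [452], [192], [206], [454], [456], [458]] = true := by decide +kernel
theorem zq276 : cvN 2 [456] vR04_R vR05_E = vR05_R := by decide +kernel
theorem zr277 : chk (cvR 4 2 [456] vR04_R vR05_E) = true := by decide +kernel
theorem zb278 : cvB D [[450], [452], [192], [206], [454], [456], [458]] [[458]] 2 [456] vR04_R vR05_E = true := by decide +kernel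
theorem zm279 : leB D [[450], [452], [192], [206], [454], [456], [458]] [[450], [452], [192], [206], [454], [456], [458]] = true := by decide +kernel
theorem zm281 : nrmB D [[450], [452], [192], [206], [454], [456], [458]] [[458]] zcj280 = true := by decide +kernel
theorem zr282 : chk (nrmR [[450], [452], [192], [206], [454], [456], [458]] [[458]] zcj280) = true := by decide +kernel
theorem zm283 : leB D [[458]] [[450], [452], [192], [206], [454], [456], [458]] = true := by decide +kernel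
theorem zq284 : cvN 2 [458] vR05_R vR06_E = vR06_R := by decide +kernel
theorem zr285 : chk (cvR 4 2 [458] vR05_R vR06_E) = true := by decide +kernel
theorem zb286 : cvB D [[450], [452], [192], [206], [454], [456], [458]] [] 2 [458] vR05_R vR06_E = true := by decide +kernel
theorem zm287 : leB D [[450], [452], [192], [206], [454], [456], [458]] [[450], [452], [192], [206], [454], [456], [458]] = true := by decide +kernel
theorem zn288 : allL (fun p : List ℕ × ℕ => movB P.n P.N ns (app p.1 (app p.1 [120])) p.2) (zp 0 vR06_R [5, 5, 5, 5, 5, 5, 5, 5, 5, 5, 5, 5, 5, 5, 5, 5, 5, 5, 5, 5, 5, 5, 5, 5, 0, 0, 0, 0, 2, 2, 2, 2, 2, 2, 2, 2, 6, 6, 6, 6, 0, 0, 0, 0]) = true := by decide +kernel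
theorem zr289 : chk [((app [120] [120]), [])] = true := by decide +kernel
theorem zr290 : chk (CL.RF2.MdA.orbR [[0], [2], [4], [6]] [[118], [484], [486], [488], [490], [492], [494], [496], [498], [500]] oT) = true := by decide +kernel
theorem zr291 : chk [([118], (app (app (powW [128] 0) [118]) (invW (powW [128] 0))))] = true := by decide +kernel
theorem zr292 : chk [([484], (app (app (powW [128] 1) [118]) (invW (powW [128] 1))))] = true := by decide +kernel
theorem zr293 : chk [([486], (app (app (powW [128] 2) [118]) (invW (powW [128] 2))))] = true := by decide +kernel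
theorem zr294 : chk [([488], (app (app (powW [128] 3) [118]) (invW (powW [128] 3))))] = true := by decide +kernel
theorem zr295 : chk [([490], (app (app (powW [128] 4) [118]) (invW (powW [128] 4))))] = true := by decide +kernel
theorem zr296 : chk [([492], (app [116] (app (app (powW [128] 0) [118]) (invW (powW [128] 0)))))] = true := by decide +kernel
theorem zr297 : chk [([494], (app [116] (app (app (powW [128] 1) [118]) (invW (powW [128] 1)))))] = true := by decide +kernel
theorem zr298 : chk [([496], (app [116] (app (app (powW [128] 2) [118]) (invW (powW [128] 2)))))] = true := by decide +kernel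
theorem zr299 : chk [([498], (app [116] (app (app (powW [128] 3) [118]) (invW (powW [128] 3)))))] = true := by decide +kernel
theorem zr300 : chk [([500], (app [116] (app (app (powW [128] 4) [118]) (invW (powW [128] 4)))))] = true := by decide +kernel
theorem zr301 : chk [([484], (app (app [186, 190, 200] [120]) (invW [186, 190, 200])))] = true := by decide +kernel
theorem zm302 : leB D [W (nat_lit 0xc92fcbb)] [[184], [186]] = true := by decide +kernel
theorem zr303 : chk [([486], (app (app [] [120]) (invW [])))] = true := by decide +kernel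
theorem zm304 : leB D [[]] [[184], [186]] = true := by decide +kernel
theorem zr305 : chk [([488], (app (app (W (nat_lit 0x324ba2fcbd2ecbb)) [120]) (invW (W (nat_lit 0x324ba2fcbd2ecbb)))))] = true := by decide +kernel
theorem zm306 : leB D [W (nat_lit 0x324ba2fcbd2ecbb)] [[184], [186]] = true := by decide +kernel
theorem zr307 : chk [([490], (app (app (W (nat_lit 0x344c9304bd2fcbc)) [120]) (invW (W (nat_lit 0x344c9304bd2fcbc)))))] = true := by decide +kernel
theorem zm308 : leB D [W (nat_lit 0x344c9304bd2fcbc)] [[184], [186]] = true := by decide +kernel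
theorem zr309 : chk [([492], (app [116] [118]))] = true := by decide +kernel
theorem zr310 : chk [([494], (app (app [186, 192, 185, 206] [120]) (invW [186, 192, 185, 206])))] = true := by decide +kernel
theorem zm311 : leB D [W (nat_lit 0x33cba304bb)] [[184], [186]] = true := by decide +kernel
theorem zr312 : chk [([496], (app (app [190, 185, 206, 208] [120]) (invW [190, 185, 206, 208])))] = true := by decide +kernel
theorem zm313 : leB D [W (nat_lit 0x344cf2e8bf)] [[184], [186]] = true := by decide +kernel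
theorem zr314 : chk [([498], (app (app (W (nat_lit 0x344c9304be2ecbb)) [120]) (invW (W (nat_lit 0x344c9304be2ecbb)))))] = true := by decide +kernel
theorem zm315 : leB D [W (nat_lit 0x344c9304be2ecbb)] [[184], [186]] = true := by decide +kernel
theorem zr316 : chk [([500], (app (app (W (nat_lit 0x344cf324ba2f4bc)) [120]) (invW (W (nat_lit 0x344cf324ba2f4bc)))))] = true := by decide +kernel
theorem zm317 : leB D [W (nat_lit 0x344cf324ba2f4bc)] [[184], [186]] = true := by decide +kernel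
theorem zr318 : chk (pcsR Wc_ps []) = true := by decide +kernel
theorem zb319 : bnd (pcsB D Wc_ps []) (leB (app D []) [[118], [484], [486], [488], [492]] (pcGens Wc_ps [])) = true := by decide +kernel
theorem zc320 : P.chainB ns D Wc_vs [[118], [484], [486], [488], [492]] = true := by decide +kernel
theorem zm321 : leB D [W (nat_lit 0x7e5fb)] [[118], [484], [486], [488], [492]] = true := by decide +kernel
theorem zr322 : chk [([118], [506, 504])] = true := by decide +kernel
theorem zm323 : leB D [[484]] [[118], [484], [486], [488], [492]] = true := by decide +kernel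
theorem zr324 : chk [([484], [484])] = true := by decide +kernel
theorem zm325 : leB D [[502]] [[118], [484], [486], [488], [492]] = true := by decide +kernel
theorem zr326 : chk [([486], [502])] = true := by decide +kernel
theorem zm327 : leB D [W (nat_lit 0x1fb7dde5)] [[118], [484], [486], [488], [492]] = true := by decide +kernel
theorem zr328 : chk [([488], [484, 502, 506])] = true := by decide +kernel
theorem zm329 : leB D [[504]] [[118], [484], [486], [488], [492]] = true := by decide +kernel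
theorem zr330 : chk [([490], [504])] = true := by decide +kernel
theorem zm331 : leB D [[492]] [[118], [484], [486], [488], [492]] = true := by decide +kernel
theorem zr332 : chk [([492], [492])] = true := by decide +kernel
theorem zm333 : leB D [W (nat_lit 0x7e5fb795ed)] [[118], [484], [486], [488], [492]] = true := by decide +kernel
theorem zr334 : chk [([494], [492, 484, 506, 504])] = true := by decide +kernel
theorem zm335 : leB D [W (nat_lit 0x7e5fb7dded)] [[118], [484], [486], [488], [492]] = true := by decide +kernel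
theorem zr336 : chk [([496], [492, 502, 506, 504])] = true := by decide +kernel
theorem zm337 : leB D [W (nat_lit 0x7e5f7795ed)] [[118], [484], [486], [488], [492]] = true := by decide +kernel
theorem zr338 : chk [([498], [492, 484, 502, 504])] = true := by decide +kernel
theorem zm339 : leB D [W (nat_lit 0x7eded)] [[118], [484], [486], [488], [492]] = true := by decide +kernel
theorem zr340 : chk [([500], [492, 506])] = true := by decide +kernel
theorem zr341 : chk [((app (app [] [118]) (invW [])), [118])] = true := by decide +kernel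
theorem zm342 : leB D [[]] [[66], [68]] = true := by decide +kernel
theorem zr343 : chk [((app (app [68, 73, 76, 90] [118]) (invW [68, 73, 76, 90])), [484])] = true := by decide +kernel
theorem zm344 : leB D [W (nat_lit 0x16c4d12845)] [[66], [68]] = true := by decide +kernel
theorem zr345 : chk [((app (app (W (nat_lit 0x16c5d1444d10c43)) [118]) (invW (W (nat_lit 0x16c5d1444d10c43)))), [486])] = true := by decide +kernel
theorem zm346 : leB D [W (nat_lit 0x16c5d1444d10c43)] [[66], [68]] = true := by decide +kernel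
theorem zr347 : chk [((app (app (W (nat_lit 0x17c5d1345111c44)) [118]) (invW (W (nat_lit 0x17c5d1345111c44)))), [488])] = true := by decide +kernel
theorem zm348 : leB D [W (nat_lit 0x17c5d1345111c44)] [[66], [68]] = true := by decide +kernel
theorem zr349 : chk [((app (app (W (nat_lit 0x5b12c4e1444a)) [118]) (invW (W (nat_lit 0x5b12c4e1444a)))), [492])] = true := by decide +kernel
theorem zm350 : leB D [W (nat_lit 0x5b12c4e1444a)] [[66], [68]] = true := by decide +kernel
theorem zr351 : chk (pcsR W3c_ps []) = true := by decide +kernel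
theorem zb352 : bnd (pcsB D W3c_ps []) (leB (app D []) [[116], [492], [122], [508], [510]] (pcGens W3c_ps [])) = true := by decide +kernel
theorem zc353 : P.chainB ns D W3c_vs [[116], [492], [122], [508], [510]] = true := by decide +kernel
theorem zm355 : nrmB D [[184], [186]] [[116], [492], [122], [508], [510]] zcj354 = true := by decide +kernel
theorem zr356 : chk (nrmR [[184], [186]] [[116], [492], [122], [508], [510]] zcj354) = true := by decide +kernel
theorem zr357 : chk [([492], (app [116] [118]))] = true := by decide +kernel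
theorem zr358 : chk [((app (app [186] [122]) (invW [186])), [508])] = true := by decide +kernel
theorem zm359 : leB D [[186]] [[184], [186]] = true := by decide +kernel
theorem zr360 : chk [((app (app [187] [122]) (invW [187])), [510])] = true := by decide +kernel
theorem zm361 : leB D [[187]] [[184], [186]] = true := by decide +kernel
theorem zm362 : leB D [[122]] [[116], [492], [122], [508], [510]] = true := by decide +kernel
theorem zm363 : leB D [W (nat_lit 0x82603)] [[116], [492], [122], [508], [510]] = true := by decide +kernel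
theorem zr364 : chk [((app [116] [118]), [514, 520])] = true := by decide +kernel
theorem zm365 : leB D [[116]] [[116], [492], [122], [508], [510]] = true := by decide +kernel
theorem zr366 : chk (comR [[118], [484], [486], [488], [492]] [[118], [484], [486], [488], [492]]) = true := by decide +kernel
theorem zr367 : chk (zp [] (powWs 2 [[118], [484], [486], [488], [492]]) []) = true := by decide +kernel
theorem zr368 : chk (comR [[118], [484], [486], [488], [492]] [[118], [484], [486], [488], [492]]) = true := by decide +kernel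
theorem zr369 : chk (comR [[116], [492], [122], [508], [510]] [[116], [492], [122], [508], [510]]) = true := by decide +kernel
theorem zr370 : chk (zp [] (powWs 2 [[116], [492], [122], [508], [510]]) []) = true := by decide +kernel
theorem zr371 : chk (comR [[116], [492], [122], [508], [510]] [[116], [492], [122], [508], [510]]) = true := by decide +kernel
theorem zr372 : chk (pcsR I_ps []) = true := by decide +kernel
theorem zb373 : bnd (pcsB D I_ps []) (leB (app D []) [[526], [528], [530]] (pcGens I_ps [])) = true := by decide +kernel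
theorem zc374 : P.chainB ns D I_vs [[526], [528], [530]] = true := by decide +kernel
theorem zf375 : P.fixXB ns (diag [[116], [492], [122], [508], [510]]) cI_F = true := by decide +kernel
theorem zc376 : P.chainB ns D cIG_vs [[118], [484], [486], [488], [492]] = true := by decide +kernel
theorem zs377 : ssB P.N ns D (mkS P.n cIG_vs cI_x) [[118], [484], [486], [488], [492]] = true := by decide +kernel
theorem zs379 : cI_G.chk zt378 cI_s none = true := by decide +kernel
theorem zr380 : chk (comR [[526], [528], [530]] (mapL Prod.snd (diag [[116], [492], [122], [508], [510]]))) = true := by decide +kernel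
theorem zm381 : leB D [[526], [528], [530]] [[118], [484], [486], [488], [492]] = true := by decide +kernel
theorem zm383 : leB D zts382 [[116], [492], [122], [508], [510]] = true := by decide +kernel
theorem zr384 : chk (zp [] [[526], [528], [530]] zts382) = true := by decide +kernel
theorem zm386 : bnd (leB D (mapL Prod.fst zps385) [[118], [484], [486], [488], [492]]) (leB D (mapL Prod.snd zps385) [[116], [492], [122], [508], [510]]) = true := by decide +kernel
theorem zr387 : chk (zp [] [[534], [536], [538]] (mapL comW zps385)) = true := by decide +kernel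
theorem zm389 : leB D zts388 [[534], [536], [538]] = true := by decide +kernel
theorem zr390 : chk (zp [] [[526], [528], [530]] zts388) = true := by decide +kernel
theorem zm392 : leB D zts391 [[526], [528], [530]] = true := by decide +kernel
theorem zr393 : chk (zp [] (comWs [[118], [484], [486], [488], [492]] [[116], [492], [122], [508], [510]]) zts391) = true := by decide +kernel
theorem zm395 : nrmB D [[116], [492], [122], [508], [510]] [[526], [528], [530]] zcj394 = true := by decide +kernel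
theorem zr396 : chk (nrmR [[116], [492], [122], [508], [510]] [[526], [528], [530]] zcj394) = true := by decide +kernel
theorem zm398 : nrmB D [[118], [484], [486], [488], [492]] [[526], [528], [530]] zcj397 = true := by decide +kernel
theorem zr399 : chk (nrmR [[118], [484], [486], [488], [492]] [[526], [528], [530]] zcj397) = true := by decide +kernel
theorem zr400 : chk (pcsR O2_ps []) = true := by decide +kernel
theorem zb401 : bnd (pcsB D O2_ps []) (leB (app D []) [[544], [546], [548], [550]] (pcGens O2_ps [])) = true := by decide +kernel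
theorem zc402 : P.chainB ns D O2_vs [[544], [546], [548], [550]] = true := by decide +kernel
theorem zr404 : chk (pcsR cQ_P_ps []) = true := by decide +kernel
theorem zr405 : chk (defRels zE403) = true := by decide +kernel
theorem zb406 : bnd (pcsB D cQ_P_ps []) (leB (app D zE403) [[544], [546], [548], [550], [570]] (pcGens cQ_P_ps [])) = true := by decide +kernel
theorem zc407 : P.chainB ns D cQ_P_vs [[544], [546], [548], [550], [570]] = true := by decide +kernel
theorem zc408 : P.chainB ns D cQ_sG_vs [[544], [546], [548], [550], [570]] = true := by decide +kernel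
theorem zs409 : ssB P.N ns D (mkS P.n cQ_sG_vs cQ_s_x) [[544], [546], [548], [550], [570]] = true := by decide +kernel
theorem zr411 : chk (defRels zE410) = true := by decide +kernel
theorem zs413 : cQ_s_G.chk zt412 cQ_s_s none = true := by decide +kernel
theorem zm414 : bnd (allL (invB P.N ns [[544], [546], [548], [550]]) cQ_s_ms) (leB D [[544], [546], [548], [550]] [[544], [546], [548], [550], [570]]) = true := by decide +kernel
theorem zm416 : P.coreB ns D [[66], [68]] [[544], [546], [548], [550], [570]] zus415 cQ_s_ms = true := by decide +kernel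
theorem zm418 : leB D zts417 [[66], [68]] = true := by decide +kernel
theorem zr419 : chk (zp [] [[544], [546], [548], [550], [570]] zts417) = true := by decide +kernel
theorem zm421 : nrmB D [[66], [68]] [[544], [546], [548], [550]] zcj420 = true := by decide +kernel
theorem zr422 : chk (nrmR [[66], [68]] [[544], [546], [548], [550]] zcj420) = true := by decide +kernel
theorem zm424 : leB D zts423 [[66], [68]] = true := by decide +kernel
theorem zr425 : chk (zp [] [[544], [546], [548], [550]] zts423) = true := by decide +kernel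
theorem zc426 : P.chainB ns D E_vs [[604], [524], [606], [518]] = true := by decide +kernel
theorem zn427 : CL.RF2.MdA.nmB P ns [[544], [546], [548], [550]] [122] (nat_lit 0x20000000000000000) 65 = true := by decide +kernel
theorem zm428 : leB D [[122]] [[116], [492], [122], [508], [510]] = true := by decide +kernel
theorem zm430 : leB D zts429 [[544], [546], [548], [550]] = true := by decide +kernel
theorem zr431 : chk (zp [] [[604], [524], [606], [518]] zts429) = true := by decide +kernel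
theorem zm432 : leB D [[604], [524], [606], [518]] [[116], [492], [122], [508], [510]] = true := by decide +kernel
theorem zm433 : leB D [W (nat_lit 0x5f12c4d)] [[66], [68]] = true := by decide +kernel
theorem zr434 : chk [((app [6] [4]), [76, 74, 94])] = true := by decide +kernel
theorem zm435 : leB D [W (nat_lit 0x17c5d15c4b13443)] [[66], [68]] = true := by decide +kernel
theorem zr436 : chk [((app [2] [4]), (W (nat_lit 0x17c5d15c4b13443)))] = true := by decide +kernel
theorem zm437 : leB D [W (nat_lit 0x5d12c4d1404a)] [[66], [68]] = true := by decide +kernel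
theorem zr438 : chk [((app [0] [4]), (W (nat_lit 0x5d12c4d1404a)))] = true := by decide +kernel
theorem zr439 : chk (pcsR V_ps []) = true := by decide +kernel
theorem zb440 : bnd (pcsB D V_ps []) (leB (app D []) [[4], [118], [484], [486], [488], [492]] (pcGens V_ps [])) = true := by decide +kernel
theorem zc441 : P.chainB ns D V_vs [[4], [118], [484], [486], [488], [492]] = true := by decide +kernel
theorem zf447 : P.fixXB ns (diag [[118], [484], [486], [488], [492]]) cV_F = true := by decide +kernel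
theorem zc448 : P.chainB ns D cVG_vs [[0], [2], [4], [6]] = true := by decide +kernel
theorem zs449 : ssB P.N ns D (mkS P.n cVG_vs cV_x) [[0], [2], [4], [6]] = true := by decide +kernel
theorem zr451 : chk (defRels zE450) = true := by decide +kernel
theorem zs453 : cV_G.chk zt452 cV_s none = true := by decide +kernel
theorem zr454 : chk (comR [[4], [118], [484], [486], [488], [492]] (mapL Prod.snd (diag [[118], [484], [486], [488], [492]]))) = true := by decide +kernel
theorem zm455 : leB D [[4], [118], [484], [486], [488], [492]] [[0], [2], [4], [6]] = true := by decide +kernel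
theorem zf458 : P.fixXB ns (diag [[116], [492], [122], [508], [510]]) c3_F = true := by decide +kernel
theorem zc459 : P.chainB ns D c3G_vs [[66], [68]] = true := by decide +kernel
theorem zs460 : ssB P.N ns D (mkS P.n c3G_vs c3_x) [[66], [68]] = true := by decide +kernel
theorem zs462 : c3_G.chk zt461 c3_s none = true := by decide +kernel
theorem zr463 : chk (comR [[116], [492], [122], [508], [510]] (mapL Prod.snd (diag [[116], [492], [122], [508], [510]]))) = true := by decide +kernel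
theorem zm464 : leB D [[116], [492], [122], [508], [510]] [[66], [68]] = true := by decide +kernel
theorem zf466 : P.fixXB ns (diag [[66], [68]]) cZ_F = true := by decide +kernel
theorem zc467 : P.chainB ns D cZG_vs [[0], [2], [4], [6]] = true := by decide +kernel
theorem zs468 : ssB P.N ns D (mkS P.n cZG_vs cZ_x) [[0], [2], [4], [6]] = true := by decide +kernel
theorem zs470 : cZ_G.chk zt469 cZ_s none = true := by decide +kernel
theorem zr471 : chk (comR [[116]] (mapL Prod.snd (diag [[66], [68]]))) = true := by decide +kernel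
theorem zm472 : leB D [[116]] [[0], [2], [4], [6]] = true := by decide +kernel
theorem zr473 : chk (comR [[0], [2], [4], [6]] [[116]]) = true := by decide +kernel
theorem zr474 : chk (comR [[4]] [[118], [484], [486], [488], [492]]) = true := by decide +kernel
theorem zm476 : bnd (leB D (mapL Prod.fst zps475) [[240], [242], [244], [246]]) (leB D (mapL Prod.snd zps475) [[240], [242], [244], [246]]) = true := by decide +kernel
theorem zr477 : chk (zp [] [[622], [624], [626], [628]] (mapL comW zps475)) = true := by decide +kernel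
theorem zm479 : leB D zts478 [[622], [624], [626], [628]] = true := by decide +kernel
theorem zr480 : chk (zp [] (comWs [[240], [242], [244], [246]] [[240], [242], [244], [246]]) zts478) = true := by decide +kernel
theorem zm482 : nrmB D [[240], [242], [244], [246]] [[622], [624], [626], [628]] zcj481 = true := by decide +kernel
theorem zr483 : chk (nrmR [[240], [242], [244], [246]] [[622], [624], [626], [628]] zcj481) = true := by decide +kernel
theorem zm485 : nrmB D [[240], [242], [244], [246]] [[622], [624], [626], [628]] zcj484 = true := by decide +kernel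
theorem zr486 : chk (nrmR [[240], [242], [244], [246]] [[622], [624], [626], [628]] zcj484) = true := by decide +kernel
theorem zm487 : leB D [[622], [624], [626], [628]] [[0], [2], [4], [6]] = true := by decide +kernel
theorem zm489 : bnd (leB D (mapL Prod.fst zps488) [[622], [624], [626], [628]]) (leB D (mapL Prod.snd zps488) [[240], [242], [244], [246]]) = true := by decide +kernel
theorem zr490 : chk (zp [] [[638], [640], [642]] (mapL comW zps488)) = true := by decide +kernel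
theorem zm492 : leB D zts491 [[638], [640], [642]] = true := by decide +kernel
theorem zr493 : chk (zp [] (comWs [[622], [624], [626], [628]] [[240], [242], [244], [246]]) zts491) = true := by decide +kernel
theorem zm495 : nrmB D [[240], [242], [244], [246]] [[638], [640], [642]] zcj494 = true := by decide +kernel
theorem zr496 : chk (nrmR [[240], [242], [244], [246]] [[638], [640], [642]] zcj494) = true := by decide +kernel
theorem zm498 : nrmB D [[622], [624], [626], [628]] [[638], [640], [642]] zcj497 = true := by decide +kernel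
theorem zr499 : chk (nrmR [[622], [624], [626], [628]] [[638], [640], [642]] zcj497) = true := by decide +kernel
theorem zm500 : leB D [[638], [640], [642]] [[0], [2], [4], [6]] = true := by decide +kernel
theorem zm501 : leB D [[116]] [[0], [2], [4], [6]] = true := by decide +kernel
theorem zm503 : bnd (leB D (mapL Prod.fst zps502) [[638], [640], [642]]) (leB D (mapL Prod.snd zps502) [[240], [242], [244], [246]]) = true := by decide +kernel
theorem zr504 : chk (zp [] [[650]] (mapL comW zps502)) = true := by decide +kernel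
theorem zm506 : leB D zts505 [[650]] = true := by decide +kernel
theorem zr507 : chk (zp [] [[116]] zts505) = true := by decide +kernel
theorem zm509 : leB D zts508 [[116]] = true := by decide +kernel
theorem zr510 : chk (zp [] (comWs [[638], [640], [642]] [[240], [242], [244], [246]]) zts508) = true := by decide +kernel
theorem zm512 : nrmB D [[240], [242], [244], [246]] [[116]] zcj511 = true := by decide +kernel
theorem zr513 : chk (nrmR [[240], [242], [244], [246]] [[116]] zcj511) = true := by decide +kernel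
theorem zm515 : nrmB D [[638], [640], [642]] [[116]] zcj514 = true := by decide +kernel
theorem zr516 : chk (nrmR [[638], [640], [642]] [[116]] zcj514) = true := by decide +kernel
theorem zm518 : bnd (leB D (mapL Prod.fst zps517) [[300], [302], [304]]) (leB D (mapL Prod.snd zps517) [[300], [302], [304]]) = true := by decide +kernel
theorem zr519 : chk (zp [] [[652], [654], [656]] (mapL comW zps517)) = true := by decide +kernel
theorem zm521 : leB D zts520 [[652], [654], [656]] = true := by decide +kernel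
theorem zr522 : chk (zp [] (comWs [[300], [302], [304]] [[300], [302], [304]]) zts520) = true := by decide +kernel
theorem zm524 : nrmB D [[300], [302], [304]] [[652], [654], [656]] zcj523 = true := by decide +kernel
theorem zr525 : chk (nrmR [[300], [302], [304]] [[652], [654], [656]] zcj523) = true := by decide +kernel
theorem zm527 : nrmB D [[300], [302], [304]] [[652], [654], [656]] zcj526 = true := by decide +kernel
theorem zr528 : chk (nrmR [[300], [302], [304]] [[652], [654], [656]] zcj526) = true := by decide +kernel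
theorem zm529 : leB D [[652], [654], [656]] [[0], [2], [4], [6]] = true := by decide +kernel
theorem zm530 : leB D [[118]] [[0], [2], [4], [6]] = true := by decide +kernel
theorem zm532 : bnd (leB D (mapL Prod.fst zps531) [[652], [654], [656]]) (leB D (mapL Prod.snd zps531) [[300], [302], [304]]) = true := by decide +kernel
theorem zr533 : chk (zp [] [[660]] (mapL comW zps531)) = true := by decide +kernel
theorem zm535 : leB D zts534 [[660]] = true := by decide +kernel
theorem zr536 : chk (zp [] [[118]] zts534) = true := by decide +kernel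
theorem zm538 : leB D zts537 [[118]] = true := by decide +kernel
theorem zr539 : chk (zp [] (comWs [[652], [654], [656]] [[300], [302], [304]]) zts537) = true := by decide +kernel
theorem zm541 : nrmB D [[300], [302], [304]] [[118]] zcj540 = true := by decide +kernel
theorem zr542 : chk (nrmR [[300], [302], [304]] [[118]] zcj540) = true := by decide +kernel
theorem zm544 : nrmB D [[652], [654], [656]] [[118]] zcj543 = true := by decide +kernel
theorem zr545 : chk (nrmR [[652], [654], [656]] [[118]] zcj543) = true := by decide +kernel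
theorem zm547 : bnd (leB D (mapL Prod.fst zps546) [[370], [372], [374], [376], [378], [380], [382], [384]]) (leB D (mapL Prod.snd zps546) [[370], [372], [374], [376], [378], [380], [382], [384]]) = true := by decide +kernel
theorem zr548 : chk (zp [] [[662], [664], [666], [668]] (mapL comW zps546)) = true := by decide +kernel
theorem zm550 : leB D zts549 [[662], [664], [666], [668]] = true := by decide +kernel
theorem zr551 : chk (zp [] (comWs [[370], [372], [374], [376], [378], [380], [382], [384]] [[370], [372], [374], [376], [378], [380], [382], [384]]) zts549) = true := by decide +kernel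
theorem zm553 : nrmB D [[370], [372], [374], [376], [378], [380], [382], [384]] [[662], [664], [666], [668]] zcj552 = true := by decide +kernel
theorem zr554 : chk (nrmR [[370], [372], [374], [376], [378], [380], [382], [384]] [[662], [664], [666], [668]] zcj552) = true := by decide +kernel
theorem zm556 : nrmB D [[370], [372], [374], [376], [378], [380], [382], [384]] [[662], [664], [666], [668]] zcj555 = true := by decide +kernel
theorem zr557 : chk (nrmR [[370], [372], [374], [376], [378], [380], [382], [384]] [[662], [664], [666], [668]] zcj555) = true := by decide +kernel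
theorem zm558 : leB D [[662], [664], [666], [668]] [[0], [2], [4], [6]] = true := by decide +kernel
theorem zm559 : leB D [[120]] [[0], [2], [4], [6]] = true := by decide +kernel
theorem zm561 : bnd (leB D (mapL Prod.fst zps560) [[662], [664], [666], [668]]) (leB D (mapL Prod.snd zps560) [[370], [372], [374], [376], [378], [380], [382], [384]]) = true := by decide +kernel
theorem zr562 : chk (zp [] [[670]] (mapL comW zps560)) = true := by decide +kernel
theorem zm564 : leB D zts563 [[670]] = true := by decide +kernel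
theorem zr565 : chk (zp [] [[120]] zts563) = true := by decide +kernel
theorem zm567 : leB D zts566 [[120]] = true := by decide +kernel
theorem zr568 : chk (zp [] (comWs [[662], [664], [666], [668]] [[370], [372], [374], [376], [378], [380], [382], [384]]) zts566) = true := by decide +kernel
theorem zm570 : nrmB D [[370], [372], [374], [376], [378], [380], [382], [384]] [[120]] zcj569 = true := by decide +kernel
theorem zr571 : chk (nrmR [[370], [372], [374], [376], [378], [380], [382], [384]] [[120]] zcj569) = true := by decide +kernel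
theorem zm573 : nrmB D [[662], [664], [666], [668]] [[120]] zcj572 = true := by decide +kernel
theorem zr574 : chk (nrmR [[662], [664], [666], [668]] [[120]] zcj572) = true := by decide +kernel
theorem zm576 : bnd (leB D (mapL Prod.fst zps575) [[332], [334], [336]]) (leB D (mapL Prod.snd zps575) [[332], [334], [336]]) = true := by decide +kernel
theorem zr577 : chk (zp [] [[672], [674], [676]] (mapL comW zps575)) = true := by decide +kernel
theorem zm579 : leB D zts578 [[672], [674], [676]] = true := by decide +kernel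
theorem zr580 : chk (zp [] (comWs [[332], [334], [336]] [[332], [334], [336]]) zts578) = true := by decide +kernel
theorem zm582 : nrmB D [[332], [334], [336]] [[672], [674], [676]] zcj581 = true := by decide +kernel
theorem zr583 : chk (nrmR [[332], [334], [336]] [[672], [674], [676]] zcj581) = true := by decide +kernel
theorem zm585 : nrmB D [[332], [334], [336]] [[672], [674], [676]] zcj584 = true := by decide +kernel
theorem zr586 : chk (nrmR [[332], [334], [336]] [[672], [674], [676]] zcj584) = true := by decide +kernel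
theorem zm587 : leB D [[672], [674], [676]] [[0], [2], [4], [6]] = true := by decide +kernel
theorem zm588 : leB D [[116]] [[0], [2], [4], [6]] = true := by decide +kernel
theorem zm590 : bnd (leB D (mapL Prod.fst zps589) [[672], [674], [676]]) (leB D (mapL Prod.snd zps589) [[332], [334], [336]]) = true := by decide +kernel
theorem zr591 : chk (zp [] [[684]] (mapL comW zps589)) = true := by decide +kernel
theorem zm593 : leB D zts592 [[684]] = true := by decide +kernel
theorem zr594 : chk (zp [] [[116]] zts592) = true := by decide +kernel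
theorem zm596 : leB D zts595 [[116]] = true := by decide +kernel
theorem zr597 : chk (zp [] (comWs [[672], [674], [676]] [[332], [334], [336]]) zts595) = true := by decide +kernel
theorem zm599 : nrmB D [[332], [334], [336]] [[116]] zcj598 = true := by decide +kernel
theorem zr600 : chk (nrmR [[332], [334], [336]] [[116]] zcj598) = true := by decide +kernel
theorem zm602 : nrmB D [[672], [674], [676]] [[116]] zcj601 = true := by decide +kernel
theorem zr603 : chk (nrmR [[672], [674], [676]] [[116]] zcj601) = true := by decide +kernel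
theorem zc604 : P.chainB ns D Sy_vs [[686], [688], [690], [692], [694], [696], [698], [700], [702], [704], [706], [708]] = true := by decide +kernel
theorem zr605 : chk (pcsR Sy_ps []) = true := by decide +kernel
theorem zb606 : bnd (pcsB D Sy_ps []) (leB (app D []) [[686], [688], [690], [692], [694], [696], [698], [700], [702], [704], [706], [708]] (pcGens Sy_ps [])) = true := by decide +kernel
theorem zq607 : cvN 2 [686] [[]] v0_E = v0_R := by decide +kernel
theorem zr608 : chk (cvR 2 2 [686] [[]] v0_E) = true := by decide +kernel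
theorem zb609 : cvB D [[686], [688], [690], [692], [694], [696], [698], [700], [702], [704], [706], [708]] [[688], [690], [692], [694], [696], [698], [700], [702], [704], [706], [708]] 2 [686] [[]] v0_E = true := by decide +kernel
theorem zm611 : leB D zts610 [[0], [2], [4], [6]] = true := by decide +kernel
theorem zr612 : chk (zp [] [[686], [688], [690], [692], [694], [696], [698], [700], [702], [704], [706], [708]] zts610) = true := by decide +kernel
theorem zm614 : nrmB D [[686], [688], [690], [692], [694], [696], [698], [700], [702], [704], [706], [708]] [[688], [690], [692], [694], [696], [698], [700], [702], [704], [706], [708]] zcj613 = true := by decide +kernel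
theorem zr615 : chk (nrmR [[686], [688], [690], [692], [694], [696], [698], [700], [702], [704], [706], [708]] [[688], [690], [692], [694], [696], [698], [700], [702], [704], [706], [708]] zcj613) = true := by decide +kernel
theorem zm616 : leB D [[688], [690], [692], [694], [696], [698], [700], [702], [704], [706], [708]] [[686], [688], [690], [692], [694], [696], [698], [700], [702], [704], [706], [708]] = true := by decide +kernel
theorem zq617 : cvN 2 [688] v0_R v1_E = v1_R := by decide +kernel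
theorem zr618 : chk (cvR 2 2 [688] v0_R v1_E) = true := by decide +kernel
theorem zb619 : cvB D [[686], [688], [690], [692], [694], [696], [698], [700], [702], [704], [706], [708]] [[690], [692], [694], [696], [698], [700], [702], [704], [706], [708]] 2 [688] v0_R v1_E = true := by decide +kernel
theorem zm621 : nrmB D [[686], [688], [690], [692], [694], [696], [698], [700], [702], [704], [706], [708]] [[690], [692], [694], [696], [698], [700], [702], [704], [706], [708]] zcj620 = true := by decide +kernel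
theorem zr622 : chk (nrmR [[686], [688], [690], [692], [694], [696], [698], [700], [702], [704], [706], [708]] [[690], [692], [694], [696], [698], [700], [702], [704], [706], [708]] zcj620) = true := by decide +kernel
theorem zm623 : leB D [[690], [692], [694], [696], [698], [700], [702], [704], [706], [708]] [[686], [688], [690], [692], [694], [696], [698], [700], [702], [704], [706], [708]] = true := by decide +kernel
theorem zq624 : cvN 2 [690] v1_R v2_E = v2_R := by decide +kernel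
theorem zr625 : chk (cvR 2 2 [690] v1_R v2_E) = true := by decide +kernel
theorem zb626 : cvB D [[686], [688], [690], [692], [694], [696], [698], [700], [702], [704], [706], [708]] [[692], [694], [696], [698], [700], [702], [704], [706], [708]] 2 [690] v1_R v2_E = true := by decide +kernel
theorem zm628 : nrmB D [[686], [688], [690], [692], [694], [696], [698], [700], [702], [704], [706], [708]] [[692], [694], [696], [698], [700], [702], [704], [706], [708]] zcj627 = true := by decide +kernel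
theorem zr629 : chk (nrmR [[686], [688], [690], [692], [694], [696], [698], [700], [702], [704], [706], [708]] [[692], [694], [696], [698], [700], [702], [704], [706], [708]] zcj627) = true := by decide +kernel
theorem zm630 : leB D [[692], [694], [696], [698], [700], [702], [704], [706], [708]] [[686], [688], [690], [692], [694], [696], [698], [700], [702], [704], [706], [708]] = true := by decide +kernel
theorem zq631 : cvN 2 [692] v2_R v3_E = v3_R := by decide +kernel
theorem zr632 : chk (cvR 2 2 [692] v2_R v3_E) = true := by decide +kernel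
theorem zb633 : cvB D [[686], [688], [690], [692], [694], [696], [698], [700], [702], [704], [706], [708]] [[694], [696], [698], [700], [702], [704], [706], [708]] 2 [692] v2_R v3_E = true := by decide +kernel
theorem zm635 : nrmB D [[686], [688], [690], [692], [694], [696], [698], [700], [702], [704], [706], [708]] [[694], [696], [698], [700], [702], [704], [706], [708]] zcj634 = true := by decide +kernel
theorem zr636 : chk (nrmR [[686], [688], [690], [692], [694], [696], [698], [700], [702], [704], [706], [708]] [[694], [696], [698], [700], [702], [704], [706], [708]] zcj634) = true := by decide +kernel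
theorem zm637 : leB D [[694], [696], [698], [700], [702], [704], [706], [708]] [[686], [688], [690], [692], [694], [696], [698], [700], [702], [704], [706], [708]] = true := by decide +kernel
theorem zq638 : cvN 2 [694] v3_R v4_E = v4_R := by decide +kernel
theorem zr639 : chk (cvR 2 2 [694] v3_R v4_E) = true := by decide +kernel
theorem zb640 : cvB D [[686], [688], [690], [692], [694], [696], [698], [700], [702], [704], [706], [708]] [[696], [698], [700], [702], [704], [706], [708]] 2 [694] v3_R v4_E = true := by decide +kernel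
theorem zm642 : nrmB D [[686], [688], [690], [692], [694], [696], [698], [700], [702], [704], [706], [708]] [[696], [698], [700], [702], [704], [706], [708]] zcj641 = true := by decide +kernel
theorem zr643 : chk (nrmR [[686], [688], [690], [692], [694], [696], [698], [700], [702], [704], [706], [708]] [[696], [698], [700], [702], [704], [706], [708]] zcj641) = true := by decide +kernel
theorem zm644 : leB D [[696], [698], [700], [702], [704], [706], [708]] [[686], [688], [690], [692], [694], [696], [698], [700], [702], [704], [706], [708]] = true := by decide +kernel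
theorem zq645 : cvN 2 [696] v4_R v5_E = v5_R := by decide +kernel
theorem zr646 : chk (cvR 2 2 [696] v4_R v5_E) = true := by decide +kernel
theorem zb647 : cvB D [[686], [688], [690], [692], [694], [696], [698], [700], [702], [704], [706], [708]] [[698], [700], [702], [704], [706], [708]] 2 [696] v4_R v5_E = true := by decide +kernel
theorem zm649 : nrmB D [[686], [688], [690], [692], [694], [696], [698], [700], [702], [704], [706], [708]] [[698], [700], [702], [704], [706], [708]] zcj648 = true := by decide +kernel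
theorem zr650 : chk (nrmR [[686], [688], [690], [692], [694], [696], [698], [700], [702], [704], [706], [708]] [[698], [700], [702], [704], [706], [708]] zcj648) = true := by decide +kernel
theorem zm651 : leB D [[698], [700], [702], [704], [706], [708]] [[686], [688], [690], [692], [694], [696], [698], [700], [702], [704], [706], [708]] = true := by decide +kernel
theorem zq652 : cvN 2 [698] v5_R v6_E = v6_R := by decide +kernel
theorem zr653 : chk (cvR 2 2 [698] v5_R v6_E) = true := by decide +kernel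
theorem zb654 : cvB D [[686], [688], [690], [692], [694], [696], [698], [700], [702], [704], [706], [708]] [[700], [702], [704], [706], [708]] 2 [698] v5_R v6_E = true := by decide +kernel
theorem zm656 : nrmB D [[686], [688], [690], [692], [694], [696], [698], [700], [702], [704], [706], [708]] [[700], [702], [704], [706], [708]] zcj655 = true := by decide +kernel
theorem zr657 : chk (nrmR [[686], [688], [690], [692], [694], [696], [698], [700], [702], [704], [706], [708]] [[700], [702], [704], [706], [708]] zcj655) = true := by decide +kernel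
theorem zm658 : leB D [[700], [702], [704], [706], [708]] [[686], [688], [690], [692], [694], [696], [698], [700], [702], [704], [706], [708]] = true := by decide +kernel
theorem zq659 : cvN 2 [700] v6_R v7_E = v7_R := by decide +kernel
theorem zr660 : chk (cvR 2 2 [700] v6_R v7_E) = true := by decide +kernel
theorem zb661 : cvB D [[686], [688], [690], [692], [694], [696], [698], [700], [702], [704], [706], [708]] [[702], [704], [706], [708]] 2 [700] v6_R v7_E = true := by decide +kernel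
theorem zm663 : nrmB D [[686], [688], [690], [692], [694], [696], [698], [700], [702], [704], [706], [708]] [[702], [704], [706], [708]] zcj662 = true := by decide +kernel
theorem zr664 : chk (nrmR [[686], [688], [690], [692], [694], [696], [698], [700], [702], [704], [706], [708]] [[702], [704], [706], [708]] zcj662) = true := by decide +kernel
theorem zm665 : leB D [[702], [704], [706], [708]] [[686], [688], [690], [692], [694], [696], [698], [700], [702], [704], [706], [708]] = true := by decide +kernel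
theorem zq666 : cvN 2 [702] v7_R v8_E = v8_R := by decide +kernel
theorem zr667 : chk (cvR 2 2 [702] v7_R v8_E) = true := by decide +kernel
theorem zb668 : cvB D [[686], [688], [690], [692], [694], [696], [698], [700], [702], [704], [706], [708]] [[704], [706], [708]] 2 [702] v7_R v8_E = true := by decide +kernel
theorem zm670 : nrmB D [[686], [688], [690], [692], [694], [696], [698], [700], [702], [704], [706], [708]] [[704], [706], [708]] zcj669 = true := by decide +kernel
theorem zr671 : chk (nrmR [[686], [688], [690], [692], [694], [696], [698], [700], [702], [704], [706], [708]] [[704], [706], [708]] zcj669) = true := by decide +kernel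
theorem zm672 : leB D [[704], [706], [708]] [[686], [688], [690], [692], [694], [696], [698], [700], [702], [704], [706], [708]] = true := by decide +kernel
theorem zq673 : cvN 2 [704] v8_R v9_E = v9_R := by decide +kernel
theorem zr674 : chk (cvR 2 2 [704] v8_R v9_E) = true := by decide +kernel
theorem zb675 : cvB D [[686], [688], [690], [692], [694], [696], [698], [700], [702], [704], [706], [708]] [[706], [708]] 2 [704] v8_R v9_E = true := by decide +kernel
theorem zm677 : nrmB D [[686], [688], [690], [692], [694], [696], [698], [700], [702], [704], [706], [708]] [[706], [708]] zcj676 = true := by decide +kernel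
theorem zr678 : chk (nrmR [[686], [688], [690], [692], [694], [696], [698], [700], [702], [704], [706], [708]] [[706], [708]] zcj676) = true := by decide +kernel
theorem zm679 : leB D [[706], [708]] [[686], [688], [690], [692], [694], [696], [698], [700], [702], [704], [706], [708]] = true := by decide +kernel
theorem zq680 : cvN 2 [706] v9_R v10_E = v10_R := by decide +kernel
theorem zr681 : chk (cvR 2 2 [706] v9_R v10_E) = true := by decide +kernel
theorem zb682 : cvB D [[686], [688], [690], [692], [694], [696], [698], [700], [702], [704], [706], [708]] [[708]] 2 [706] v9_R v10_E = true := by decide +kernel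
theorem zm684 : nrmB D [[686], [688], [690], [692], [694], [696], [698], [700], [702], [704], [706], [708]] [[708]] zcj683 = true := by decide +kernel
theorem zr685 : chk (nrmR [[686], [688], [690], [692], [694], [696], [698], [700], [702], [704], [706], [708]] [[708]] zcj683) = true := by decide +kernel
theorem zm686 : leB D [[708]] [[686], [688], [690], [692], [694], [696], [698], [700], [702], [704], [706], [708]] = true := by decide +kernel
theorem zq687 : cvN 2 [708] v10_R v11_E = v11_R := by decide +kernel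
theorem zr688 : chk (cvR 2 2 [708] v10_R v11_E) = true := by decide +kernel
theorem zb689 : cvB D [[686], [688], [690], [692], [694], [696], [698], [700], [702], [704], [706], [708]] [] 2 [708] v10_R v11_E = true := by decide +kernel
theorem zr690 : chk (fuR v11_R v12_R v12_F) = true := by decide +kernel
theorem zb691 : fuB D [[0], [2], [4], [6]] [] v11_R v12_R v12_F = true := by decide +kernel
theorem zm692 : leB D [[0], [2], [4], [6]] [[0], [2], [4], [6]] = true := by decide +kernel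
theorem zr693 : chk [([736], (app [122] [116]))] = true := by decide +kernel
theorem zm694 : leB D [[686], [688], [690], [692], [694], [696], [698], [700], [702], [704], [706], [708]] [[0], [2], [4], [6]] = true := by decide +kernel
theorem zm695 : leB D [[116]] [[66], [68]] = true := by decide +kernel
theorem zm696 : leB D [[118]] [[66], [68]] = true := by decide +kernel
theorem zm697 : leB D [[120]] [[66], [68]] = true := by decide +kernel
theorem zm698 : leB D [[122]] [[66], [68]] = true := by decide +kernel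
theorem zr699 : chk [((app [118] [118]), [])] = true := by decide +kernel
theorem zn700 : movB P.n P.N ns (app [118] (invW [116])) 0 = true := by decide +kernel
theorem zr701 : chk [((app [118] [120]), (app [120] [118]))] = true := by decide +kernel
theorem zr702 : chk [((app [118] [122]), (app [122] [118]))] = true := by decide +kernel
theorem zn703 : movB P.n P.N ns (app (app [122] [120]) (invW (app [120] [122]))) 2 = true := by decide +kernel
theorem zr704 : chk [((app (app (W (nat_lit 0x5b12c4e1444a)) [118]) (invW (W (nat_lit 0x5b12c4e1444a)))), (app [116] [118]))] = true := by decide +kernel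
theorem zm705 : leB D [W (nat_lit 0x5b12c4e1444a)] [[66], [68]] = true := by decide +kernel
theorem zr706 : chk [((app (app (W (nat_lit 0x16c5d1444d10c43)) [118]) (invW (W (nat_lit 0x16c5d1444d10c43)))), [120])] = true := by decide +kernel
theorem zm707 : leB D [W (nat_lit 0x16c5d1444d10c43)] [[66], [68]] = true := by decide +kernel
theorem zm708 : leB D [[118], [484], [486], [488], [492]] [[66], [68]] = true := by decide +kernel
theorem zm709 : leB D [[124]] [[66], [68]] = true := by decide +kernel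
theorem zm710 : leB D [[126]] [[66], [68]] = true := by decide +kernel
theorem zm711 : leB D [[128]] [[66], [68]] = true := by decide +kernel
theorem zm712 : leB D [[0]] [[0], [2], [4], [6]] = true := by decide +kernel
theorem zm713 : leB D [[4]] [[0], [2], [4], [6]] = true := by decide +kernel
theorem zm714 : leB D [[6]] [[0], [2], [4], [6]] = true := by decide +kernel
theorem zm715 : leB D [W (nat_lit 0x5d12c4d1404a)] [[66], [68]] = true := by decide +kernel
theorem zr716 : chk [((app [0] [4]), (W (nat_lit 0x5d12c4d1404a)))] = true := by decide +kernel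
theorem zm717 : leB D [W (nat_lit 0x5f12c4d)] [[66], [68]] = true := by decide +kernel
theorem zr718 : chk [((app [6] [4]), [76, 74, 94])] = true := by decide +kernel
theorem zr720 : chk (pcsR gya_ps []) = true := by decide +kernel
theorem zr721 : chk (defRels zE719) = true := by decide +kernel
theorem zb722 : bnd (pcsB D gya_ps []) (leB (app D zE719) [[652], [654], [656]] (pcGens gya_ps [])) = true := by decide +kernel
theorem zc723 : P.chainB ns D gyax_vs [[116], [652], [654], [656]] = true := by decide +kernel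
theorem zm724 : leB D [W (nat_lit 0x29ba5e9d)] [[662], [664], [666], [668]] = true := by decide +kernel
theorem zr725 : chk [([126], [668, 662, 666])] = true := by decide +kernel
theorem zr727 : chk (pcsR g0a_ps []) = true := by decide +kernel
theorem zr728 : chk (defRels zE726) = true := by decide +kernel
theorem zb729 : bnd (pcsB D g0a_ps []) (leB (app D zE726) [[672], [674], [676]] (pcGens g0a_ps [])) = true := by decide +kernel
theorem zc730 : P.chainB ns D g0ax_vs [[120], [672], [674], [676]] = true := by decide +kernel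
theorem zr731 : chk [((app (app (W (nat_lit 0xac270840f06009)) [122]) (invW (W (nat_lit 0xac270840f06009)))), (app [122] [118]))] = true := by decide +kernel
theorem zm732 : leB D [W (nat_lit 0xac270840f06009)] [[0], [2], [4], [6]] = true := by decide +kernel
theorem zr733 : chk [((app (app [20, 18, 16, 32] [126]) (invW [20, 18, 16, 32])), (app [126] [120]))] = true := by decide +kernel
theorem zm734 : leB D [W (nat_lit 0x841104c15)] [[0], [2], [4], [6]] = true := by decide +kernel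
theorem zr735 : chk [((app (app (W (nat_lit 0xac270441402403)) (app [120] [118])) (invW (W (nat_lit 0xac270441402403)))), [124])] = true := by decide +kernel
theorem zm736 : leB D [W (nat_lit 0xac270441402403)] [[0], [2], [4], [6]] = true := by decide +kernel
theorem zr737 : chk [((app [0] [0]), [122])] = true := by decide +kernel
theorem zr738 : chk [((app [4] [4]), [116])] = true := by decide +kernel
theorem zr739 : chk [((app [6] [6]), [120])] = true := by decide +kernel
theorem zr740 : chk [((app [0] [118]), (app [118] [0]))] = true := by decide +kernel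
theorem zr741 : chk [((app [6] [118]), (app [118] [6]))] = true := by decide +kernel
theorem zr742 : chk [((app [4] [122]), (app [122] [4]))] = true := by decide +kernel
theorem zr743 : chk [((app (app [128] [0]) (invW [128])), [2])] = true := by decide +kernel
theorem zm745 : leB D zts744 [[0], [4], [6]] = true := by decide +kernel
theorem zr746 : chk (zp [] [[300], [302], [304]] zts744) = true := by decide +kernel
theorem zr747 : chk [((powW [128] 5), [])] = true := by decide +kernel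
theorem zn748 : movB P.n P.N ns (app [128] (invW [])) 2 = true := by decide +kernel
theorem zr749 : chk [((app (app [0] [128]) (invW [0])), (powW [128] 2))] = true := by decide +kernel
theorem zc750 : P.chainB ns D C2_vs [[758], [760], [762], [764]] = true := by decide +kernel
theorem zm751 : leB D [[758], [760], [762], [764]] [[0], [2], [4], [6]] = true := by decide +kernel
theorem zr752 : chk [((subs [[758], [760], [762], [764]] [4, 4]), [116])] = true := by decide +kernel
theorem zr753 : chk [((subs [[0], [2], [4], [6]] [4, 4]), [116])] = true := by decide +kernel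
theorem zr754 : chk [((subs [[758], [760], [762], [764]] [2, 2, 6, 6, 2, 2]), [118])] = true := by decide +kernel
theorem zr755 : chk [((subs [[0], [2], [4], [6]] [2, 2, 6, 6, 2, 2]), [118])] = true := by decide +kernel
theorem zr756 : chk [((subs [[758], [760], [762], [764]] [6, 6]), [120])] = true := by decide +kernel
theorem zr757 : chk [((subs [[0], [2], [4], [6]] [6, 6]), [120])] = true := by decide +kernel
theorem zr758 : chk [((subs [[758], [760], [762], [764]] [0, 0]), (app [122] [116]))] = true := by decide +kernel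
theorem zr759 : chk [((subs [[0], [2], [4], [6]] [0, 0]), [122])] = true := by decide +kernel
theorem zr760 : chk [((subs [[0], [2], [4], [6]] [4, 4]), [116])] = true := by decide +kernel
theorem zk761 : allL (keepB P.n P.N) ns0 = true := by decide +kernel
theorem ze762 : extB ns0 ns 4 ws [] = true := by decide +kernel
theorem zn763 : P.netsB ns (mkDefs ws 4) = true := by decide +kernel

section
variable {G X : Type*} [Group G] [MulAction G X] {e : ℕ → X} {gs : List G}

theorem keep0 : allL (keepB P.n P.N) ns0 = true := zk761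

theorem len {k} (c : Ctx P e gs ns0 [] k) : gs.length = 4 := c.len ze762

theorem ctx0 {k} (c : Ctx P e gs ns0 [] k) : Ctx P e (ext gs ws) ns D chk0 :=
  c.ext rfl ze762 zn763

theorem ctx {k} (c : Ctx P e gs ns0 [] k) {H : Subgroup G} (hF : Faithful e P.n H) (hH : ∀ g ∈ gs, g ∈ H) :
    Ctx P e (ext gs ws) ns D chk :=
  (ctx0 c).withB hF (mem_of_mem_ext hH _)

open CL.RF2.MdA

instance instNe : NeZero P.n := ⟨by decide⟩
noncomputable def gs0 : List (Equiv.Perm (Fin P.n)) := permsOf P.n P.N ns0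
noncomputable def gs1 : List (Equiv.Perm (Fin P.n)) := ext gs0 ws
theorem c1 : Ctx P (eF P.n) gs1 ns D chk :=
  ctx (ctx_permsOf hP keep0) (faithful_eF _) fun _ _ => trivial

theorem C_pr (c : Ctx P e gs ns D chk) :
    Rels gs (pcsR C_ps []) :=
  (c.rels _ zr1)

theorem C_pe (c : Ctx P e gs ns D chk) :
    Rels gs (defRels zE0) :=
  (c.rels _ zr2)

theorem C_pb : bnd (pcsB D C_ps []) (leB (app D zE0) [[0], [2], [4], [6]] (pcGens C_ps [])) = true := zb3

theorem C_ub (c : Ctx P e gs ns D chk) :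
    UB (subW gs [[0], [2], [4], [6]]) 20480 :=
  c.pcs (UB.nil gs) (C_pe c) (C_pr c) C_pb (by decide +kernel)

theorem C_c : P.chainB ns D C_vs [[0], [2], [4], [6]] = true :=
  zc4

theorem C_o : prodL C_vs 1 = 20480 := by decide +kernel

theorem C_lb (c : Ctx P e gs ns D chk) :
    LB (subW gs [[0], [2], [4], [6]]) 20480 :=
  c.lb C_c C_o

theorem C_card (c : Ctx P e gs ns D chk) :
    Nat.card (subW gs [[0], [2], [4], [6]]) = 20480 :=
  (C_ub c).card_eq (C_lb c)

theorem C0_pr (c : Ctx P e gs ns D chk) :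
    Rels gs (pcsR C0_ps []) :=
  (c.rels _ zr6)

theorem C0_pe (c : Ctx P e gs ns D chk) :
    Rels gs (defRels zE5) :=
  (c.rels _ zr7)

theorem C0_pb : bnd (pcsB D C0_ps []) (leB (app D zE5) [[66], [68]] (pcGens C0_ps [])) = true := zb8

theorem C0_ub (c : Ctx P e gs ns D chk) :
    UB (subW gs [[66], [68]]) 10240 :=
  c.pcs (UB.nil gs) (C0_pe c) (C0_pr c) C0_pb (by decide +kernel)

theorem C0_c : P.chainB ns D C0_vs [[66], [68]] = true :=
  zc9

theorem C0_o : prodL C0_vs 1 = 10240 := by decide +kernel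

theorem C0_lb (c : Ctx P e gs ns D chk) :
    LB (subW gs [[66], [68]]) 10240 :=
  c.lb C0_c C0_o

theorem C0_card (c : Ctx P e gs ns D chk) :
    Nat.card (subW gs [[66], [68]]) = 10240 :=
  (C0_ub c).card_eq (C0_lb c)

noncomputable def Dm (gs : List G) : Dt G where
  z := (wordG gs [116])
  q := (wordG gs [118])
  r := (wordG gs [120])
  y := (wordG gs [122])
  C0 := (subW gs [[66], [68]])
  u4 := (wordG gs [124])
  u8 := (wordG gs [126])
  x1 := (wordG gs [0])
  x5 := (wordG gs [4])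
  x7 := (wordG gs [6])
  f := (wordG gs [128])
  C := (subW gs [[0], [2], [4], [6]])

theorem le0 (c : Ctx P e gs ns D chk) :
    (subW gs [[66], [68]]) ≤ (subW gs [[0], [2], [4], [6]]) :=
  (c.le zm10)

theorem e0 (c : Ctx P e gs ns D chk) :
    ((wordG gs [116]) * (wordG gs [116])) = (1 : G) :=
  by simpa only [wordG_app, wordG_invW, wordG_powW, wordG_nil] using c.eq zr11

theorem e1 (c : Ctx P e gs ns D chk) :
    (wordG gs [116]) ≠ (1 : G) :=
  ne' (by simpa only [wordG_app, wordG_invW, wordG_powW, wordG_nil] using c.ne_one zn12)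

theorem e2 (c : Ctx P e gs ns D chk) :
    (wordG gs [118]) ≠ (1 : G) :=
  ne' (by simpa only [wordG_app, wordG_invW, wordG_powW, wordG_nil] using c.ne_one zn13)

theorem e3 (c : Ctx P e gs ns D chk) :
    ((wordG gs [122]) * (wordG gs [122])) = (1 : G) :=
  by simpa only [wordG_app, wordG_invW, wordG_powW, wordG_nil] using c.eq zr14

theorem Kq_pr (c : Ctx P e gs ns D chk) :
    Rels gs (pcsR Kq_ps []) :=
  (c.rels _ zr16)

theorem Kq_pe (c : Ctx P e gs ns D chk) :
    Rels gs (defRels zE15) :=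
  (c.rels _ zr17)

theorem Kq_pb : bnd (pcsB D Kq_ps []) (leB (app D zE15) [[0], [4], [6]] (pcGens Kq_ps [])) = true := zb18

theorem Kq_ub (c : Ctx P e gs ns D chk) :
    UB (subW gs [[0], [4], [6]]) 2048 :=
  c.pcs (UB.nil gs) (Kq_pe c) (Kq_pr c) Kq_pb (by decide +kernel)

theorem Kq_c : P.chainB ns D Kq_vs [[0], [4], [6]] = true :=
  zc19

theorem Kq_o : prodL Kq_vs 1 = 2048 := by decide +kernel

theorem Kq_lb (c : Ctx P e gs ns D chk) :
    LB (subW gs [[0], [4], [6]]) 2048 :=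
  c.lb Kq_c Kq_o

theorem Kq_card (c : Ctx P e gs ns D chk) :
    Nat.card (subW gs [[0], [4], [6]]) = 2048 :=
  (Kq_ub c).card_eq (Kq_lb c)

theorem cKqG_c : P.chainB ns D cKqG_vs [[0], [2], [4], [6]] = true :=
  zc22

theorem cKqG_o : prodL cKqG_vs 1 = 20480 := by decide +kernel

theorem cKq (c : Ctx P e gs ns D chk) :
    (subW gs [[0], [2], [4], [6]]) ⊓ Subgroup.centralizer (subW gs [[118]] : Set G) = (subW gs [[0], [4], [6]]) :=
  c.cent (lx := [[118]]) (c.rels _ zr25) (c.sOk (c.exact cKqG_c cKqG_o (C_ub c)) zs23) (fun _ h => by cases h)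
    (c.fixX zf21) (c.rels _ zr28) zm29 zs27

theorem K0_pr (c : Ctx P e gs ns D chk) :
    Rels gs (pcsR K0_ps []) :=
  (c.rels _ zr31)

theorem K0_pe (c : Ctx P e gs ns D chk) :
    Rels gs (defRels zE30) :=
  (c.rels _ zr32)

theorem K0_pb : bnd (pcsB D K0_ps []) (leB (app D zE30) [[184], [186]] (pcGens K0_ps [])) = true := zb33

theorem K0_ub (c : Ctx P e gs ns D chk) :
    UB (subW gs [[184], [186]]) 1024 :=
  c.pcs (UB.nil gs) (K0_pe c) (K0_pr c) K0_pb (by decide +kernel)

theorem K0_c : P.chainB ns D K0_vs [[184], [186]] = true :=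
  zc34

theorem K0_o : prodL K0_vs 1 = 1024 := by decide +kernel

theorem K0_lb (c : Ctx P e gs ns D chk) :
    LB (subW gs [[184], [186]]) 1024 :=
  c.lb K0_c K0_o

theorem K0_card (c : Ctx P e gs ns D chk) :
    Nat.card (subW gs [[184], [186]]) = 1024 :=
  (K0_ub c).card_eq (K0_lb c)

theorem cK0G_c : P.chainB ns D cK0G_vs [[66], [68]] = true :=
  zc37

theorem cK0G_o : prodL cK0G_vs 1 = 10240 := by decide +kernel

theorem cK0 (c : Ctx P e gs ns D chk) :
    (subW gs [[66], [68]]) ⊓ Subgroup.centralizer (subW gs [[118]] : Set G) = (subW gs [[184], [186]]) :=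
  c.cent (lx := [[118]]) (c.rels _ zr40) (c.sOk (c.exact cK0G_c cK0G_o (C0_ub c)) zs38) (fun _ h => by cases h)
    (c.fixX zf36) (c.rels _ zr43) zm44 zs42

theorem K4_pr (c : Ctx P e gs ns D chk) :
    Rels gs (pcsR K4_ps []) :=
  (c.rels _ zr46)

theorem K4_pe (c : Ctx P e gs ns D chk) :
    Rels gs (defRels zE45) :=
  (c.rels _ zr47)

theorem K4_pb : bnd (pcsB D K4_ps []) (leB (app D zE45) [[240], [242], [244], [246]] (pcGens K4_ps [])) = true := zb48

theorem K4_ub (c : Ctx P e gs ns D chk) :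
    UB (subW gs [[240], [242], [244], [246]]) 1024 :=
  c.pcs (UB.nil gs) (K4_pe c) (K4_pr c) K4_pb (by decide +kernel)

theorem K4_c : P.chainB ns D K4_vs [[240], [242], [244], [246]] = true :=
  zc49

theorem K4_o : prodL K4_vs 1 = 1024 := by decide +kernel

theorem K4_lb (c : Ctx P e gs ns D chk) :
    LB (subW gs [[240], [242], [244], [246]]) 1024 :=
  c.lb K4_c K4_o

theorem K4_card (c : Ctx P e gs ns D chk) :
    Nat.card (subW gs [[240], [242], [244], [246]]) = 1024 :=
  (K4_ub c).card_eq (K4_lb c)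

theorem cK4G_c : P.chainB ns D cK4G_vs [[0], [2], [4], [6]] = true :=
  zc52

theorem cK4G_o : prodL cK4G_vs 1 = 20480 := by decide +kernel

theorem cK4 (c : Ctx P e gs ns D chk) :
    (subW gs [[0], [2], [4], [6]]) ⊓ Subgroup.centralizer (subW gs [[124]] : Set G) = (subW gs [[240], [242], [244], [246]]) :=
  c.cent (lx := [[124]]) (c.rels _ zr55) (c.sOk (c.exact cK4G_c cK4G_o (C_ub c)) zs53) (fun _ h => by cases h)
    (c.fixX zf51) (c.rels _ zr58) zm59 zs57

theorem Ky_pr (c : Ctx P e gs ns D chk) :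
    Rels gs (pcsR Ky_ps []) :=
  (c.rels _ zr61)

theorem Ky_pe (c : Ctx P e gs ns D chk) :
    Rels gs (defRels zE60) :=
  (c.rels _ zr62)

theorem Ky_pb : bnd (pcsB D Ky_ps []) (leB (app D zE60) [[300], [302], [304]] (pcGens Ky_ps [])) = true := zb63

theorem Ky_ub (c : Ctx P e gs ns D chk) :
    UB (subW gs [[300], [302], [304]]) 256 :=
  c.pcs (UB.nil gs) (Ky_pe c) (Ky_pr c) Ky_pb (by decide +kernel)

theorem Ky_c : P.chainB ns D Ky_vs [[300], [302], [304]] = true :=
  zc64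

theorem Ky_o : prodL Ky_vs 1 = 256 := by decide +kernel

theorem Ky_lb (c : Ctx P e gs ns D chk) :
    LB (subW gs [[300], [302], [304]]) 256 :=
  c.lb Ky_c Ky_o

theorem Ky_card (c : Ctx P e gs ns D chk) :
    Nat.card (subW gs [[300], [302], [304]]) = 256 :=
  (Ky_ub c).card_eq (Ky_lb c)

theorem cKyG_c : P.chainB ns D cKyG_vs [[0], [2], [4], [6]] = true :=
  zc67

theorem cKyG_o : prodL cKyG_vs 1 = 20480 := by decide +kernel

theorem cKy (c : Ctx P e gs ns D chk) :
    (subW gs [[0], [2], [4], [6]]) ⊓ Subgroup.centralizer (subW gs [[122]] : Set G) = (subW gs [[300], [302], [304]]) :=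
  c.cent (lx := [[122]]) (Rels.nil _) (c.sOk (c.exact cKyG_c cKyG_o (C_ub c)) zs68) (fun _ h => by cases h)
    (c.fixX zf66) (c.rels _ zr71) zm72 zs70

theorem A0_pr (c : Ctx P e gs ns D chk) :
    Rels gs (pcsR A0_ps []) :=
  (c.rels _ zr73)

theorem A0_pe (c : Ctx P e gs ns D chk) :
    Rels gs (defRels []) :=
  (Rels.nil _)

theorem A0_pb : bnd (pcsB D A0_ps []) (leB (app D []) [[332], [334], [336]] (pcGens A0_ps [])) = true := zb74

theorem A0_ub (c : Ctx P e gs ns D chk) :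
    UB (subW gs [[332], [334], [336]]) 256 :=
  c.pcs (UB.nil gs) (A0_pe c) (A0_pr c) A0_pb (by decide +kernel)

theorem A0_c : P.chainB ns D A0_vs [[332], [334], [336]] = true :=
  zc75

theorem A0_o : prodL A0_vs 1 = 256 := by decide +kernel

theorem A0_lb (c : Ctx P e gs ns D chk) :
    LB (subW gs [[332], [334], [336]]) 256 :=
  c.lb A0_c A0_o

theorem A0_card (c : Ctx P e gs ns D chk) :
    Nat.card (subW gs [[332], [334], [336]]) = 256 :=
  (A0_ub c).card_eq (A0_lb c)

theorem cA0G_c : P.chainB ns D cA0G_vs [[0], [4], [6]] = true :=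
  zc78

theorem cA0G_o : prodL cA0G_vs 1 = 2048 := by decide +kernel

theorem cA0 (c : Ctx P e gs ns D chk) :
    (subW gs [[0], [4], [6]]) ⊓ Subgroup.centralizer (subW gs [[120]] : Set G) = (subW gs [[332], [334], [336]]) :=
  c.cent (lx := [[120]]) (c.rels _ zr81) (c.sOk (c.exact cA0G_c cA0G_o (Kq_ub c)) zs79) (fun _ h => by cases h)
    (c.fixX zf77) (c.rels _ zr84) zm85 zs83

theorem cK8G_c : P.chainB ns D cK8G_vs [[0], [2], [4], [6]] = true :=
  zc87

theorem cK8G_o : prodL cK8G_vs 1 = 20480 := by decide +kernel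

theorem cK8 (c : Ctx P e gs ns D chk) :
    (subW gs [[0], [2], [4], [6]]) ⊓ Subgroup.centralizer (subW gs [[126]] : Set G) = (subW gs [[370], [372], [374], [376], [378], [380], [382], [384]]) :=
  c.cent (lx := [[126]]) (Rels.nil _) (c.sOk (c.exact cK8G_c cK8G_o (C_ub c)) zs88) (fun _ h => by cases h)
    (c.fixX zf86) (c.rels _ zr91) zm92 zs90

theorem K8_c : P.chainB ns D K8_vs [[370], [372], [374], [376], [378], [380], [382], [384]] = true :=
  zc93

theorem K8_o : prodL K8_vs 1 = 256 := by decide +kernel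

theorem K8_lb (c : Ctx P e gs ns D chk) :
    LB (subW gs [[370], [372], [374], [376], [378], [380], [382], [384]]) 256 :=
  c.lb K8_c K8_o

theorem K8_pr (c : Ctx P e gs ns D chk) :
    Rels gs (pcsR K8_ps []) :=
  (c.rels _ zr94)

theorem K8_pe (c : Ctx P e gs ns D chk) :
    Rels gs (defRels []) :=
  (Rels.nil _)

theorem K8_pb : bnd (pcsB D K8_ps []) (leB (app D []) [[370], [372], [374], [376], [378], [380], [382], [384]] (pcGens K8_ps [])) = true := zb95

theorem K8_ub (c : Ctx P e gs ns D chk) :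
    UB (subW gs [[370], [372], [374], [376], [378], [380], [382], [384]]) 256 :=
  c.pcs (UB.nil gs) (K8_pe c) (K8_pr c) K8_pb (by decide +kernel)

theorem K8_card (c : Ctx P e gs ns D chk) :
    Nat.card (subW gs [[370], [372], [374], [376], [378], [380], [382], [384]]) = 256 :=
  (K8_ub c).card_eq (K8_lb c)

theorem vK80 (c : Ctx P e gs ns D chk) :
    Cov 4 (subW gs [[370], [372], [374], [376], [378], [380], [382], [384]]) (subW gs [[370], [372], [374], [376], [378], [380], [382], [384]]) gs vK80_R (subW gs [[372], [374], [376], [378], [380], [382], [384]]) :=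
  Cov.step' (q := 2) (g := [370]) c.defs (by norm_num) (Cov.init 4 (subW gs [[370], [372], [374], [376], [378], [380], [382], [384]]) (subW gs [[370], [372], [374], [376], [378], [380], [382], [384]]) gs)
    (pc_lvl' c.defs (K8_pr c) K8_pb (K8_lb c) 0 (by decide +kernel))
    (c.le_normalizer (cj := zcj100) (((K8_ub c).mono (c.le zm103)).1) (c.rels _ zr102) zm101) (c.le zm99)
    (c.rels _ zr97) zb98 zq96

theorem vK81 (c : Ctx P e gs ns D chk) :
    Cov 4 (subW gs [[370], [372], [374], [376], [378], [380], [382], [384]]) (subW gs [[370], [372], [374], [376], [378], [380], [382], [384]]) gs vK81_R (subW gs [[374], [376], [378], [380], [382], [384]]) :=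
  Cov.step' (q := 2) (g := [372]) c.defs (by norm_num) (vK80 c)
    (pc_lvl' c.defs (K8_pr c) K8_pb (K8_lb c) 1 (by decide +kernel))
    (c.le_normalizer (cj := zcj108) (((K8_ub c).mono (c.le zm111)).1) (c.rels _ zr110) zm109) (c.le zm107)
    (c.rels _ zr105) zb106 zq104

theorem vK82 (c : Ctx P e gs ns D chk) :
    Cov 4 (subW gs [[370], [372], [374], [376], [378], [380], [382], [384]]) (subW gs [[370], [372], [374], [376], [378], [380], [382], [384]]) gs vK82_R (subW gs [[376], [378], [380], [382], [384]]) :=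
  Cov.step' (q := 2) (g := [374]) c.defs (by norm_num) (vK81 c)
    (pc_lvl' c.defs (K8_pr c) K8_pb (K8_lb c) 2 (by decide +kernel))
    (c.le_normalizer (cj := zcj116) (((K8_ub c).mono (c.le zm119)).1) (c.rels _ zr118) zm117) (c.le zm115)
    (c.rels _ zr113) zb114 zq112

theorem vK83 (c : Ctx P e gs ns D chk) :
    Cov 4 (subW gs [[370], [372], [374], [376], [378], [380], [382], [384]]) (subW gs [[370], [372], [374], [376], [378], [380], [382], [384]]) gs vK83_R (subW gs [[378], [380], [382], [384]]) :=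
  Cov.step' (q := 2) (g := [376]) c.defs (by norm_num) (vK82 c)
    (pc_lvl' c.defs (K8_pr c) K8_pb (K8_lb c) 3 (by decide +kernel))
    (c.le_normalizer (cj := zcj124) (((K8_ub c).mono (c.le zm127)).1) (c.rels _ zr126) zm125) (c.le zm123)
    (c.rels _ zr121) zb122 zq120

theorem vK84 (c : Ctx P e gs ns D chk) :
    Cov 4 (subW gs [[370], [372], [374], [376], [378], [380], [382], [384]]) (subW gs [[370], [372], [374], [376], [378], [380], [382], [384]]) gs vK84_R (subW gs [[380], [382], [384]]) :=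
  Cov.step' (q := 2) (g := [378]) c.defs (by norm_num) (vK83 c)
    (pc_lvl' c.defs (K8_pr c) K8_pb (K8_lb c) 4 (by decide +kernel))
    (c.le_normalizer (cj := zcj132) (((K8_ub c).mono (c.le zm135)).1) (c.rels _ zr134) zm133) (c.le zm131)
    (c.rels _ zr129) zb130 zq128

theorem vK85 (c : Ctx P e gs ns D chk) :
    Cov 4 (subW gs [[370], [372], [374], [376], [378], [380], [382], [384]]) (subW gs [[370], [372], [374], [376], [378], [380], [382], [384]]) gs vK85_R (subW gs [[382], [384]]) :=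
  Cov.step' (q := 2) (g := [380]) c.defs (by norm_num) (vK84 c)
    (pc_lvl' c.defs (K8_pr c) K8_pb (K8_lb c) 5 (by decide +kernel))
    (c.le_normalizer (cj := zcj140) (((K8_ub c).mono (c.le zm143)).1) (c.rels _ zr142) zm141) (c.le zm139)
    (c.rels _ zr137) zb138 zq136

theorem vK86 (c : Ctx P e gs ns D chk) :
    Cov 4 (subW gs [[370], [372], [374], [376], [378], [380], [382], [384]]) (subW gs [[370], [372], [374], [376], [378], [380], [382], [384]]) gs vK86_R (subW gs [[384]]) :=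
  Cov.step' (q := 2) (g := [382]) c.defs (by norm_num) (vK85 c)
    (pc_lvl' c.defs (K8_pr c) K8_pb (K8_lb c) 6 (by decide +kernel))
    (c.le_normalizer (cj := zcj148) (((K8_ub c).mono (c.le zm151)).1) (c.rels _ zr150) zm149) (c.le zm147)
    (c.rels _ zr145) zb146 zq144

theorem vK87 (c : Ctx P e gs ns D chk) :
    Cov 4 (subW gs [[370], [372], [374], [376], [378], [380], [382], [384]]) (subW gs [[370], [372], [374], [376], [378], [380], [382], [384]]) gs vK87_R (subW gs []) :=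
  Cov.step' (q := 2) (g := [384]) c.defs (by norm_num) (vK86 c)
    (pc_lvl' c.defs (K8_pr c) K8_pb (K8_lb c) 7 (by decide +kernel))
    (le_normalizer_nil gs _) (c.le zm155)
    (c.rels _ zr153) zb154 zq152

theorem e4 (c : Ctx P e gs ns D chk) :
    ((wordG gs [126]) * (wordG gs [126])) = (1 : G) :=
  by simpa only [wordG_app, wordG_invW, wordG_powW, wordG_nil] using c.eq zr157

theorem nrK8 (c : Ctx P e gs ns D chk) :
    ∀ k ∈ (subW gs [[0], [2], [4], [6]]), k * k ≠ (wordG gs [126]) :=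
  sq_ne' (inf_Z (cK8 c)) le_rfl (sq_ne c (vK87 c).cls (comm_of_eq (inf_Z (cK8 c))) (e4 c) zn156)

theorem cY0G_c : P.chainB ns D cY0G_vs [[66], [68]] = true :=
  zc160

theorem cY0G_o : prodL cY0G_vs 1 = 10240 := by decide +kernel

theorem cY0 (c : Ctx P e gs ns D chk) :
    (subW gs [[66], [68]]) ⊓ Subgroup.centralizer (subW gs [[122]] : Set G) = (subW gs [[408], [410], [412], [414], [416], [418], [420]]) :=
  c.cent (lx := [[122]]) (Rels.nil _) (c.sOk (c.exact cY0G_c cY0G_o (C0_ub c)) zs161) (fun _ h => by cases h)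
    (c.fixX zf159) (c.rels _ zr164) zm165 zs163

theorem Y0_c : P.chainB ns D Y0_vs [[408], [410], [412], [414], [416], [418], [420]] = true :=
  zc166

theorem Y0_o : prodL Y0_vs 1 = 128 := by decide +kernel

theorem Y0_lb (c : Ctx P e gs ns D chk) :
    LB (subW gs [[408], [410], [412], [414], [416], [418], [420]]) 128 :=
  c.lb Y0_c Y0_o

theorem Y0_pr (c : Ctx P e gs ns D chk) :
    Rels gs (pcsR Y0_ps []) :=
  (c.rels _ zr167)

theorem Y0_pe (c : Ctx P e gs ns D chk) :
    Rels gs (defRels []) :=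
  (Rels.nil _)

theorem Y0_pb : bnd (pcsB D Y0_ps []) (leB (app D []) [[408], [410], [412], [414], [416], [418], [420]] (pcGens Y0_ps [])) = true := zb168

theorem Y0_ub (c : Ctx P e gs ns D chk) :
    UB (subW gs [[408], [410], [412], [414], [416], [418], [420]]) 128 :=
  c.pcs (UB.nil gs) (Y0_pe c) (Y0_pr c) Y0_pb (by decide +kernel)

theorem Y0_card (c : Ctx P e gs ns D chk) :
    Nat.card (subW gs [[408], [410], [412], [414], [416], [418], [420]]) = 128 :=
  (Y0_ub c).card_eq (Y0_lb c)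

theorem vY00 (c : Ctx P e gs ns D chk) :
    Cov 4 (subW gs [[408], [410], [412], [414], [416], [418], [420]]) (subW gs [[408], [410], [412], [414], [416], [418], [420]]) gs vY00_R (subW gs [[410], [412], [414], [416], [418], [420]]) :=
  Cov.step' (q := 2) (g := [408]) c.defs (by norm_num) (Cov.init 4 (subW gs [[408], [410], [412], [414], [416], [418], [420]]) (subW gs [[408], [410], [412], [414], [416], [418], [420]]) gs)
    (pc_lvl' c.defs (Y0_pr c) Y0_pb (Y0_lb c) 0 (by decide +kernel))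
    (c.le_normalizer (cj := zcj173) (((Y0_ub c).mono (c.le zm176)).1) (c.rels _ zr175) zm174) (c.le zm172)
    (c.rels _ zr170) zb171 zq169

theorem vY01 (c : Ctx P e gs ns D chk) :
    Cov 4 (subW gs [[408], [410], [412], [414], [416], [418], [420]]) (subW gs [[408], [410], [412], [414], [416], [418], [420]]) gs vY01_R (subW gs [[412], [414], [416], [418], [420]]) :=
  Cov.step' (q := 2) (g := [410]) c.defs (by norm_num) (vY00 c)
    (pc_lvl' c.defs (Y0_pr c) Y0_pb (Y0_lb c) 1 (by decide +kernel))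
    (c.le_normalizer (cj := zcj181) (((Y0_ub c).mono (c.le zm184)).1) (c.rels _ zr183) zm182) (c.le zm180)
    (c.rels _ zr178) zb179 zq177

theorem vY02 (c : Ctx P e gs ns D chk) :
    Cov 4 (subW gs [[408], [410], [412], [414], [416], [418], [420]]) (subW gs [[408], [410], [412], [414], [416], [418], [420]]) gs vY02_R (subW gs [[414], [416], [418], [420]]) :=
  Cov.step' (q := 2) (g := [412]) c.defs (by norm_num) (vY01 c)
    (pc_lvl' c.defs (Y0_pr c) Y0_pb (Y0_lb c) 2 (by decide +kernel))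
    (c.le_normalizer (cj := zcj189) (((Y0_ub c).mono (c.le zm192)).1) (c.rels _ zr191) zm190) (c.le zm188)
    (c.rels _ zr186) zb187 zq185

theorem vY03 (c : Ctx P e gs ns D chk) :
    Cov 4 (subW gs [[408], [410], [412], [414], [416], [418], [420]]) (subW gs [[408], [410], [412], [414], [416], [418], [420]]) gs vY03_R (subW gs [[416], [418], [420]]) :=
  Cov.step' (q := 2) (g := [414]) c.defs (by norm_num) (vY02 c)
    (pc_lvl' c.defs (Y0_pr c) Y0_pb (Y0_lb c) 3 (by decide +kernel))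
    (c.le_normalizer (cj := zcj197) (((Y0_ub c).mono (c.le zm200)).1) (c.rels _ zr199) zm198) (c.le zm196)
    (c.rels _ zr194) zb195 zq193

theorem vY04 (c : Ctx P e gs ns D chk) :
    Cov 4 (subW gs [[408], [410], [412], [414], [416], [418], [420]]) (subW gs [[408], [410], [412], [414], [416], [418], [420]]) gs vY04_R (subW gs [[418], [420]]) :=
  Cov.step' (q := 2) (g := [416]) c.defs (by norm_num) (vY03 c)
    (pc_lvl' c.defs (Y0_pr c) Y0_pb (Y0_lb c) 4 (by decide +kernel))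
    (c.le_normalizer (cj := zcj205) (((Y0_ub c).mono (c.le zm208)).1) (c.rels _ zr207) zm206) (c.le zm204)
    (c.rels _ zr202) zb203 zq201

theorem vY05 (c : Ctx P e gs ns D chk) :
    Cov 4 (subW gs [[408], [410], [412], [414], [416], [418], [420]]) (subW gs [[408], [410], [412], [414], [416], [418], [420]]) gs vY05_R (subW gs [[420]]) :=
  Cov.step' (q := 2) (g := [418]) c.defs (by norm_num) (vY04 c)
    (pc_lvl' c.defs (Y0_pr c) Y0_pb (Y0_lb c) 5 (by decide +kernel))
    (c.le_normalizer (cj := zcj213) (((Y0_ub c).mono (c.le zm216)).1) (c.rels _ zr215) zm214) (c.le zm212)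
    (c.rels _ zr210) zb211 zq209

theorem vY06 (c : Ctx P e gs ns D chk) :
    Cov 4 (subW gs [[408], [410], [412], [414], [416], [418], [420]]) (subW gs [[408], [410], [412], [414], [416], [418], [420]]) gs vY06_R (subW gs []) :=
  Cov.step' (q := 2) (g := [420]) c.defs (by norm_num) (vY05 c)
    (pc_lvl' c.defs (Y0_pr c) Y0_pb (Y0_lb c) 6 (by decide +kernel))
    (le_normalizer_nil gs _) (c.le zm220)
    (c.rels _ zr218) zb219 zq217

theorem e5 (c : Ctx P e gs ns D chk) :
    ((wordG gs [122]) * (wordG gs [122])) = (1 : G) :=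
  by simpa only [wordG_app, wordG_invW, wordG_powW, wordG_nil] using c.eq zr222

theorem nrY0 (c : Ctx P e gs ns D chk) :
    ∀ k ∈ (subW gs [[66], [68]]), k * k ≠ (wordG gs [122]) :=
  sq_ne' (inf_Z (cY0 c)) le_rfl (sq_ne c (vY06 c).cls (comm_of_eq (inf_Z (cY0 c))) (e5 c) zn221)

theorem cR0G_c : P.chainB ns D cR0G_vs [[184], [186]] = true :=
  zc225

theorem cR0G_o : prodL cR0G_vs 1 = 1024 := by decide +kernel

theorem cR0 (c : Ctx P e gs ns D chk) :
    (subW gs [[184], [186]]) ⊓ Subgroup.centralizer (subW gs [[120]] : Set G) = (subW gs [[450], [452], [192], [206], [454], [456], [458]]) :=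
  c.cent (lx := [[120]]) (c.rels _ zr228) (c.sOk (c.exact cR0G_c cR0G_o (K0_ub c)) zs226) (fun _ h => by cases h)
    (c.fixX zf224) (c.rels _ zr231) zm232 zs230

theorem R0_c : P.chainB ns D R0_vs [[450], [452], [192], [206], [454], [456], [458]] = true :=
  zc233

theorem R0_o : prodL R0_vs 1 = 128 := by decide +kernel

theorem R0_lb (c : Ctx P e gs ns D chk) :
    LB (subW gs [[450], [452], [192], [206], [454], [456], [458]]) 128 :=
  c.lb R0_c R0_o

theorem R0_pr (c : Ctx P e gs ns D chk) :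
    Rels gs (pcsR R0_ps []) :=
  (c.rels _ zr234)

theorem R0_pe (c : Ctx P e gs ns D chk) :
    Rels gs (defRels []) :=
  (Rels.nil _)

theorem R0_pb : bnd (pcsB D R0_ps []) (leB (app D []) [[450], [452], [192], [206], [454], [456], [458]] (pcGens R0_ps [])) = true := zb235

theorem R0_ub (c : Ctx P e gs ns D chk) :
    UB (subW gs [[450], [452], [192], [206], [454], [456], [458]]) 128 :=
  c.pcs (UB.nil gs) (R0_pe c) (R0_pr c) R0_pb (by decide +kernel)

theorem R0_card (c : Ctx P e gs ns D chk) :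
    Nat.card (subW gs [[450], [452], [192], [206], [454], [456], [458]]) = 128 :=
  (R0_ub c).card_eq (R0_lb c)

theorem vR00 (c : Ctx P e gs ns D chk) :
    Cov 4 (subW gs [[450], [452], [192], [206], [454], [456], [458]]) (subW gs [[450], [452], [192], [206], [454], [456], [458]]) gs vR00_R (subW gs [[452], [192], [206], [454], [456], [458]]) :=
  Cov.step' (q := 2) (g := [450]) c.defs (by norm_num) (Cov.init 4 (subW gs [[450], [452], [192], [206], [454], [456], [458]]) (subW gs [[450], [452], [192], [206], [454], [456], [458]]) gs)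
    (pc_lvl' c.defs (R0_pr c) R0_pb (R0_lb c) 0 (by decide +kernel))
    (c.le_normalizer (cj := zcj240) (((R0_ub c).mono (c.le zm243)).1) (c.rels _ zr242) zm241) (c.le zm239)
    (c.rels _ zr237) zb238 zq236

theorem vR01 (c : Ctx P e gs ns D chk) :
    Cov 4 (subW gs [[450], [452], [192], [206], [454], [456], [458]]) (subW gs [[450], [452], [192], [206], [454], [456], [458]]) gs vR01_R (subW gs [[192], [206], [454], [456], [458]]) :=
  Cov.step' (q := 2) (g := [452]) c.defs (by norm_num) (vR00 c)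
    (pc_lvl' c.defs (R0_pr c) R0_pb (R0_lb c) 1 (by decide +kernel))
    (c.le_normalizer (cj := zcj248) (((R0_ub c).mono (c.le zm251)).1) (c.rels _ zr250) zm249) (c.le zm247)
    (c.rels _ zr245) zb246 zq244

theorem vR02 (c : Ctx P e gs ns D chk) :
    Cov 4 (subW gs [[450], [452], [192], [206], [454], [456], [458]]) (subW gs [[450], [452], [192], [206], [454], [456], [458]]) gs vR02_R (subW gs [[206], [454], [456], [458]]) :=
  Cov.step' (q := 2) (g := [192]) c.defs (by norm_num) (vR01 c)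
    (pc_lvl' c.defs (R0_pr c) R0_pb (R0_lb c) 2 (by decide +kernel))
    (c.le_normalizer (cj := zcj256) (((R0_ub c).mono (c.le zm259)).1) (c.rels _ zr258) zm257) (c.le zm255)
    (c.rels _ zr253) zb254 zq252

theorem vR03 (c : Ctx P e gs ns D chk) :
    Cov 4 (subW gs [[450], [452], [192], [206], [454], [456], [458]]) (subW gs [[450], [452], [192], [206], [454], [456], [458]]) gs vR03_R (subW gs [[454], [456], [458]]) :=
  Cov.step' (q := 2) (g := [206]) c.defs (by norm_num) (vR02 c)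
    (pc_lvl' c.defs (R0_pr c) R0_pb (R0_lb c) 3 (by decide +kernel))
    (c.le_normalizer (cj := zcj264) (((R0_ub c).mono (c.le zm267)).1) (c.rels _ zr266) zm265) (c.le zm263)
    (c.rels _ zr261) zb262 zq260

theorem vR04 (c : Ctx P e gs ns D chk) :
    Cov 4 (subW gs [[450], [452], [192], [206], [454], [456], [458]]) (subW gs [[450], [452], [192], [206], [454], [456], [458]]) gs vR04_R (subW gs [[456], [458]]) :=
  Cov.step' (q := 2) (g := [454]) c.defs (by norm_num) (vR03 c)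
    (pc_lvl' c.defs (R0_pr c) R0_pb (R0_lb c) 4 (by decide +kernel))
    (c.le_normalizer (cj := zcj272) (((R0_ub c).mono (c.le zm275)).1) (c.rels _ zr274) zm273) (c.le zm271)
    (c.rels _ zr269) zb270 zq268

theorem vR05 (c : Ctx P e gs ns D chk) :
    Cov 4 (subW gs [[450], [452], [192], [206], [454], [456], [458]]) (subW gs [[450], [452], [192], [206], [454], [456], [458]]) gs vR05_R (subW gs [[458]]) :=
  Cov.step' (q := 2) (g := [456]) c.defs (by norm_num) (vR04 c)
    (pc_lvl' c.defs (R0_pr c) R0_pb (R0_lb c) 5 (by decide +kernel))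
    (c.le_normalizer (cj := zcj280) (((R0_ub c).mono (c.le zm283)).1) (c.rels _ zr282) zm281) (c.le zm279)
    (c.rels _ zr277) zb278 zq276

theorem vR06 (c : Ctx P e gs ns D chk) :
    Cov 4 (subW gs [[450], [452], [192], [206], [454], [456], [458]]) (subW gs [[450], [452], [192], [206], [454], [456], [458]]) gs vR06_R (subW gs []) :=
  Cov.step' (q := 2) (g := [458]) c.defs (by norm_num) (vR05 c)
    (pc_lvl' c.defs (R0_pr c) R0_pb (R0_lb c) 6 (by decide +kernel))
    (le_normalizer_nil gs _) (c.le zm287)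
    (c.rels _ zr285) zb286 zq284

theorem e6 (c : Ctx P e gs ns D chk) :
    ((wordG gs [120]) * (wordG gs [120])) = (1 : G) :=
  by simpa only [wordG_app, wordG_invW, wordG_powW, wordG_nil] using c.eq zr289

theorem nrR0 (c : Ctx P e gs ns D chk) :
    ∀ k ∈ (subW gs [[184], [186]]), k * k ≠ (wordG gs [120]) :=
  sq_ne' (inf_Z (cR0 c)) le_rfl (sq_ne c (vR06 c).cls (comm_of_eq (inf_Z (cR0 c))) (e6 c) zn288)

theorem hKq (c : Ctx P e gs ns D chk) :
    (Dm gs).K (Dm gs).q = (subW gs [[0], [4], [6]]) :=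
  inf_Z (cKq c)

theorem hK0 (c : Ctx P e gs ns D chk) :
    (Dm gs).toD0.K0 (Dm gs).q = (subW gs [[184], [186]]) :=
  inf_Z (cK0 c)

theorem hK4 (c : Ctx P e gs ns D chk) :
    (Dm gs).K (Dm gs).u4 = (subW gs [[240], [242], [244], [246]]) :=
  inf_Z (cK4 c)

theorem hKy (c : Ctx P e gs ns D chk) :
    (Dm gs).K (Dm gs).y = (subW gs [[300], [302], [304]]) :=
  inf_Z (cKy c)

theorem hK8 (c : Ctx P e gs ns D chk) :
    (Dm gs).K (Dm gs).u8 = (subW gs [[370], [372], [374], [376], [378], [380], [382], [384]]) :=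
  inf_Z (cK8 c)

theorem hA0 (c : Ctx P e gs ns D chk) :
    (Dm gs).A0 = (subW gs [[332], [334], [336]]) :=
  A0_eq (hKq c) (inf_Z (cA0 c))

theorem oR (c : Ctx P e gs ns D chk) :
    Rels gs (CL.RF2.MdA.orbR [[0], [2], [4], [6]] [[118], [484], [486], [488], [490], [492], [494], [496], [498], [500]] oT) :=
  (c.rels _ zr290)

theorem e7 (c : Ctx P e gs ns D chk) :
    (wordG gs [118]) = ((((wordG gs [128]) ^ 0) * (wordG gs [118])) * ((wordG gs [128]) ^ 0)⁻¹) :=
  by simpa only [wordG_app, wordG_invW, wordG_powW, wordG_nil] using c.eq zr291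

theorem e8 (c : Ctx P e gs ns D chk) :
    (wordG gs [484]) = ((((wordG gs [128]) ^ 1) * (wordG gs [118])) * ((wordG gs [128]) ^ 1)⁻¹) :=
  by simpa only [wordG_app, wordG_invW, wordG_powW, wordG_nil] using c.eq zr292

theorem e9 (c : Ctx P e gs ns D chk) :
    (wordG gs [486]) = ((((wordG gs [128]) ^ 2) * (wordG gs [118])) * ((wordG gs [128]) ^ 2)⁻¹) :=
  by simpa only [wordG_app, wordG_invW, wordG_powW, wordG_nil] using c.eq zr293

theorem e10 (c : Ctx P e gs ns D chk) :
    (wordG gs [488]) = ((((wordG gs [128]) ^ 3) * (wordG gs [118])) * ((wordG gs [128]) ^ 3)⁻¹) :=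
  by simpa only [wordG_app, wordG_invW, wordG_powW, wordG_nil] using c.eq zr294

theorem e11 (c : Ctx P e gs ns D chk) :
    (wordG gs [490]) = ((((wordG gs [128]) ^ 4) * (wordG gs [118])) * ((wordG gs [128]) ^ 4)⁻¹) :=
  by simpa only [wordG_app, wordG_invW, wordG_powW, wordG_nil] using c.eq zr295

theorem e12 (c : Ctx P e gs ns D chk) :
    (wordG gs [492]) = ((wordG gs [116]) * ((((wordG gs [128]) ^ 0) * (wordG gs [118])) * ((wordG gs [128]) ^ 0)⁻¹)) :=
  by simpa only [wordG_app, wordG_invW, wordG_powW, wordG_nil] using c.eq zr296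

theorem e13 (c : Ctx P e gs ns D chk) :
    (wordG gs [494]) = ((wordG gs [116]) * ((((wordG gs [128]) ^ 1) * (wordG gs [118])) * ((wordG gs [128]) ^ 1)⁻¹)) :=
  by simpa only [wordG_app, wordG_invW, wordG_powW, wordG_nil] using c.eq zr297

theorem e14 (c : Ctx P e gs ns D chk) :
    (wordG gs [496]) = ((wordG gs [116]) * ((((wordG gs [128]) ^ 2) * (wordG gs [118])) * ((wordG gs [128]) ^ 2)⁻¹)) :=
  by simpa only [wordG_app, wordG_invW, wordG_powW, wordG_nil] using c.eq zr298

theorem e15 (c : Ctx P e gs ns D chk) :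
    (wordG gs [498]) = ((wordG gs [116]) * ((((wordG gs [128]) ^ 3) * (wordG gs [118])) * ((wordG gs [128]) ^ 3)⁻¹)) :=
  by simpa only [wordG_app, wordG_invW, wordG_powW, wordG_nil] using c.eq zr299

theorem e16 (c : Ctx P e gs ns D chk) :
    (wordG gs [500]) = ((wordG gs [116]) * ((((wordG gs [128]) ^ 4) * (wordG gs [118])) * ((wordG gs [128]) ^ 4)⁻¹)) :=
  by simpa only [wordG_app, wordG_invW, wordG_powW, wordG_nil] using c.eq zr300

theorem clsf (c : Ctx P e gs ns D chk) :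
    ∀ x ∈ (subW gs [[0], [2], [4], [6]]), (fun s : G => ∃ i : ℕ, s = (wordG gs [128]) ^ i * (wordG gs [118]) * ((wordG gs [128]) ^ i)⁻¹ ∨ s = (wordG gs [116]) * ((wordG gs [128]) ^ i * (wordG gs [118]) * ((wordG gs [128]) ^ i)⁻¹)) (x * (wordG gs [118]) * x⁻¹) :=
  orbit_elim (oR c) (P := fun s : G => ∃ i : ℕ, s = (wordG gs [128]) ^ i * (wordG gs [118]) * ((wordG gs [128]) ^ i)⁻¹ ∨ s = (wordG gs [116]) * ((wordG gs [128]) ^ i * (wordG gs [118]) * ((wordG gs [128]) ^ i)⁻¹)) List.mem_cons_self (e2 c)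
    (List.forall_mem_cons.2 ⟨⟨0, .inl (e7 c)⟩,
      List.forall_mem_cons.2 ⟨⟨1, .inl (e8 c)⟩,
      List.forall_mem_cons.2 ⟨⟨2, .inl (e9 c)⟩,
      List.forall_mem_cons.2 ⟨⟨3, .inl (e10 c)⟩,
      List.forall_mem_cons.2 ⟨⟨4, .inl (e11 c)⟩,
      List.forall_mem_cons.2 ⟨⟨0, .inr (e12 c)⟩,
      List.forall_mem_cons.2 ⟨⟨1, .inr (e13 c)⟩,
      List.forall_mem_cons.2 ⟨⟨2, .inr (e14 c)⟩,
      List.forall_mem_cons.2 ⟨⟨3, .inr (e15 c)⟩,
      List.forall_mem_cons.2 ⟨⟨4, .inr (e16 c)⟩,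
      List.forall_mem_nil _⟩⟩⟩⟩⟩⟩⟩⟩⟩⟩)

theorem e17 (c : Ctx P e gs ns D chk) :
    (wordG gs [484]) = (((wordG gs [186, 190, 200]) * (wordG gs [120])) * (wordG gs [186, 190, 200])⁻¹) :=
  by simpa only [wordG_app, wordG_invW, wordG_powW, wordG_nil] using c.eq zr301

theorem e18 (c : Ctx P e gs ns D chk) :
    (wordG gs [486]) = (((wordG gs []) * (wordG gs [120])) * (wordG gs [])⁻¹) :=
  by simpa only [wordG_app, wordG_invW, wordG_powW, wordG_nil] using c.eq zr303

theorem e19 (c : Ctx P e gs ns D chk) :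
    (wordG gs [488]) = (((wordG gs (W (nat_lit 0x324ba2fcbd2ecbb))) * (wordG gs [120])) * (wordG gs (W (nat_lit 0x324ba2fcbd2ecbb)))⁻¹) :=
  by simpa only [wordG_app, wordG_invW, wordG_powW, wordG_nil] using c.eq zr305

theorem e20 (c : Ctx P e gs ns D chk) :
    (wordG gs [490]) = (((wordG gs (W (nat_lit 0x344c9304bd2fcbc))) * (wordG gs [120])) * (wordG gs (W (nat_lit 0x344c9304bd2fcbc)))⁻¹) :=
  by simpa only [wordG_app, wordG_invW, wordG_powW, wordG_nil] using c.eq zr307

theorem e21 (c : Ctx P e gs ns D chk) :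
    (wordG gs [492]) = ((wordG gs [116]) * (wordG gs [118])) :=
  by simpa only [wordG_app, wordG_invW, wordG_powW, wordG_nil] using c.eq zr309

theorem e22 (c : Ctx P e gs ns D chk) :
    (wordG gs [494]) = (((wordG gs [186, 192, 185, 206]) * (wordG gs [120])) * (wordG gs [186, 192, 185, 206])⁻¹) :=
  by simpa only [wordG_app, wordG_invW, wordG_powW, wordG_nil] using c.eq zr310

theorem e23 (c : Ctx P e gs ns D chk) :
    (wordG gs [496]) = (((wordG gs [190, 185, 206, 208]) * (wordG gs [120])) * (wordG gs [190, 185, 206, 208])⁻¹) :=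
  by simpa only [wordG_app, wordG_invW, wordG_powW, wordG_nil] using c.eq zr312

theorem e24 (c : Ctx P e gs ns D chk) :
    (wordG gs [498]) = (((wordG gs (W (nat_lit 0x344c9304be2ecbb))) * (wordG gs [120])) * (wordG gs (W (nat_lit 0x344c9304be2ecbb)))⁻¹) :=
  by simpa only [wordG_app, wordG_invW, wordG_powW, wordG_nil] using c.eq zr314

theorem e25 (c : Ctx P e gs ns D chk) :
    (wordG gs [500]) = (((wordG gs (W (nat_lit 0x344cf324ba2f4bc))) * (wordG gs [120])) * (wordG gs (W (nat_lit 0x344cf324ba2f4bc)))⁻¹) :=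
  by simpa only [wordG_app, wordG_invW, wordG_powW, wordG_nil] using c.eq zr316

theorem cls0 (c : Ctx P e gs ns D chk) :
    ∀ x ∈ (subW gs [[0], [2], [4], [6]]), (fun s : G => s = (wordG gs [118]) ∨ s = (wordG gs [116]) * (wordG gs [118]) ∨ ∃ d ∈ (Dm gs).toD0.K0 (Dm gs).q, s = d * (wordG gs [120]) * d⁻¹) (x * (wordG gs [118]) * x⁻¹) :=
  orbit_elim (oR c) (P := fun s : G => s = (wordG gs [118]) ∨ s = (wordG gs [116]) * (wordG gs [118]) ∨ ∃ d ∈ (Dm gs).toD0.K0 (Dm gs).q, s = d * (wordG gs [120]) * d⁻¹) List.mem_cons_self (e2 c)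
    (List.forall_mem_cons.2 ⟨.inl rfl,
      List.forall_mem_cons.2 ⟨.inr (.inr ⟨_, (hK0 c).ge (c.mem zm302), (e17 c)⟩),
      List.forall_mem_cons.2 ⟨.inr (.inr ⟨_, (hK0 c).ge (c.mem zm304), (e18 c)⟩),
      List.forall_mem_cons.2 ⟨.inr (.inr ⟨_, (hK0 c).ge (c.mem zm306), (e19 c)⟩),
      List.forall_mem_cons.2 ⟨.inr (.inr ⟨_, (hK0 c).ge (c.mem zm308), (e20 c)⟩),
      List.forall_mem_cons.2 ⟨.inr (.inl (e21 c)),
      List.forall_mem_cons.2 ⟨.inr (.inr ⟨_, (hK0 c).ge (c.mem zm311), (e22 c)⟩),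
      List.forall_mem_cons.2 ⟨.inr (.inr ⟨_, (hK0 c).ge (c.mem zm313), (e23 c)⟩),
      List.forall_mem_cons.2 ⟨.inr (.inr ⟨_, (hK0 c).ge (c.mem zm315), (e24 c)⟩),
      List.forall_mem_cons.2 ⟨.inr (.inr ⟨_, (hK0 c).ge (c.mem zm317), (e25 c)⟩),
      List.forall_mem_nil _⟩⟩⟩⟩⟩⟩⟩⟩⟩⟩)

theorem Wc_pr (c : Ctx P e gs ns D chk) :
    Rels gs (pcsR Wc_ps []) :=
  (c.rels _ zr318)

theorem Wc_pe (c : Ctx P e gs ns D chk) :
    Rels gs (defRels []) :=
  (Rels.nil _)

theorem Wc_pb : bnd (pcsB D Wc_ps []) (leB (app D []) [[118], [484], [486], [488], [492]] (pcGens Wc_ps [])) = true := zb319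

theorem Wc_ub (c : Ctx P e gs ns D chk) :
    UB (subW gs [[118], [484], [486], [488], [492]]) 32 :=
  c.pcs (UB.nil gs) (Wc_pe c) (Wc_pr c) Wc_pb (by decide +kernel)

theorem Wc_c : P.chainB ns D Wc_vs [[118], [484], [486], [488], [492]] = true :=
  zc320

theorem Wc_o : prodL Wc_vs 1 = 32 := by decide +kernel

theorem Wc_lb (c : Ctx P e gs ns D chk) :
    LB (subW gs [[118], [484], [486], [488], [492]]) 32 :=
  c.lb Wc_c Wc_o

theorem W_card (c : Ctx P e gs ns D chk) :
    Nat.card (subW gs [[118], [484], [486], [488], [492]]) = 32 :=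
  (Wc_ub c).card_eq (Wc_lb c)

theorem e26 (c : Ctx P e gs ns D chk) :
    (wordG gs [118]) = (wordG gs [506, 504]) :=
  by simpa only [wordG_app, wordG_invW, wordG_powW, wordG_nil] using c.eq zr322

theorem e27 (c : Ctx P e gs ns D chk) :
    (wordG gs [484]) = (wordG gs [484]) :=
  by simpa only [wordG_app, wordG_invW, wordG_powW, wordG_nil] using c.eq zr324

theorem e28 (c : Ctx P e gs ns D chk) :
    (wordG gs [486]) = (wordG gs [502]) :=
  by simpa only [wordG_app, wordG_invW, wordG_powW, wordG_nil] using c.eq zr326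

theorem e29 (c : Ctx P e gs ns D chk) :
    (wordG gs [488]) = (wordG gs [484, 502, 506]) :=
  by simpa only [wordG_app, wordG_invW, wordG_powW, wordG_nil] using c.eq zr328

theorem e30 (c : Ctx P e gs ns D chk) :
    (wordG gs [490]) = (wordG gs [504]) :=
  by simpa only [wordG_app, wordG_invW, wordG_powW, wordG_nil] using c.eq zr330

theorem e31 (c : Ctx P e gs ns D chk) :
    (wordG gs [492]) = (wordG gs [492]) :=
  by simpa only [wordG_app, wordG_invW, wordG_powW, wordG_nil] using c.eq zr332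

theorem e32 (c : Ctx P e gs ns D chk) :
    (wordG gs [494]) = (wordG gs [492, 484, 506, 504]) :=
  by simpa only [wordG_app, wordG_invW, wordG_powW, wordG_nil] using c.eq zr334

theorem e33 (c : Ctx P e gs ns D chk) :
    (wordG gs [496]) = (wordG gs [492, 502, 506, 504]) :=
  by simpa only [wordG_app, wordG_invW, wordG_powW, wordG_nil] using c.eq zr336

theorem e34 (c : Ctx P e gs ns D chk) :
    (wordG gs [498]) = (wordG gs [492, 484, 502, 504]) :=
  by simpa only [wordG_app, wordG_invW, wordG_powW, wordG_nil] using c.eq zr338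

theorem e35 (c : Ctx P e gs ns D chk) :
    (wordG gs [500]) = (wordG gs [492, 506]) :=
  by simpa only [wordG_app, wordG_invW, wordG_powW, wordG_nil] using c.eq zr340

theorem oW (c : Ctx P e gs ns D chk) :
    ∀ x ∈ (subW gs [[0], [2], [4], [6]]), (fun s : G => s ∈ (subW gs [[118], [484], [486], [488], [492]])) (x * (wordG gs [118]) * x⁻¹) :=
  orbit_elim (oR c) (P := fun s : G => s ∈ (subW gs [[118], [484], [486], [488], [492]])) List.mem_cons_self (e2 c)
    (List.forall_mem_cons.2 ⟨(mem' (e26 c) (c.mem zm321)),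
      List.forall_mem_cons.2 ⟨(mem' (e27 c) (c.mem zm323)),
      List.forall_mem_cons.2 ⟨(mem' (e28 c) (c.mem zm325)),
      List.forall_mem_cons.2 ⟨(mem' (e29 c) (c.mem zm327)),
      List.forall_mem_cons.2 ⟨(mem' (e30 c) (c.mem zm329)),
      List.forall_mem_cons.2 ⟨(mem' (e31 c) (c.mem zm331)),
      List.forall_mem_cons.2 ⟨(mem' (e32 c) (c.mem zm333)),
      List.forall_mem_cons.2 ⟨(mem' (e33 c) (c.mem zm335)),
      List.forall_mem_cons.2 ⟨(mem' (e34 c) (c.mem zm337)),
      List.forall_mem_cons.2 ⟨(mem' (e35 c) (c.mem zm339)),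
      List.forall_mem_nil _⟩⟩⟩⟩⟩⟩⟩⟩⟩⟩)

theorem e36 (c : Ctx P e gs ns D chk) :
    (((wordG gs []) * (wordG gs [118])) * (wordG gs [])⁻¹) = (wordG gs [118]) :=
  by simpa only [wordG_app, wordG_invW, wordG_powW, wordG_nil] using c.eq zr341

theorem e37 (c : Ctx P e gs ns D chk) :
    (((wordG gs [68, 73, 76, 90]) * (wordG gs [118])) * (wordG gs [68, 73, 76, 90])⁻¹) = (wordG gs [484]) :=
  by simpa only [wordG_app, wordG_invW, wordG_powW, wordG_nil] using c.eq zr343

theorem e38 (c : Ctx P e gs ns D chk) :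
    (((wordG gs (W (nat_lit 0x16c5d1444d10c43))) * (wordG gs [118])) * (wordG gs (W (nat_lit 0x16c5d1444d10c43)))⁻¹) = (wordG gs [486]) :=
  by simpa only [wordG_app, wordG_invW, wordG_powW, wordG_nil] using c.eq zr345

theorem e39 (c : Ctx P e gs ns D chk) :
    (((wordG gs (W (nat_lit 0x17c5d1345111c44))) * (wordG gs [118])) * (wordG gs (W (nat_lit 0x17c5d1345111c44)))⁻¹) = (wordG gs [488]) :=
  by simpa only [wordG_app, wordG_invW, wordG_powW, wordG_nil] using c.eq zr347

theorem e40 (c : Ctx P e gs ns D chk) :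
    (((wordG gs (W (nat_lit 0x5b12c4e1444a))) * (wordG gs [118])) * (wordG gs (W (nat_lit 0x5b12c4e1444a)))⁻¹) = (wordG gs [492]) :=
  by simpa only [wordG_app, wordG_invW, wordG_powW, wordG_nil] using c.eq zr349

theorem hW (c : Ctx P e gs ns D chk) :
    (Dm gs).toD0.W = (subW gs [[118], [484], [486], [488], [492]]) :=
  W_eq (fun x hx => oW c x (le0 c hx))
    (List.forall_mem_cons.2 ⟨⟨_, (c.mem zm342), (e36 c)⟩,
      List.forall_mem_cons.2 ⟨⟨_, (c.mem zm344), (e37 c)⟩,
      List.forall_mem_cons.2 ⟨⟨_, (c.mem zm346), (e38 c)⟩,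
      List.forall_mem_cons.2 ⟨⟨_, (c.mem zm348), (e39 c)⟩,
      List.forall_mem_cons.2 ⟨⟨_, (c.mem zm350), (e40 c)⟩,
      List.forall_mem_nil _⟩⟩⟩⟩⟩)

theorem W3c_pr (c : Ctx P e gs ns D chk) :
    Rels gs (pcsR W3c_ps []) :=
  (c.rels _ zr351)

theorem W3c_pe (c : Ctx P e gs ns D chk) :
    Rels gs (defRels []) :=
  (Rels.nil _)

theorem W3c_pb : bnd (pcsB D W3c_ps []) (leB (app D []) [[116], [492], [122], [508], [510]] (pcGens W3c_ps [])) = true := zb352

theorem W3c_ub (c : Ctx P e gs ns D chk) :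
    UB (subW gs [[116], [492], [122], [508], [510]]) 32 :=
  c.pcs (UB.nil gs) (W3c_pe c) (W3c_pr c) W3c_pb (by decide +kernel)

theorem W3c_c : P.chainB ns D W3c_vs [[116], [492], [122], [508], [510]] = true :=
  zc353

theorem W3c_o : prodL W3c_vs 1 = 32 := by decide +kernel

theorem W3c_lb (c : Ctx P e gs ns D chk) :
    LB (subW gs [[116], [492], [122], [508], [510]]) 32 :=
  c.lb W3c_c W3c_o

theorem W3_card (c : Ctx P e gs ns D chk) :
    Nat.card (subW gs [[116], [492], [122], [508], [510]]) = 32 :=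
  (W3c_ub c).card_eq (W3c_lb c)

theorem nW3 (c : Ctx P e gs ns D chk) :
    (subW gs [[184], [186]]) ≤ Subgroup.normalizer (subW gs [[116], [492], [122], [508], [510]] : Set G) :=
  have hfin : Finite (subW gs [[116], [492], [122], [508], [510]]) := (W3c_ub c).1
  (c.le_normalizer (cj := zcj354) hfin (c.rels _ zr356) zm355)

theorem e41 (c : Ctx P e gs ns D chk) :
    (wordG gs [492]) = ((wordG gs [116]) * (wordG gs [118])) :=
  by simpa only [wordG_app, wordG_invW, wordG_powW, wordG_nil] using c.eq zr357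

theorem e42 (c : Ctx P e gs ns D chk) :
    (((wordG gs [186]) * (wordG gs [122])) * (wordG gs [186])⁻¹) = (wordG gs [508]) :=
  by simpa only [wordG_app, wordG_invW, wordG_powW, wordG_nil] using c.eq zr358

theorem e43 (c : Ctx P e gs ns D chk) :
    (((wordG gs [187]) * (wordG gs [122])) * (wordG gs [187])⁻¹) = (wordG gs [510]) :=
  by simpa only [wordG_app, wordG_invW, wordG_powW, wordG_nil] using c.eq zr360

theorem e44 (c : Ctx P e gs ns D chk) :
    ((wordG gs [116]) * (wordG gs [118])) = (wordG gs [514, 520]) :=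
  by simpa only [wordG_app, wordG_invW, wordG_powW, wordG_nil] using c.eq zr364

theorem hW3 (c : Ctx P e gs ns D chk) :
    (Dm gs).toD0.W3 = (subW gs [[116], [492], [122], [508], [510]]) :=
  W3_eq (hK0 c) (c.mem zm365) (mem' (e44 c) (c.mem zm363)) (c.mem zm362) (nW3 c)
    (List.forall_mem_cons.2 ⟨.inl rfl,
      List.forall_mem_cons.2 ⟨.inr (.inl (e41 c)),
      List.forall_mem_cons.2 ⟨.inr (.inr ⟨1, one_mem _, by simp [Dm]⟩),
      List.forall_mem_cons.2 ⟨.inr (.inr ⟨_, (c.mem zm359), (e42 c)⟩),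
      List.forall_mem_cons.2 ⟨.inr (.inr ⟨_, (c.mem zm361), (e43 c)⟩),
      List.forall_mem_nil _⟩⟩⟩⟩⟩)

theorem abW (c : Ctx P e gs ns D chk) :
    ∀ x ∈ (subW gs [[118], [484], [486], [488], [492]]), ∀ y ∈ (subW gs [[118], [484], [486], [488], [492]]), x * y = y * x :=
  commute_of_comR (c.rels _ zr366)

theorem eW (c : Ctx P e gs ns D chk) :
    Cfsg.IsElementaryAbelian 2 (subW gs [[118], [484], [486], [488], [492]]) :=
  elemAb_of_rels (c.rels _ zr368) (c.rels _ zr367)

theorem abW3 (c : Ctx P e gs ns D chk) :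
    ∀ x ∈ (subW gs [[116], [492], [122], [508], [510]]), ∀ y ∈ (subW gs [[116], [492], [122], [508], [510]]), x * y = y * x :=
  commute_of_comR (c.rels _ zr369)

theorem eW3 (c : Ctx P e gs ns D chk) :
    Cfsg.IsElementaryAbelian 2 (subW gs [[116], [492], [122], [508], [510]]) :=
  elemAb_of_rels (c.rels _ zr371) (c.rels _ zr370)

theorem I_pr (c : Ctx P e gs ns D chk) :
    Rels gs (pcsR I_ps []) :=
  (c.rels _ zr372)

theorem I_pe (c : Ctx P e gs ns D chk) :
    Rels gs (defRels []) :=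
  (Rels.nil _)

theorem I_pb : bnd (pcsB D I_ps []) (leB (app D []) [[526], [528], [530]] (pcGens I_ps [])) = true := zb373

theorem I_ub (c : Ctx P e gs ns D chk) :
    UB (subW gs [[526], [528], [530]]) 8 :=
  c.pcs (UB.nil gs) (I_pe c) (I_pr c) I_pb (by decide +kernel)

theorem I_c : P.chainB ns D I_vs [[526], [528], [530]] = true :=
  zc374

theorem I_o : prodL I_vs 1 = 8 := by decide +kernel

theorem I_lb (c : Ctx P e gs ns D chk) :
    LB (subW gs [[526], [528], [530]]) 8 :=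
  c.lb I_c I_o

theorem I_card (c : Ctx P e gs ns D chk) :
    Nat.card (subW gs [[526], [528], [530]]) = 8 :=
  (I_ub c).card_eq (I_lb c)

theorem cIG_c : P.chainB ns D cIG_vs [[118], [484], [486], [488], [492]] = true :=
  zc376

theorem cIG_o : prodL cIG_vs 1 = 32 := by decide +kernel

theorem cI (c : Ctx P e gs ns D chk) :
    (subW gs [[118], [484], [486], [488], [492]]) ⊓ Subgroup.centralizer (subW gs [[116], [492], [122], [508], [510]] : Set G) = (subW gs [[526], [528], [530]]) :=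
  c.cent (lx := [[116], [492], [122], [508], [510]]) (Rels.nil _) (c.sOk (c.exact cIG_c cIG_o (Wc_ub c)) zs377) (fun _ h => by cases h)
    (c.fixX zf375) (c.rels _ zr380) zm381 zs379

theorem hI (c : Ctx P e gs ns D chk) :
    (subW gs [[118], [484], [486], [488], [492]]) ⊓ (subW gs [[116], [492], [122], [508], [510]]) = (subW gs [[526], [528], [530]]) :=
  inf_eq_of_cent (cI c) (abW3 c) (c.le_of_rels (ws := [[526], [528], [530]]) (l := [[116], [492], [122], [508], [510]]) (c.rels _ zr384) zm383)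

theorem cm_c_le (c : Ctx P e gs ns D chk) :
    (subW gs [[534], [536], [538]]) ≤ ⁅(subW gs [[118], [484], [486], [488], [492]]), (subW gs [[116], [492], [122], [508], [510]])⁆ :=
  c.le_commutator (ps := zps385) (c.rels _ zr387) zm386

theorem cm (c : Ctx P e gs ns D chk) :
    ⁅(subW gs [[118], [484], [486], [488], [492]]), (subW gs [[116], [492], [122], [508], [510]])⁆ = (subW gs [[526], [528], [530]]) :=
  have hfin : Finite (subW gs [[526], [528], [530]]) := (I_ub c).1
  le_antisymm (commutator_subW_le (c.le_normalizer (cj := zcj397) hfin (c.rels _ zr399) zm398) (c.le_normalizer (cj := zcj394) hfin (c.rels _ zr396) zm395)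
    (c.le_of_rels (ws := (comWs [[118], [484], [486], [488], [492]] [[116], [492], [122], [508], [510]])) (l := [[526], [528], [530]]) (c.rels _ zr393) zm392)) ((c.le_of_rels (ws := [[526], [528], [530]]) (l := [[534], [536], [538]]) (c.rels _ zr390) zm389).trans (cm_c_le c))

theorem O2_pr (c : Ctx P e gs ns D chk) :
    Rels gs (pcsR O2_ps []) :=
  (c.rels _ zr400)

theorem O2_pe (c : Ctx P e gs ns D chk) :
    Rels gs (defRels []) :=
  (Rels.nil _)

theorem O2_pb : bnd (pcsB D O2_ps []) (leB (app D []) [[544], [546], [548], [550]] (pcGens O2_ps [])) = true := zb401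

theorem O2_ub (c : Ctx P e gs ns D chk) :
    UB (subW gs [[544], [546], [548], [550]]) 512 :=
  c.pcs (UB.nil gs) (O2_pe c) (O2_pr c) O2_pb (by decide +kernel)

theorem O2_c : P.chainB ns D O2_vs [[544], [546], [548], [550]] = true :=
  zc402

theorem O2_o : prodL O2_vs 1 = 512 := by decide +kernel

theorem O2_lb (c : Ctx P e gs ns D chk) :
    LB (subW gs [[544], [546], [548], [550]]) 512 :=
  c.lb O2_c O2_o

theorem O2_card (c : Ctx P e gs ns D chk) :
    Nat.card (subW gs [[544], [546], [548], [550]]) = 512 :=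
  (O2_ub c).card_eq (O2_lb c)

theorem cQ_P_pr (c : Ctx P e gs ns D chk) :
    Rels gs (pcsR cQ_P_ps []) :=
  (c.rels _ zr404)

theorem cQ_P_pe (c : Ctx P e gs ns D chk) :
    Rels gs (defRels zE403) :=
  (c.rels _ zr405)

theorem cQ_P_pb : bnd (pcsB D cQ_P_ps []) (leB (app D zE403) [[544], [546], [548], [550], [570]] (pcGens cQ_P_ps [])) = true := zb406

theorem cQ_P_ub (c : Ctx P e gs ns D chk) :
    UB (subW gs [[544], [546], [548], [550], [570]]) 2048 :=
  c.pcs (UB.nil gs) (cQ_P_pe c) (cQ_P_pr c) cQ_P_pb (by decide +kernel)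

theorem cQ_P_c : P.chainB ns D cQ_P_vs [[544], [546], [548], [550], [570]] = true :=
  zc407

theorem cQ_P_o : prodL cQ_P_vs 1 = 2048 := by decide +kernel

theorem cQ_P_lb (c : Ctx P e gs ns D chk) :
    LB (subW gs [[544], [546], [548], [550], [570]]) 2048 :=
  c.lb cQ_P_c cQ_P_o

theorem cQ_P_card (c : Ctx P e gs ns D chk) :
    Nat.card (subW gs [[544], [546], [548], [550], [570]]) = 2048 :=
  (cQ_P_ub c).card_eq (cQ_P_lb c)

theorem cQ_sG_c : P.chainB ns D cQ_sG_vs [[544], [546], [548], [550], [570]] = true :=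
  zc408

theorem cQ_sG_o : prodL cQ_sG_vs 1 = 2048 := by decide +kernel

theorem cQ_s (c : Ctx P e gs ns D chk) :
    ∀ g, g ∈ (subW gs [[544], [546], [548], [550]]) ↔ g ∈ (subW gs [[544], [546], [548], [550], [570]]) ∧ ∀ m ∈ cQ_s_ms, g ∈ sstab G (mset e P.n m) :=
  c.setStab (c.rels _ zr411) (c.sOk (c.exact cQ_sG_c cQ_sG_o (cQ_P_ub c)) zs409) (fun _ h => by cases h) zm414 zs413

theorem cQ (c : Ctx P e gs ns D chk) :
    Cfsg.pCoreOf 2 (subW gs [[66], [68]]) = (subW gs [[544], [546], [548], [550]]) :=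
  have hfin : Finite (subW gs [[544], [546], [548], [550]]) := Nat.finite_of_card_ne_zero (by rw [O2_card c]; norm_num)
  pCoreOf_eq (c.pCoreOf_le (p := 2) (by norm_num) (b := 5) (C0_card c) (cQ_P_card c) (by norm_num) (c.le_of_rels (ws := [[544], [546], [548], [550], [570]]) (l := [[66], [68]]) (c.rels _ zr419) zm418) zm416 (cQ_s c))
    (c.le_of_rels (ws := [[544], [546], [548], [550]]) (l := [[66], [68]]) (c.rels _ zr425) zm424) (c.le_normalizer (cj := zcj420) hfin (c.rels _ zr422) zm421) (isPGroup_of_card (O2_card c) 9 (by norm_num))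

theorem hQ (c : Ctx P e gs ns D chk) :
    Cfsg.pCoreOf 2 (Dm gs).C0 = (subW gs [[544], [546], [548], [550]]) :=
  cQ c

theorem E_c : P.chainB ns D E_vs [[604], [524], [606], [518]] = true :=
  zc426

theorem E_o : prodL E_vs 1 = 16 := by decide +kernel

theorem E_lb (c : Ctx P e gs ns D chk) :
    LB (subW gs [[604], [524], [606], [518]]) 16 :=
  c.lb E_c E_o

theorem cD (c : Ctx P e gs ns D chk) :
    Nat.card ((subW gs [[116], [492], [122], [508], [510]]) ⊓ (subW gs [[544], [546], [548], [550]]) : Subgroup G) = 16 :=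
  card_half ((W3_card c).trans (by norm_num)) (by norm_num) (E_lb c) (c.le zm432) (c.le_of_rels (ws := [[604], [524], [606], [518]]) (l := [[544], [546], [548], [550]]) (c.rels _ zr431) zm430) (c.mem zm428) (nmem c zn427)

theorem e45 (c : Ctx P e gs ns D chk) :
    ((wordG gs [6]) * (wordG gs [4])) = (wordG gs [76, 74, 94]) :=
  by simpa only [wordG_app, wordG_invW, wordG_powW, wordG_nil] using c.eq zr434

theorem e46 (c : Ctx P e gs ns D chk) :
    ((wordG gs [2]) * (wordG gs [4])) = (wordG gs (W (nat_lit 0x17c5d15c4b13443))) :=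
  by simpa only [wordG_app, wordG_invW, wordG_powW, wordG_nil] using c.eq zr436

theorem e47 (c : Ctx P e gs ns D chk) :
    ((wordG gs [0]) * (wordG gs [4])) = (wordG gs (W (nat_lit 0x5d12c4d1404a))) :=
  by simpa only [wordG_app, wordG_invW, wordG_powW, wordG_nil] using c.eq zr438

theorem n5 (c : Ctx P e gs ns D chk) :
    (wordG gs [4]) ∉ (subW gs [[66], [68]]) :=
  MdA.n5 (C0_card c) (C_card c) (mem' (e47 c) (c.mem zm437)) (mem' (e46 c) (c.mem zm435)) (mem' (e45 c) (c.mem zm433))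

theorem V_pr (c : Ctx P e gs ns D chk) :
    Rels gs (pcsR V_ps []) :=
  (c.rels _ zr439)

theorem V_pe (c : Ctx P e gs ns D chk) :
    Rels gs (defRels []) :=
  (Rels.nil _)

theorem V_pb : bnd (pcsB D V_ps []) (leB (app D []) [[4], [118], [484], [486], [488], [492]] (pcGens V_ps [])) = true := zb440

theorem V_ub (c : Ctx P e gs ns D chk) :
    UB (subW gs [[4], [118], [484], [486], [488], [492]]) 64 :=
  c.pcs (UB.nil gs) (V_pe c) (V_pr c) V_pb (by decide +kernel)

theorem V_c : P.chainB ns D V_vs [[4], [118], [484], [486], [488], [492]] = true :=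
  zc441

theorem V_o : prodL V_vs 1 = 64 := by decide +kernel

theorem V_lb (c : Ctx P e gs ns D chk) :
    LB (subW gs [[4], [118], [484], [486], [488], [492]]) 64 :=
  c.lb V_c V_o

theorem cVG_c : P.chainB ns D cVG_vs [[0], [2], [4], [6]] = true :=
  zc448

theorem cVG_o : prodL cVG_vs 1 = 20480 := by decide +kernel

theorem cV (c : Ctx P e gs ns D chk) :
    (subW gs [[0], [2], [4], [6]]) ⊓ Subgroup.centralizer (subW gs [[118], [484], [486], [488], [492]] : Set G) = (subW gs [[4], [118], [484], [486], [488], [492]]) :=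
  c.cent (lx := [[118], [484], [486], [488], [492]]) (c.rels _ zr451) (c.sOk (c.exact cVG_c cVG_o (C_ub c)) zs449) (fun _ h => by cases h)
    (c.fixX zf447) (c.rels _ zr454) zm455 zs453

theorem centC (c : Ctx P e gs ns D chk) :
    ∀ x ∈ (subW gs [[0], [2], [4], [6]]), (∀ w ∈ (subW gs [[118], [484], [486], [488], [492]]), x * w = w * x) → x ∈ (subW gs [[118], [484], [486], [488], [492]]) ∨ (wordG gs [4])⁻¹ * x ∈ (subW gs [[118], [484], [486], [488], [492]]) :=
  fun x hx h => lvl2 (pc_lvl' c.defs (V_pr c) V_pb (V_lb c) 0 (g := [4]) (l' := [[118], [484], [486], [488], [492]]) (by decide +kernel)) (cent_le (cV c) hx h)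

theorem c3G_c : P.chainB ns D c3G_vs [[66], [68]] = true :=
  zc459

theorem c3G_o : prodL c3G_vs 1 = 10240 := by decide +kernel

theorem c3 (c : Ctx P e gs ns D chk) :
    (subW gs [[66], [68]]) ⊓ Subgroup.centralizer (subW gs [[116], [492], [122], [508], [510]] : Set G) = (subW gs [[116], [492], [122], [508], [510]]) :=
  c.cent (lx := [[116], [492], [122], [508], [510]]) (Rels.nil _) (c.sOk (c.exact c3G_c c3G_o (C0_ub c)) zs460) (fun _ h => by cases h)
    (c.fixX zf458) (c.rels _ zr463) zm464 zs462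

theorem cZG_c : P.chainB ns D cZG_vs [[0], [2], [4], [6]] = true :=
  zc467

theorem cZG_o : prodL cZG_vs 1 = 20480 := by decide +kernel

theorem cZ (c : Ctx P e gs ns D chk) :
    (subW gs [[0], [2], [4], [6]]) ⊓ Subgroup.centralizer (subW gs [[66], [68]] : Set G) = (subW gs [[116]]) :=
  c.cent (lx := [[66], [68]]) (Rels.nil _) (c.sOk (c.exact cZG_c cZG_o (C_ub c)) zs468) (fun _ h => by cases h)
    (c.fixX zf466) (c.rels _ zr471) zm472 zs470

theorem zc (c : Ctx P e gs ns D chk) :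
    ∀ x ∈ (subW gs [[0], [2], [4], [6]]), ∀ y ∈ (subW gs [[116]]), x * y = y * x :=
  commute_of_comR (c.rels _ zr473)

theorem c5W (c : Ctx P e gs ns D chk) :
    ∀ x ∈ (subW gs [[4]]), ∀ y ∈ (subW gs [[118], [484], [486], [488], [492]]), x * y = y * x :=
  commute_of_comR (c.rels _ zr474)

theorem g4a_le (c : Ctx P e gs ns D chk) :
    (subW gs [[622], [624], [626], [628]]) ≤ ⁅(subW gs [[240], [242], [244], [246]]), (subW gs [[240], [242], [244], [246]])⁆ :=
  c.le_commutator (ps := zps475) (c.rels _ zr477) zm476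

theorem g4a_e (c : Ctx P e gs ns D chk) :
    ⁅(subW gs [[240], [242], [244], [246]]), (subW gs [[240], [242], [244], [246]])⁆ = (subW gs [[622], [624], [626], [628]]) :=
  have hfin : Finite (subW gs [[622], [624], [626], [628]]) := ((C_ub c).mono (c.le zm487)).1
  le_antisymm (commutator_subW_le (c.le_normalizer (cj := zcj484) hfin (c.rels _ zr486) zm485) (c.le_normalizer (cj := zcj481) hfin (c.rels _ zr483) zm482)
    (c.le_of_rels (ws := (comWs [[240], [242], [244], [246]] [[240], [242], [244], [246]])) (l := [[622], [624], [626], [628]]) (c.rels _ zr480) zm479)) (g4a_le c)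

theorem g4b_le (c : Ctx P e gs ns D chk) :
    (subW gs [[638], [640], [642]]) ≤ ⁅(subW gs [[622], [624], [626], [628]]), (subW gs [[240], [242], [244], [246]])⁆ :=
  c.le_commutator (ps := zps488) (c.rels _ zr490) zm489

theorem g4b_e (c : Ctx P e gs ns D chk) :
    ⁅(subW gs [[622], [624], [626], [628]]), (subW gs [[240], [242], [244], [246]])⁆ = (subW gs [[638], [640], [642]]) :=
  have hfin : Finite (subW gs [[638], [640], [642]]) := ((C_ub c).mono (c.le zm500)).1
  le_antisymm (commutator_subW_le (c.le_normalizer (cj := zcj497) hfin (c.rels _ zr499) zm498) (c.le_normalizer (cj := zcj494) hfin (c.rels _ zr496) zm495)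
    (c.le_of_rels (ws := (comWs [[622], [624], [626], [628]] [[240], [242], [244], [246]])) (l := [[638], [640], [642]]) (c.rels _ zr493) zm492)) (g4b_le c)

theorem g4c_c_le (c : Ctx P e gs ns D chk) :
    (subW gs [[650]]) ≤ ⁅(subW gs [[638], [640], [642]]), (subW gs [[240], [242], [244], [246]])⁆ :=
  c.le_commutator (ps := zps502) (c.rels _ zr504) zm503

theorem g4c (c : Ctx P e gs ns D chk) :
    ⁅(subW gs [[638], [640], [642]]), (subW gs [[240], [242], [244], [246]])⁆ = (subW gs [[116]]) :=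
  have hfin : Finite (subW gs [[116]]) := ((C_ub c).mono (c.le zm501)).1
  le_antisymm (commutator_subW_le (c.le_normalizer (cj := zcj514) hfin (c.rels _ zr516) zm515) (c.le_normalizer (cj := zcj511) hfin (c.rels _ zr513) zm512)
    (c.le_of_rels (ws := (comWs [[638], [640], [642]] [[240], [242], [244], [246]])) (l := [[116]]) (c.rels _ zr510) zm509)) ((c.le_of_rels (ws := [[116]]) (l := [[650]]) (c.rels _ zr507) zm506).trans (g4c_c_le c))

theorem gya_le (c : Ctx P e gs ns D chk) :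
    (subW gs [[652], [654], [656]]) ≤ ⁅(subW gs [[300], [302], [304]]), (subW gs [[300], [302], [304]])⁆ :=
  c.le_commutator (ps := zps517) (c.rels _ zr519) zm518

theorem gya_e (c : Ctx P e gs ns D chk) :
    ⁅(subW gs [[300], [302], [304]]), (subW gs [[300], [302], [304]])⁆ = (subW gs [[652], [654], [656]]) :=
  have hfin : Finite (subW gs [[652], [654], [656]]) := ((C_ub c).mono (c.le zm529)).1
  le_antisymm (commutator_subW_le (c.le_normalizer (cj := zcj526) hfin (c.rels _ zr528) zm527) (c.le_normalizer (cj := zcj523) hfin (c.rels _ zr525) zm524)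
    (c.le_of_rels (ws := (comWs [[300], [302], [304]] [[300], [302], [304]])) (l := [[652], [654], [656]]) (c.rels _ zr522) zm521)) (gya_le c)

theorem gyb_c_le (c : Ctx P e gs ns D chk) :
    (subW gs [[660]]) ≤ ⁅(subW gs [[652], [654], [656]]), (subW gs [[300], [302], [304]])⁆ :=
  c.le_commutator (ps := zps531) (c.rels _ zr533) zm532

theorem gyb (c : Ctx P e gs ns D chk) :
    ⁅(subW gs [[652], [654], [656]]), (subW gs [[300], [302], [304]])⁆ = (subW gs [[118]]) :=
  have hfin : Finite (subW gs [[118]]) := ((C_ub c).mono (c.le zm530)).1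
  le_antisymm (commutator_subW_le (c.le_normalizer (cj := zcj543) hfin (c.rels _ zr545) zm544) (c.le_normalizer (cj := zcj540) hfin (c.rels _ zr542) zm541)
    (c.le_of_rels (ws := (comWs [[652], [654], [656]] [[300], [302], [304]])) (l := [[118]]) (c.rels _ zr539) zm538)) ((c.le_of_rels (ws := [[118]]) (l := [[660]]) (c.rels _ zr536) zm535).trans (gyb_c_le c))

theorem g8a_le (c : Ctx P e gs ns D chk) :
    (subW gs [[662], [664], [666], [668]]) ≤ ⁅(subW gs [[370], [372], [374], [376], [378], [380], [382], [384]]), (subW gs [[370], [372], [374], [376], [378], [380], [382], [384]])⁆ :=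
  c.le_commutator (ps := zps546) (c.rels _ zr548) zm547

theorem g8a_e (c : Ctx P e gs ns D chk) :
    ⁅(subW gs [[370], [372], [374], [376], [378], [380], [382], [384]]), (subW gs [[370], [372], [374], [376], [378], [380], [382], [384]])⁆ = (subW gs [[662], [664], [666], [668]]) :=
  have hfin : Finite (subW gs [[662], [664], [666], [668]]) := ((C_ub c).mono (c.le zm558)).1
  le_antisymm (commutator_subW_le (c.le_normalizer (cj := zcj555) hfin (c.rels _ zr557) zm556) (c.le_normalizer (cj := zcj552) hfin (c.rels _ zr554) zm553)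
    (c.le_of_rels (ws := (comWs [[370], [372], [374], [376], [378], [380], [382], [384]] [[370], [372], [374], [376], [378], [380], [382], [384]])) (l := [[662], [664], [666], [668]]) (c.rels _ zr551) zm550)) (g8a_le c)

theorem g8b_c_le (c : Ctx P e gs ns D chk) :
    (subW gs [[670]]) ≤ ⁅(subW gs [[662], [664], [666], [668]]), (subW gs [[370], [372], [374], [376], [378], [380], [382], [384]])⁆ :=
  c.le_commutator (ps := zps560) (c.rels _ zr562) zm561

theorem g8b (c : Ctx P e gs ns D chk) :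
    ⁅(subW gs [[662], [664], [666], [668]]), (subW gs [[370], [372], [374], [376], [378], [380], [382], [384]])⁆ = (subW gs [[120]]) :=
  have hfin : Finite (subW gs [[120]]) := ((C_ub c).mono (c.le zm559)).1
  le_antisymm (commutator_subW_le (c.le_normalizer (cj := zcj572) hfin (c.rels _ zr574) zm573) (c.le_normalizer (cj := zcj569) hfin (c.rels _ zr571) zm570)
    (c.le_of_rels (ws := (comWs [[662], [664], [666], [668]] [[370], [372], [374], [376], [378], [380], [382], [384]])) (l := [[120]]) (c.rels _ zr568) zm567)) ((c.le_of_rels (ws := [[120]]) (l := [[670]]) (c.rels _ zr565) zm564).trans (g8b_c_le c))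

theorem g0a_le (c : Ctx P e gs ns D chk) :
    (subW gs [[672], [674], [676]]) ≤ ⁅(subW gs [[332], [334], [336]]), (subW gs [[332], [334], [336]])⁆ :=
  c.le_commutator (ps := zps575) (c.rels _ zr577) zm576

theorem g0a_e (c : Ctx P e gs ns D chk) :
    ⁅(subW gs [[332], [334], [336]]), (subW gs [[332], [334], [336]])⁆ = (subW gs [[672], [674], [676]]) :=
  have hfin : Finite (subW gs [[672], [674], [676]]) := ((C_ub c).mono (c.le zm587)).1
  le_antisymm (commutator_subW_le (c.le_normalizer (cj := zcj584) hfin (c.rels _ zr586) zm585) (c.le_normalizer (cj := zcj581) hfin (c.rels _ zr583) zm582)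
    (c.le_of_rels (ws := (comWs [[332], [334], [336]] [[332], [334], [336]])) (l := [[672], [674], [676]]) (c.rels _ zr580) zm579)) (g0a_le c)

theorem g0b_c_le (c : Ctx P e gs ns D chk) :
    (subW gs [[684]]) ≤ ⁅(subW gs [[672], [674], [676]]), (subW gs [[332], [334], [336]])⁆ :=
  c.le_commutator (ps := zps589) (c.rels _ zr591) zm590

theorem g0b (c : Ctx P e gs ns D chk) :
    ⁅(subW gs [[672], [674], [676]]), (subW gs [[332], [334], [336]])⁆ = (subW gs [[116]]) :=
  have hfin : Finite (subW gs [[116]]) := ((C_ub c).mono (c.le zm588)).1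
  le_antisymm (commutator_subW_le (c.le_normalizer (cj := zcj601) hfin (c.rels _ zr603) zm602) (c.le_normalizer (cj := zcj598) hfin (c.rels _ zr600) zm599)
    (c.le_of_rels (ws := (comWs [[672], [674], [676]] [[332], [334], [336]])) (l := [[116]]) (c.rels _ zr597) zm596)) ((c.le_of_rels (ws := [[116]]) (l := [[684]]) (c.rels _ zr594) zm593).trans (g0b_c_le c))

theorem Sy_c : P.chainB ns D Sy_vs [[686], [688], [690], [692], [694], [696], [698], [700], [702], [704], [706], [708]] = true :=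
  zc604

theorem Sy_o : prodL Sy_vs 1 = 4096 := by decide +kernel

theorem Sy_lb (c : Ctx P e gs ns D chk) :
    LB (subW gs [[686], [688], [690], [692], [694], [696], [698], [700], [702], [704], [706], [708]]) 4096 :=
  c.lb Sy_c Sy_o

theorem Sy_pr (c : Ctx P e gs ns D chk) :
    Rels gs (pcsR Sy_ps []) :=
  (c.rels _ zr605)

theorem Sy_pe (c : Ctx P e gs ns D chk) :
    Rels gs (defRels []) :=
  (Rels.nil _)

theorem Sy_pb : bnd (pcsB D Sy_ps []) (leB (app D []) [[686], [688], [690], [692], [694], [696], [698], [700], [702], [704], [706], [708]] (pcGens Sy_ps [])) = true := zb606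

theorem Sy_ub (c : Ctx P e gs ns D chk) :
    UB (subW gs [[686], [688], [690], [692], [694], [696], [698], [700], [702], [704], [706], [708]]) 4096 :=
  c.pcs (UB.nil gs) (Sy_pe c) (Sy_pr c) Sy_pb (by decide +kernel)

theorem Sy_card (c : Ctx P e gs ns D chk) :
    Nat.card (subW gs [[686], [688], [690], [692], [694], [696], [698], [700], [702], [704], [706], [708]]) = 4096 :=
  (Sy_ub c).card_eq (Sy_lb c)

theorem v_le0 (c : Ctx P e gs ns D chk) :
    (subW gs [[686], [688], [690], [692], [694], [696], [698], [700], [702], [704], [706], [708]]) ≤ (subW gs [[0], [2], [4], [6]]) :=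
  (c.le_of_rels (ws := [[686], [688], [690], [692], [694], [696], [698], [700], [702], [704], [706], [708]]) (l := [[0], [2], [4], [6]]) (c.rels _ zr612) zm611)

theorem v0 (c : Ctx P e gs ns D chk) :
    Cov 2 (subW gs [[686], [688], [690], [692], [694], [696], [698], [700], [702], [704], [706], [708]]) (subW gs [[0], [2], [4], [6]]) gs v0_R (subW gs [[688], [690], [692], [694], [696], [698], [700], [702], [704], [706], [708]]) :=
  Cov.step' (q := 2) (g := [686]) c.defs (by norm_num) (Cov.init 2 (subW gs [[686], [688], [690], [692], [694], [696], [698], [700], [702], [704], [706], [708]]) (subW gs [[0], [2], [4], [6]]) gs)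
    (pc_lvl' c.defs (Sy_pr c) Sy_pb (Sy_lb c) 0 (by decide +kernel))
    (c.le_normalizer (cj := zcj613) (((Sy_ub c).mono (c.le zm616)).1) (c.rels _ zr615) zm614) (v_le0 c)
    (c.rels _ zr608) zb609 zq607

theorem v1 (c : Ctx P e gs ns D chk) :
    Cov 2 (subW gs [[686], [688], [690], [692], [694], [696], [698], [700], [702], [704], [706], [708]]) (subW gs [[0], [2], [4], [6]]) gs v1_R (subW gs [[690], [692], [694], [696], [698], [700], [702], [704], [706], [708]]) :=
  Cov.step' (q := 2) (g := [688]) c.defs (by norm_num) (v0 c)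
    (pc_lvl' c.defs (Sy_pr c) Sy_pb (Sy_lb c) 1 (by decide +kernel))
    (c.le_normalizer (cj := zcj620) (((Sy_ub c).mono (c.le zm623)).1) (c.rels _ zr622) zm621) (v_le0 c)
    (c.rels _ zr618) zb619 zq617

theorem v2 (c : Ctx P e gs ns D chk) :
    Cov 2 (subW gs [[686], [688], [690], [692], [694], [696], [698], [700], [702], [704], [706], [708]]) (subW gs [[0], [2], [4], [6]]) gs v2_R (subW gs [[692], [694], [696], [698], [700], [702], [704], [706], [708]]) :=
  Cov.step' (q := 2) (g := [690]) c.defs (by norm_num) (v1 c)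
    (pc_lvl' c.defs (Sy_pr c) Sy_pb (Sy_lb c) 2 (by decide +kernel))
    (c.le_normalizer (cj := zcj627) (((Sy_ub c).mono (c.le zm630)).1) (c.rels _ zr629) zm628) (v_le0 c)
    (c.rels _ zr625) zb626 zq624

theorem v3 (c : Ctx P e gs ns D chk) :
    Cov 2 (subW gs [[686], [688], [690], [692], [694], [696], [698], [700], [702], [704], [706], [708]]) (subW gs [[0], [2], [4], [6]]) gs v3_R (subW gs [[694], [696], [698], [700], [702], [704], [706], [708]]) :=
  Cov.step' (q := 2) (g := [692]) c.defs (by norm_num) (v2 c)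
    (pc_lvl' c.defs (Sy_pr c) Sy_pb (Sy_lb c) 3 (by decide +kernel))
    (c.le_normalizer (cj := zcj634) (((Sy_ub c).mono (c.le zm637)).1) (c.rels _ zr636) zm635) (v_le0 c)
    (c.rels _ zr632) zb633 zq631

theorem v4 (c : Ctx P e gs ns D chk) :
    Cov 2 (subW gs [[686], [688], [690], [692], [694], [696], [698], [700], [702], [704], [706], [708]]) (subW gs [[0], [2], [4], [6]]) gs v4_R (subW gs [[696], [698], [700], [702], [704], [706], [708]]) :=
  Cov.step' (q := 2) (g := [694]) c.defs (by norm_num) (v3 c)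
    (pc_lvl' c.defs (Sy_pr c) Sy_pb (Sy_lb c) 4 (by decide +kernel))
    (c.le_normalizer (cj := zcj641) (((Sy_ub c).mono (c.le zm644)).1) (c.rels _ zr643) zm642) (v_le0 c)
    (c.rels _ zr639) zb640 zq638

theorem v5 (c : Ctx P e gs ns D chk) :
    Cov 2 (subW gs [[686], [688], [690], [692], [694], [696], [698], [700], [702], [704], [706], [708]]) (subW gs [[0], [2], [4], [6]]) gs v5_R (subW gs [[698], [700], [702], [704], [706], [708]]) :=
  Cov.step' (q := 2) (g := [696]) c.defs (by norm_num) (v4 c)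
    (pc_lvl' c.defs (Sy_pr c) Sy_pb (Sy_lb c) 5 (by decide +kernel))
    (c.le_normalizer (cj := zcj648) (((Sy_ub c).mono (c.le zm651)).1) (c.rels _ zr650) zm649) (v_le0 c)
    (c.rels _ zr646) zb647 zq645

theorem v6 (c : Ctx P e gs ns D chk) :
    Cov 2 (subW gs [[686], [688], [690], [692], [694], [696], [698], [700], [702], [704], [706], [708]]) (subW gs [[0], [2], [4], [6]]) gs v6_R (subW gs [[700], [702], [704], [706], [708]]) :=
  Cov.step' (q := 2) (g := [698]) c.defs (by norm_num) (v5 c)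
    (pc_lvl' c.defs (Sy_pr c) Sy_pb (Sy_lb c) 6 (by decide +kernel))
    (c.le_normalizer (cj := zcj655) (((Sy_ub c).mono (c.le zm658)).1) (c.rels _ zr657) zm656) (v_le0 c)
    (c.rels _ zr653) zb654 zq652

theorem v7 (c : Ctx P e gs ns D chk) :
    Cov 2 (subW gs [[686], [688], [690], [692], [694], [696], [698], [700], [702], [704], [706], [708]]) (subW gs [[0], [2], [4], [6]]) gs v7_R (subW gs [[702], [704], [706], [708]]) :=
  Cov.step' (q := 2) (g := [700]) c.defs (by norm_num) (v6 c)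
    (pc_lvl' c.defs (Sy_pr c) Sy_pb (Sy_lb c) 7 (by decide +kernel))
    (c.le_normalizer (cj := zcj662) (((Sy_ub c).mono (c.le zm665)).1) (c.rels _ zr664) zm663) (v_le0 c)
    (c.rels _ zr660) zb661 zq659

theorem v8 (c : Ctx P e gs ns D chk) :
    Cov 2 (subW gs [[686], [688], [690], [692], [694], [696], [698], [700], [702], [704], [706], [708]]) (subW gs [[0], [2], [4], [6]]) gs v8_R (subW gs [[704], [706], [708]]) :=
  Cov.step' (q := 2) (g := [702]) c.defs (by norm_num) (v7 c)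
    (pc_lvl' c.defs (Sy_pr c) Sy_pb (Sy_lb c) 8 (by decide +kernel))
    (c.le_normalizer (cj := zcj669) (((Sy_ub c).mono (c.le zm672)).1) (c.rels _ zr671) zm670) (v_le0 c)
    (c.rels _ zr667) zb668 zq666

theorem v9 (c : Ctx P e gs ns D chk) :
    Cov 2 (subW gs [[686], [688], [690], [692], [694], [696], [698], [700], [702], [704], [706], [708]]) (subW gs [[0], [2], [4], [6]]) gs v9_R (subW gs [[706], [708]]) :=
  Cov.step' (q := 2) (g := [704]) c.defs (by norm_num) (v8 c)
    (pc_lvl' c.defs (Sy_pr c) Sy_pb (Sy_lb c) 9 (by decide +kernel))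
    (c.le_normalizer (cj := zcj676) (((Sy_ub c).mono (c.le zm679)).1) (c.rels _ zr678) zm677) (v_le0 c)
    (c.rels _ zr674) zb675 zq673

theorem v10 (c : Ctx P e gs ns D chk) :
    Cov 2 (subW gs [[686], [688], [690], [692], [694], [696], [698], [700], [702], [704], [706], [708]]) (subW gs [[0], [2], [4], [6]]) gs v10_R (subW gs [[708]]) :=
  Cov.step' (q := 2) (g := [706]) c.defs (by norm_num) (v9 c)
    (pc_lvl' c.defs (Sy_pr c) Sy_pb (Sy_lb c) 10 (by decide +kernel))
    (c.le_normalizer (cj := zcj683) (((Sy_ub c).mono (c.le zm686)).1) (c.rels _ zr685) zm684) (v_le0 c)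
    (c.rels _ zr681) zb682 zq680

theorem v11 (c : Ctx P e gs ns D chk) :
    Cov 2 (subW gs [[686], [688], [690], [692], [694], [696], [698], [700], [702], [704], [706], [708]]) (subW gs [[0], [2], [4], [6]]) gs v11_R (subW gs []) :=
  Cov.step' (q := 2) (g := [708]) c.defs (by norm_num) (v10 c)
    (pc_lvl' c.defs (Sy_pr c) Sy_pb (Sy_lb c) 11 (by decide +kernel))
    (le_normalizer_nil gs _) (v_le0 c)
    (c.rels _ zr688) zb689 zq687

theorem v12 (c : Ctx P e gs ns D chk) :
    Cov 2 (subW gs [[686], [688], [690], [692], [694], [696], [698], [700], [702], [704], [706], [708]]) (subW gs [[0], [2], [4], [6]]) gs v12_R (subW gs []) :=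
  Cov.fuse c.defs (v11 c) (le_normalizer_nil gs _) (c.le zm692)
    (c.rels _ zr690) zb691

theorem v_cls (c : Ctx P e gs ns D chk) :
    Cls 2 (subW gs [[686], [688], [690], [692], [694], [696], [698], [700], [702], [704], [706], [708]]) (subW gs [[0], [2], [4], [6]]) gs [[], [116], [118], [124], [122], [736], [126]] :=
  (v12 c).cls

theorem e48 (c : Ctx P e gs ns D chk) :
    (wordG gs [736]) = ((wordG gs [122]) * (wordG gs [116])) :=
  by simpa only [wordG_app, wordG_invW, wordG_powW, wordG_nil] using c.eq zr693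

theorem cls (c : Ctx P e gs ns D chk) :
    ∀ t ∈ (subW gs [[0], [2], [4], [6]]), t * t = 1 → ∃ x ∈ (subW gs [[0], [2], [4], [6]]), (fun s : G => s = 1 ∨ s = (wordG gs [116]) ∨ s = (wordG gs [118]) ∨ s = (wordG gs [124]) ∨ s = (wordG gs [122]) ∨ s = (wordG gs [122]) * (wordG gs [116]) ∨ s = (wordG gs [126])) (x * t * x⁻¹) :=
  have hfin := (C_ub c).1
  cls_of ((v_cls c).up (k := 12) Nat.prime_two (C_card c) (by decide +kernel) ((Sy_card c).trans (by norm_num)) (c.le zm694)) (P := fun s : G => s = 1 ∨ s = (wordG gs [116]) ∨ s = (wordG gs [118]) ∨ s = (wordG gs [124]) ∨ s = (wordG gs [122]) ∨ s = (wordG gs [122]) * (wordG gs [116]) ∨ s = (wordG gs [126]))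
    (List.forall_mem_cons.2 ⟨.inl rfl,
      List.forall_mem_cons.2 ⟨.inr (.inl rfl),
      List.forall_mem_cons.2 ⟨.inr (.inr (.inl rfl)),
      List.forall_mem_cons.2 ⟨.inr (.inr (.inr (.inl rfl))),
      List.forall_mem_cons.2 ⟨.inr (.inr (.inr (.inr (.inl rfl)))),
      List.forall_mem_cons.2 ⟨.inr (.inr (.inr (.inr (.inr (.inl (e48 c)))))),
      List.forall_mem_cons.2 ⟨.inr (.inr (.inr (.inr (.inr (.inr rfl))))),
      List.forall_mem_nil _⟩⟩⟩⟩⟩⟩⟩)

theorem e49 (c : Ctx P e gs ns D chk) :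
    ((wordG gs [118]) * (wordG gs [118])) = (1 : G) :=
  by simpa only [wordG_app, wordG_invW, wordG_powW, wordG_nil] using c.eq zr699

theorem e50 (c : Ctx P e gs ns D chk) :
    (wordG gs [118]) ≠ (wordG gs [116]) :=
  ne' (by simpa only [wordG_app, wordG_invW, wordG_powW, wordG_nil] using c.ne_one zn700)

theorem e51 (c : Ctx P e gs ns D chk) :
    ((wordG gs [118]) * (wordG gs [120])) = ((wordG gs [120]) * (wordG gs [118])) :=
  by simpa only [wordG_app, wordG_invW, wordG_powW, wordG_nil] using c.eq zr701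

theorem e52 (c : Ctx P e gs ns D chk) :
    ((wordG gs [118]) * (wordG gs [122])) = ((wordG gs [122]) * (wordG gs [118])) :=
  by simpa only [wordG_app, wordG_invW, wordG_powW, wordG_nil] using c.eq zr702

theorem e53 (c : Ctx P e gs ns D chk) :
    ((wordG gs [122]) * (wordG gs [120])) ≠ ((wordG gs [120]) * (wordG gs [122])) :=
  ne' (by simpa only [wordG_app, wordG_invW, wordG_powW, wordG_nil] using c.ne_one zn703)

theorem e54 (c : Ctx P e gs ns D chk) :
    (((wordG gs (W (nat_lit 0x5b12c4e1444a))) * (wordG gs [118])) * (wordG gs (W (nat_lit 0x5b12c4e1444a)))⁻¹) = ((wordG gs [116]) * (wordG gs [118])) :=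
  by simpa only [wordG_app, wordG_invW, wordG_powW, wordG_nil] using c.eq zr704

theorem e55 (c : Ctx P e gs ns D chk) :
    (((wordG gs (W (nat_lit 0x16c5d1444d10c43))) * (wordG gs [118])) * (wordG gs (W (nat_lit 0x16c5d1444d10c43)))⁻¹) = (wordG gs [120]) :=
  by simpa only [wordG_app, wordG_invW, wordG_powW, wordG_nil] using c.eq zr706

theorem e56 (c : Ctx P e gs ns D chk) :
    ((wordG gs [0]) * (wordG gs [4])) = (wordG gs (W (nat_lit 0x5d12c4d1404a))) :=
  by simpa only [wordG_app, wordG_invW, wordG_powW, wordG_nil] using c.eq zr716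

theorem e57 (c : Ctx P e gs ns D chk) :
    ((wordG gs [6]) * (wordG gs [4])) = (wordG gs [76, 74, 94]) :=
  by simpa only [wordG_app, wordG_invW, wordG_powW, wordG_nil] using c.eq zr718

theorem gya_pr (c : Ctx P e gs ns D chk) :
    Rels gs (pcsR gya_ps []) :=
  (c.rels _ zr720)

theorem gya_pe (c : Ctx P e gs ns D chk) :
    Rels gs (defRels zE719) :=
  (c.rels _ zr721)

theorem gya_pb : bnd (pcsB D gya_ps []) (leB (app D zE719) [[652], [654], [656]] (pcGens gya_ps [])) = true := zb722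

theorem gya_ub (c : Ctx P e gs ns D chk) :
    UB (subW gs [[652], [654], [656]]) 8 :=
  c.pcs (UB.nil gs) (gya_pe c) (gya_pr c) gya_pb (by decide +kernel)

theorem gyax_c : P.chainB ns D gyax_vs [[116], [652], [654], [656]] = true :=
  zc723

theorem gyax_o : prodL gyax_vs 1 = 16 := by decide +kernel

theorem gyax_lb (c : Ctx P e gs ns D chk) :
    LB (subW gs [[116], [652], [654], [656]]) 16 :=
  c.lb gyax_c gyax_o

theorem e58 (c : Ctx P e gs ns D chk) :
    (wordG gs [126]) = (wordG gs [668, 662, 666]) :=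
  by simpa only [wordG_app, wordG_invW, wordG_powW, wordG_nil] using c.eq zr725

theorem g0a_pr (c : Ctx P e gs ns D chk) :
    Rels gs (pcsR g0a_ps []) :=
  (c.rels _ zr727)

theorem g0a_pe (c : Ctx P e gs ns D chk) :
    Rels gs (defRels zE726) :=
  (c.rels _ zr728)

theorem g0a_pb : bnd (pcsB D g0a_ps []) (leB (app D zE726) [[672], [674], [676]] (pcGens g0a_ps [])) = true := zb729

theorem g0a_ub (c : Ctx P e gs ns D chk) :
    UB (subW gs [[672], [674], [676]]) 8 :=
  c.pcs (UB.nil gs) (g0a_pe c) (g0a_pr c) g0a_pb (by decide +kernel)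

theorem g0ax_c : P.chainB ns D g0ax_vs [[120], [672], [674], [676]] = true :=
  zc730

theorem g0ax_o : prodL g0ax_vs 1 = 16 := by decide +kernel

theorem g0ax_lb (c : Ctx P e gs ns D chk) :
    LB (subW gs [[120], [672], [674], [676]]) 16 :=
  c.lb g0ax_c g0ax_o

theorem e59 (c : Ctx P e gs ns D chk) :
    (((wordG gs (W (nat_lit 0xac270840f06009))) * (wordG gs [122])) * (wordG gs (W (nat_lit 0xac270840f06009)))⁻¹) = ((wordG gs [122]) * (wordG gs [118])) :=
  by simpa only [wordG_app, wordG_invW, wordG_powW, wordG_nil] using c.eq zr731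

theorem e60 (c : Ctx P e gs ns D chk) :
    (((wordG gs [20, 18, 16, 32]) * (wordG gs [126])) * (wordG gs [20, 18, 16, 32])⁻¹) = ((wordG gs [126]) * (wordG gs [120])) :=
  by simpa only [wordG_app, wordG_invW, wordG_powW, wordG_nil] using c.eq zr733

theorem e61 (c : Ctx P e gs ns D chk) :
    (((wordG gs (W (nat_lit 0xac270441402403))) * ((wordG gs [120]) * (wordG gs [118]))) * (wordG gs (W (nat_lit 0xac270441402403)))⁻¹) = (wordG gs [124]) :=
  by simpa only [wordG_app, wordG_invW, wordG_powW, wordG_nil] using c.eq zr735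

theorem e62 (c : Ctx P e gs ns D chk) :
    ((wordG gs [0]) * (wordG gs [0])) = (wordG gs [122]) :=
  by simpa only [wordG_app, wordG_invW, wordG_powW, wordG_nil] using c.eq zr737

theorem e63 (c : Ctx P e gs ns D chk) :
    ((wordG gs [4]) * (wordG gs [4])) = (wordG gs [116]) :=
  by simpa only [wordG_app, wordG_invW, wordG_powW, wordG_nil] using c.eq zr738

theorem e64 (c : Ctx P e gs ns D chk) :
    ((wordG gs [6]) * (wordG gs [6])) = (wordG gs [120]) :=
  by simpa only [wordG_app, wordG_invW, wordG_powW, wordG_nil] using c.eq zr739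

theorem e65 (c : Ctx P e gs ns D chk) :
    ((wordG gs [0]) * (wordG gs [118])) = ((wordG gs [118]) * (wordG gs [0])) :=
  by simpa only [wordG_app, wordG_invW, wordG_powW, wordG_nil] using c.eq zr740

theorem e66 (c : Ctx P e gs ns D chk) :
    ((wordG gs [6]) * (wordG gs [118])) = ((wordG gs [118]) * (wordG gs [6])) :=
  by simpa only [wordG_app, wordG_invW, wordG_powW, wordG_nil] using c.eq zr741

theorem e67 (c : Ctx P e gs ns D chk) :
    ((wordG gs [4]) * (wordG gs [122])) = ((wordG gs [122]) * (wordG gs [4])) :=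
  by simpa only [wordG_app, wordG_invW, wordG_powW, wordG_nil] using c.eq zr742

theorem e68 (c : Ctx P e gs ns D chk) :
    (((wordG gs [128]) * (wordG gs [0])) * (wordG gs [128])⁻¹) = (wordG gs [2]) :=
  by simpa only [wordG_app, wordG_invW, wordG_powW, wordG_nil] using c.eq zr743

theorem e69 (c : Ctx P e gs ns D chk) :
    ((wordG gs [128]) ^ 5) = (1 : G) :=
  by simpa only [wordG_app, wordG_invW, wordG_powW, wordG_nil] using c.eq zr747

theorem e70 (c : Ctx P e gs ns D chk) :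
    (wordG gs [128]) ≠ (1 : G) :=
  ne' (by simpa only [wordG_app, wordG_invW, wordG_powW, wordG_nil] using c.ne_one zn748)

theorem e71 (c : Ctx P e gs ns D chk) :
    (((wordG gs [0]) * (wordG gs [128])) * (wordG gs [0])⁻¹) = ((wordG gs [128]) ^ 2) :=
  by simpa only [wordG_app, wordG_invW, wordG_powW, wordG_nil] using c.eq zr749

theorem ft (c : Ctx P e gs ns D chk) : FT (Dm gs).toD0 where
  mz := (c.mem zm695)
  mq := (c.mem zm696)
  mr := (c.mem zm697)
  my := (c.mem zm698)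
  cC0 := C0_card c
  zc0 := fun x hx => zc c x (le0 c hx) _ (mem_subW List.mem_cons_self)
  z2 := (e0 c)
  z1 := (e1 c)
  q2 := (e49 c)
  q1 := (e2 c)
  qz := (e50 c)
  qr := (e51 c)
  qy := (e52 c)
  yr := (e53 c)
  cls0 := fun x hx => cls0 c x (le0 c hx)
  hq := ⟨_, (c.mem zm705), (e54 c)⟩
  rc := ⟨_, (c.mem zm707), (e55 c)⟩
  cK0 := by rw [hK0 c]; exact K0_card c
  cW := by rw [hW c]; exact W_card c
  cI := by rw [hW c, hW3 c, hI c]; exact I_card c
  cD := by rw [hW3 c, hQ c]; exact cD c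
  cQ := by rw [hQ c]; exact O2_card c
  abW := by rw [hW c]; exact abW c
  sqW := by rw [hW c]; exact sq_of (eW c)
  cent0 := by rw [hW c]; exact cent0 (le0 c) (c.le zm708) (n5 c) (centC c)
  cm := by rw [hW c, hW3 c, hI c]; exact cm c

theorem fc (c : Ctx P e gs ns D chk) : FC (Dm gs) where
  ft := ft c
  le0 := le0 c
  m4 := (c.mem zm709)
  m8 := (c.mem zm710)
  mf := (c.mem zm711)
  m1 := (c.mem zm712)
  m5 := (c.mem zm713)
  m7 := (c.mem zm714)
  n1 := nx (mem' (e56 c) (c.mem zm715)) (n5 c)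
  n5 := n5 c
  n7 := nx (mem' (e57 c) (c.mem zm717)) (n5 c)
  cC := C_card c
  zc := fun x hx => zc c x hx _ (mem_subW List.mem_cons_self)
  Zc := fun x hx h => (CL.NGrp.Tits.mem_zp2 (e0 c)).1 ((subW_single gs _).le (cent_le (cZ c) hx h))
  cls := cls c
  y2 := (e3 c)
  cKq := by rw [hKq c]; exact Kq_card c
  cK4 := by rw [hK4 c]; exact K4_card c
  cKy := by rw [hKy c]; exact Ky_card c
  cK8 := by rw [hK8 c]; exact K8_card c
  cA0 := by rw [hA0 c]; exact A0_card c
  g4 := by rw [hK4 c, g4a_e c, g4b_e c, g4c c]; exact subW_single _ _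
  gy := by rw [hKy c, gya_e c, gyb c]; exact subW_single _ _
  g8 := by rw [hK8 c, g8a_e c, g8b c]; exact subW_single _ _
  g0 := by rw [hA0 c, g0a_e c, g0b c]; exact subW_single _ _
  zy := by rw [hKy c, gya_e c]; exact (nmem_lb (gya_ub c) (gyax_lb c) (by norm_num))
  u8m := by rw [hK8 c, g8a_e c]; exact (mem' (e58 c) (c.mem zm724))
  r0 := by rw [hA0 c, g0a_e c]; exact (nmem_lb (g0a_ub c) (g0ax_lb c) (by norm_num))
  yq := ⟨_, (c.mem zm732), (e59 c)⟩
  u8r := ⟨_, (c.mem zm734), (e60 c)⟩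
  rq := ⟨_, (c.mem zm736), (e61 c)⟩
  s1 := (e62 c)
  s5 := (e63 c)
  s7 := (e64 c)
  x1q := (e65 c)
  x7q := (e66 c)
  x5y := (e67 c)
  x5W := by rw [hW c]; exact c5W c _ (mem_subW List.mem_cons_self)
  genC := gen4 (e68 c)
  genQ := (hKq c).trans (gen3 _ _ _)
  Kyq := by rw [hKy c, hKq c]; exact (c.le_of_rels (ws := [[300], [302], [304]]) (l := [[0], [4], [6]]) (c.rels _ zr746) zm745)
  f5 := (e69 c)
  f1 := (e70 c)
  xf := (e71 c)
  clsf := clsf c
  centC := by rw [hW c]; exact centC c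
  cent3 := by rw [hW3 c]; exact fun x hx h => sq_of (eW3 c) x (cent_le (c3 c) hx h)
  ny := nrY0 c
  nr := by rw [hK0 c]; exact nrR0 c
  n8 := nrK8 c

theorem C2_c : P.chainB ns D C2_vs [[758], [760], [762], [764]] = true :=
  zc750

theorem C2_o : prodL C2_vs 1 = 20480 := by decide +kernel

theorem C2_lb (c : Ctx P e gs ns D chk) :
    LB (subW gs [[758], [760], [762], [764]]) 20480 :=
  c.lb C2_c C2_o

theorem hC2 (c : Ctx P e gs ns D chk) :
    (subW gs [[758], [760], [762], [764]]) = (subW gs [[0], [2], [4], [6]]) :=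
  UB.eq_of_lb (C_ub c) (C2_lb c) (c.le zm751)

theorem e72 (c : Ctx P e gs ns D chk) :
    (wordG gs (subs [[758], [760], [762], [764]] [4, 4])) = (wordG gs [116]) :=
  by simpa only [wordG_app, wordG_invW, wordG_powW, wordG_nil] using c.eq zr752

theorem e73 (c : Ctx P e gs ns D chk) :
    (wordG gs (subs [[0], [2], [4], [6]] [4, 4])) = (wordG gs [116]) :=
  by simpa only [wordG_app, wordG_invW, wordG_powW, wordG_nil] using c.eq zr753

theorem sgz (c : Ctx P e gs ns D chk) :
    ∃ w, wordG gs (subs [[0], [2], [4], [6]] w) = (Dm gs).z ∧ wordG gs (subs [[758], [760], [762], [764]] w) = (Dm gs).z :=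
  ⟨[4, 4], (e73 c), (e72 c)⟩

theorem e74 (c : Ctx P e gs ns D chk) :
    (wordG gs (subs [[758], [760], [762], [764]] [2, 2, 6, 6, 2, 2])) = (wordG gs [118]) :=
  by simpa only [wordG_app, wordG_invW, wordG_powW, wordG_nil] using c.eq zr754

theorem e75 (c : Ctx P e gs ns D chk) :
    (wordG gs (subs [[0], [2], [4], [6]] [2, 2, 6, 6, 2, 2])) = (wordG gs [118]) :=
  by simpa only [wordG_app, wordG_invW, wordG_powW, wordG_nil] using c.eq zr755

theorem sgq (c : Ctx P e gs ns D chk) :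
    ∃ w, wordG gs (subs [[0], [2], [4], [6]] w) = (Dm gs).q ∧ wordG gs (subs [[758], [760], [762], [764]] w) = (Dm gs).q :=
  ⟨[2, 2, 6, 6, 2, 2], (e75 c), (e74 c)⟩

theorem e76 (c : Ctx P e gs ns D chk) :
    (wordG gs (subs [[758], [760], [762], [764]] [6, 6])) = (wordG gs [120]) :=
  by simpa only [wordG_app, wordG_invW, wordG_powW, wordG_nil] using c.eq zr756

theorem e77 (c : Ctx P e gs ns D chk) :
    (wordG gs (subs [[0], [2], [4], [6]] [6, 6])) = (wordG gs [120]) :=
  by simpa only [wordG_app, wordG_invW, wordG_powW, wordG_nil] using c.eq zr757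

theorem sgr (c : Ctx P e gs ns D chk) :
    ∃ w, wordG gs (subs [[0], [2], [4], [6]] w) = (Dm gs).r ∧ wordG gs (subs [[758], [760], [762], [764]] w) = (Dm gs).r :=
  ⟨[6, 6], (e77 c), (e76 c)⟩

theorem e78 (c : Ctx P e gs ns D chk) :
    (wordG gs (subs [[758], [760], [762], [764]] [0, 0])) = ((wordG gs [122]) * (wordG gs [116])) :=
  by simpa only [wordG_app, wordG_invW, wordG_powW, wordG_nil] using c.eq zr758

theorem e79 (c : Ctx P e gs ns D chk) :
    (wordG gs (subs [[0], [2], [4], [6]] [0, 0])) = (wordG gs [122]) :=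
  by simpa only [wordG_app, wordG_invW, wordG_powW, wordG_nil] using c.eq zr759

theorem sgy (c : Ctx P e gs ns D chk) :
    ∃ w, wordG gs (subs [[0], [2], [4], [6]] w) = (Dm gs).y ∧ wordG gs (subs [[758], [760], [762], [764]] w) = (Dm gs).y * (Dm gs).z :=
  ⟨[0, 0], (e79 c), (e78 c)⟩

theorem e80 (c : Ctx P e gs ns D chk) :
    (wordG gs (subs [[0], [2], [4], [6]] [4, 4])) = (wordG gs [116]) :=
  by simpa only [wordG_app, wordG_invW, wordG_powW, wordG_nil] using c.eq zr760

theorem wz (c : Ctx P e gs ns D chk) :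
    wordG gs (subs [[0], [2], [4], [6]] [4, 4]) = (Dm gs).z :=
  (e80 c)

end
end CL.RF2.MT

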